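import Cfsg.Agent.Lib.UnitMult.StepStab
import Cfsg.Agent.Lib.OrthMult.Transport
import Cfsg.Agent.Lib.Chev.StStem

/-!
# Stem extensions of `SU n` from those of `SU (n - 1)`

For `n ≥ 6`, other than `(n, q) = (6, 2)`, the kernel of a stem extension of `SU n` lies in the
derived preimage of the stabiliser of a vector of norm one.
-/

set_option autoImplicit false

namespace Cfsg.Lib.UnitMult.Step

open Module Cfsg.Lib.Linear Cfsg.Lib.Linear.Herm
open scoped Matrix commutatorElement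

universe u v

variable {F : Type u} [Field F] [Fintype F] {q n : ℕ} {E : Type v} [Group E]
  (σ : E →* ↥(Cfsg.SU n F q))

/-- The derived preimage of the stabiliser of a set of vectors. -/
noncomputable def der (s : Set (Fin n → F)) : Subgroup E :=
  ⁅(Fix n F q s).comap σ, (Fix n F q s).comap σ⁆

omit [Fintype F] in
theorem der_le (s : Set (Fin n → F)) : der σ s ≤ (Fix n F q s).comap σ :=
  Subgroup.commutator_le.2 fun a ha b hb => by
    rw [commutatorElement_def]
    exact mul_mem (mul_mem (mul_mem ha hb) (inv_mem ha)) (inv_mem hb)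

omit [Fintype F] in
theorem der_fix {s : Set (Fin n → F)} {d : E} (hd : d ∈ der σ s) {x : Fin n → F} (hx : x ∈ s) :
    suToLin n F q (σ d) x = x := der_le σ s hd x hx

omit [Fintype F] in
theorem der_mono {s t : Set (Fin n → F)} (h : s ⊆ t) : der σ t ≤ der σ s :=
  Subgroup.commutator_mono (Subgroup.comap_mono (fix_mono h)) (Subgroup.comap_mono (fix_mono h))

omit [Fintype F] in
theorem conj_der (e : E) (x : Fin n → F) {d : E} (hd : d ∈ der σ {x}) :
    e * d * e⁻¹ ∈ der σ {suToLin n F q (σ e) x} := by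
  have hle : ((Fix n F q {x}).comap σ).map (MulAut.conj e).toMonoidHom ≤
      (Fix n F q {suToLin n F q (σ e) x}).comap σ := by
    rintro _ ⟨k, hk, rfl⟩ y hy
    rw [Set.mem_singleton_iff.1 hy]
    show suToLin n F q (σ (e * k * e⁻¹)) (suToLin n F q (σ e) x) = _
    rw [← LinearEquiv.mul_apply, ← map_mul, ← map_mul, inv_mul_cancel_right, map_mul, map_mul,
      LinearEquiv.mul_apply, show suToLin n F q (σ k) x = x from hk x rfl]
  have := Subgroup.mem_map_of_mem (MulAut.conj e).toMonoidHom hd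
  rw [der, Subgroup.map_commutator] at this
  exact Subgroup.commutator_mono hle hle this

omit [Fintype F] in
theorem exists_der (hs : Function.Surjective σ) {s : Set (Fin n → F)}
    (hp : ⁅Fix n F q s, Fix n F q s⁆ = Fix n F q s) {g : Cfsg.SU n F q} (hg : g ∈ Fix n F q s) :
    ∃ d ∈ der σ s, σ d = g := by
  have : (der σ s).map σ = Fix n F q s := by
    rw [der, Subgroup.map_commutator, Subgroup.map_comap_eq_self_of_surjective hs, hp]
  rw [← this] at hg
  exact hg

/-- The derived preimage mapped onto the stabiliser. -/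
noncomputable def derHom (s : Set (Fin n → F)) : der σ s →* ↥(Fix n F q s) :=
  (σ.comp (der σ s).subtype).codRestrict _ fun d => der_le σ s d.2

omit [Fintype F] in
theorem derHom_stem (hs : Function.Surjective σ) (hc : σ.ker ≤ Subgroup.center E)
    {s : Set (Fin n → F)} (hp : ⁅Fix n F q s, Fix n F q s⁆ = Fix n F q s) :
    Cfsg.IsStemExtension (derHom σ s) := by
  have hρs : Function.Surjective (derHom σ s) := fun g => by
    obtain ⟨d, hd, hdg⟩ := exists_der σ hs hp g.2
    exact ⟨⟨d, hd⟩, Subtype.ext hdg⟩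
  have hρc : (derHom σ s).ker ≤ Subgroup.center (der σ s) := fun d hd => Subgroup.mem_center_iff.2
    fun x => Subtype.ext (Subgroup.mem_center_iff.1 (hc (congrArg Subtype.val hd)) x.1)
  have hDp : commutator (der σ s) = ⊤ := by
    refine Subgroup.map_injective (der σ s).subtype_injective ?_
    rw [← MonoidHom.range_eq_map, Subgroup.range_subtype, commutator_def, Subgroup.map_commutator,
      ← MonoidHom.range_eq_map, Subgroup.range_subtype]
    refine le_antisymm (Subgroup.commutator_mono (der_le σ s) (der_le σ s)) ?_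
    rw [der, Subgroup.commutator_le]
    intro a ha b hb
    obtain ⟨a', ha', ea⟩ := exists_der σ hs hp (show σ a ∈ Fix n F q s from ha)
    obtain ⟨b', hb', eb⟩ := exists_der σ hs hp (show σ b ∈ Fix n F q s from hb)
    have hca : a'⁻¹ * a ∈ Subgroup.center E :=
      hc (by rw [MonoidHom.mem_ker, map_mul, map_inv, ea, inv_mul_cancel])
    have hcb : b'⁻¹ * b ∈ Subgroup.center E :=
      hc (by rw [MonoidHom.mem_ker, map_mul, map_inv, eb, inv_mul_cancel])
    have hcomm := Cfsg.Lib.Chev.comm_mul_central (a := a') (b := b') hca hcb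
    rw [mul_inv_cancel_left, mul_inv_cancel_left] at hcomm
    rw [hcomm]
    exact Subgroup.commutator_mem_commutator ha' hb'
  exact ⟨hρs, hρc, hDp ▸ le_top⟩

/-- The kernel of a stem extension lies in the derived preimage of a stabiliser of a vector. -/
theorem ker_le_der (hF : Fintype.card F = q ^ 2) (hn : 6 ≤ n) (hex : ¬ (n = 6 ∧ q = 2))
    (hs : Function.Surjective σ) (hc : σ.ker ≤ Subgroup.center E) (hE : commutator E = ⊤)
    {x₀ : Fin n → F} (hx₀ : hB hF n x₀ x₀ = 1) : σ.ker ≤ der σ {x₀} := by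
  let X := {v : Fin n → F // hB hF n v v = 1}
  letI : MulAction E X :=
    { smul := fun e v => ⟨suToLin n F q (σ e) v.1, by rw [suToLin_form, v.2]⟩
      one_smul := fun v => Subtype.ext (by
        show suToLin n F q (σ 1) v.1 = v.1
        rw [map_one, map_one]; rfl)
      mul_smul := fun e e' v => Subtype.ext (by
        show suToLin n F q (σ (e * e')) v.1 = _
        rw [map_mul, map_mul]; rfl) }
  have hp1 : ∀ a : X, ⁅Fix n F q {a.1}, Fix n F q {a.1}⁆ = Fix n F q {a.1} := fun a => by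
    obtain ⟨m, rfl⟩ : ∃ m, n = m + 1 := ⟨n - 1, by omega⟩
    exact fix_one_perfect hF (by omega) a.2
  have hconj : ∀ (e : E) (a : X) (d : E), d ∈ der σ {a.1} →
      e * d * e⁻¹ ∈ der σ {(e • a).1} := fun e a d hd => conj_der σ e a.1 hd
  have hout : ∀ (S : Set (Fin n → F)) (a : X), (∀ x ∈ S, hB hF n x a.1 = 0) →
      a.1 ∉ Submodule.span F S := fun S a h ha => by
    have hle : Submodule.span F S ≤ LinearMap.ker ((hB hF n).flip a.1) :=
      Submodule.span_le.2 fun x hx => h x hx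
    have h0 : hB hF n a.1 a.1 = 0 := hle ha
    rw [a.2] at h0; exact one_ne_zero h0
  have hperp : ∀ (S : Set (Fin n → F)) (v : Fin n → F), (∀ x ∈ S, hB hF n x v = 0) →
      ∀ x ∈ Submodule.span F S, hB hF n x v = 0 := fun S v h x hx => by
    have hle : Submodule.span F S ≤ LinearMap.ker ((hB hF n).flip v) :=
      Submodule.span_le.2 fun x hx => h x hx
    exact hle hx
  have hmove : ∀ (S : Set (Fin n → F)) (a b : X) (u : Fin n → F), hB hF n u u = 1 →
      (∀ x ∈ S, hB hF n x a.1 = 0) → (∀ x ∈ S, hB hF n x b.1 = 0) →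
      (∀ x ∈ S, hB hF n x u = 0) → hB hF n u b.1 = 0 →
      ∃ g ∈ Fix n F q S, suToLin n F q g a.1 = b.1 := fun S a b u hu ha hb hSu hub => by
    obtain ⟨g, hga, hgX⟩ := exists_su hF (by omega) (Submodule.span F S) (hout S a ha) (hout S b hb)
      (fun x hx => by rw [hperp S a.1 ha x hx, hperp S b.1 hb x hx]) (a.2.trans b.2.symm) hu
      (fun x hx => swap0 hF (hperp S u hSu x hx)) hub
    exact ⟨g, fun x hx => hgX x (Submodule.subset_span hx), hga⟩
  have hker : ∀ (a w : X) (k : E), k ∈ σ.ker → k ∈ der σ {w.1} → k ∈ der σ {a.1} :=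
    fun a w k hk hkw => by
    obtain ⟨u, hu, hua, -, -⟩ := exists_common_three hF hn a.2 a.1 a.1
    obtain ⟨h, -, hha⟩ := hmove ∅ w a u hu (by simp) (by simp) (by simp) hua
    obtain ⟨e, he⟩ := hs h
    have h3 := hconj e w k hkw
    rw [show e • w = a from Subtype.ext (by
      show suToLin n F q (σ e) w.1 = a.1
      rw [he, hha])] at h3
    rwa [Subgroup.mem_center_iff.1 (hc hk) e, mul_inv_cancel_right] at h3
  have hmem : ∀ w a : X, hB hF n w.1 a.1 = 0 → ∀ g ∈ der σ {w.1}, g • a = a →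
      g ∈ der σ {a.1} := fun w a hwa g hg hga => by
    have hgR : σ g ∈ Fix n F q {w.1, a.1} := fun x hx => by
      rcases hx with hx | hx <;> rw [hx]
      · exact der_fix σ hg rfl
      · exact congrArg Subtype.val hga
    obtain ⟨y, hy, hyg⟩ := exists_der σ hs (fix_two_perfect hF hn w.2 a.2 hwa) hgR
    have hyw : y ∈ der σ {w.1} := der_mono σ (by simp) hy
    have hya : y ∈ der σ {a.1} := der_mono σ (by simp) hy
    have hk : y⁻¹ * g ∈ σ.ker := by
      rw [MonoidHom.mem_ker, map_mul, map_inv, hyg, inv_mul_cancel]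
    have := mul_mem hya (hker a w _ hk (mul_mem (inv_mem hyw) hg))
    rwa [mul_inv_cancel_left] at this
  have htrans : ∀ w a b : X, hB hF n w.1 a.1 = 0 → hB hF n w.1 b.1 = 0 →
      ∃ g ∈ der σ {w.1}, g • a = b := fun w a b hwa hwb => by
    obtain ⟨u, hu, huw, hub, -⟩ := exists_common_three hF hn w.2 b.1 b.1
    obtain ⟨h, hh, hha⟩ := hmove {w.1} a b u hu (fun x hx => by rw [Set.mem_singleton_iff.1 hx, hwa])
      (fun x hx => by rw [Set.mem_singleton_iff.1 hx, hwb])
      (fun x hx => by rw [Set.mem_singleton_iff.1 hx]; exact swap0 hF huw) hub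
    obtain ⟨d, hd, hdh⟩ := exists_der σ hs (hp1 w) hh
    exact ⟨d, hd, Subtype.ext (by show suToLin n F q (σ d) a.1 = b.1; rw [hdh, hha])⟩
  have hindep : ∀ w w' a b : X, hB hF n w.1 a.1 = 0 → hB hF n w.1 b.1 = 0 →
      hB hF n w'.1 a.1 = 0 → hB hF n w'.1 b.1 = 0 →
      ∀ g ∈ der σ {w.1}, ∀ g' ∈ der σ {w'.1}, g • a = b → g' • a = b →
        g'⁻¹ * g ∈ der σ {a.1} := by
    intro w w' a b hwa hwb hwa' hwb' g hg g' hg' ega egb
    let R : X → X → Prop := fun u v =>
      ∀ g ∈ der σ {u.1}, ∀ g' ∈ der σ {v.1}, g • a = b → g' • a = b → g'⁻¹ * g ∈ der σ {a.1}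
    have hRuv : ∀ u v : X, hB hF n u.1 v.1 = 0 → hB hF n u.1 a.1 = 0 → hB hF n u.1 b.1 = 0 →
        hB hF n v.1 a.1 = 0 → hB hF n v.1 b.1 = 0 → R u v := by
      intro u v huv hua hub hva hvb g hg g' hg' ega egb
      obtain ⟨z, hz, hzu, hzv, hzb⟩ := exists_common_three hF hn u.2 v.1 b.1
      obtain ⟨h, hh, hha⟩ := hmove {u.1, v.1} a b z hz
        (fun x hx => by rcases hx with hx | hx <;> rw [hx] <;> assumption)
        (fun x hx => by rcases hx with hx | hx <;> rw [hx] <;> assumption)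
        (fun x hx => by rcases hx with hx | hx <;> rw [hx] <;> exact swap0 hF (by assumption)) hzb
      obtain ⟨d, hd', hdh⟩ := exists_der σ hs (fix_two_perfect hF hn u.2 v.2 huv) hh
      have hda : d • a = b := Subtype.ext (by show suToLin n F q (σ d) a.1 = b.1; rw [hdh, hha])
      have k1 : d⁻¹ * g ∈ der σ {a.1} := hmem u a hua _
        (mul_mem (inv_mem (der_mono σ (by simp) hd')) hg)
        (by rw [mul_smul, ega, inv_smul_eq_iff, hda])
      have k2 : d⁻¹ * g' ∈ der σ {a.1} := hmem v a hva _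
        (mul_mem (inv_mem (der_mono σ (by simp) hd')) hg')
        (by rw [mul_smul, egb, inv_smul_eq_iff, hda])
      have := mul_mem (inv_mem k2) k1
      convert this using 1
      group
    have hRtr : ∀ u v z : X, hB hF n v.1 a.1 = 0 → hB hF n v.1 b.1 = 0 → R u v → R v z → R u z := by
      intro u v z hva hvb h1 h2 g hg g' hg' ega egb
      obtain ⟨m, hm, hma⟩ := htrans v a b hva hvb
      have := mul_mem (h2 m hm g' hg' hma egb) (h1 g hg m hm ega hma)
      convert this using 1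
      group
    have hRfour : ∀ u v : X, hB hF n u.1 a.1 = 0 → hB hF n u.1 b.1 = 0 → hB hF n v.1 a.1 = 0 →
        hB hF n v.1 b.1 = 0 →
        (7 ≤ n ∨ frob hF (hB hF n u.1 v.1) * hB hF n u.1 v.1 ≠ 1) → R u v := by
      intro u v hua hub hva hvb h
      obtain ⟨z, hz, hza, hzb, hzu, hzv⟩ := exists_common_four hF hn (b := b.1) a.2 u.2 v.2 hua hva h
      exact hRtr u ⟨z, hz⟩ v hza hzb (hRuv u ⟨z, hz⟩ (swap0 hF hzu) hua hub hza hzb)
        (hRuv ⟨z, hz⟩ v hzv hza hzb hva hvb)
    refine (?_ : R w w') g hg g' hg' ega egb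
    by_cases h : 7 ≤ n ∨ frob hF (hB hF n w.1 w'.1) * hB hF n w.1 w'.1 ≠ 1
    · exact hRfour w w' hwa hwb hwa' hwb' h
    have hq : 3 ≤ q := by
      have := two_le_q hF
      by_contra hq
      exact hex ⟨by by_contra h6; exact h (Or.inl (by omega)), by omega⟩
    by_cases hw : ∃ z, hB hF n z z = 1 ∧ ∀ i, hB hF n (![a.1, b.1, w.1, w'.1] i) z = 0
    · obtain ⟨z, hz, hzs⟩ := hw
      exact hRtr w ⟨z, hz⟩ w' (swap0 hF (hzs 0)) (swap0 hF (hzs 1))
        (hRuv w ⟨z, hz⟩ (hzs 2) hwa hwb (swap0 hF (hzs 0)) (swap0 hF (hzs 1)))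
        (hRuv ⟨z, hz⟩ w' (swap0 hF (hzs 3)) (swap0 hF (hzs 0)) (swap0 hF (hzs 1)) hwa' hwb')
    obtain ⟨v, hv, hva, hvb, hvw, hne⟩ := exists_move hF
      (by by_contra h6; exact h (Or.inl (by omega))) hq a.2 w.2 hwa hw
    exact hRtr w ⟨v, hv⟩ w' hva hvb (hRuv w ⟨v, hv⟩ (swap0 hF hvw) hwa hwb hva hvb)
      (hRfour ⟨v, hv⟩ w' hva hvb hwa' hwb' (Or.inr hne))
  have hS : OrthMult.Sys (fun a : X => der σ {a.1}) (fun w : X => der σ {w.1})
      (fun w a : X => hB hF n w.1 a.1 = 0) (fun e w => e • w) :=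
    { fix := fun a d hd => Subtype.ext (der_fix σ hd rfl)
      conjD := hconj
      conjW := hconj
      perpW := fun e w a h => by
        show hB hF n (suToLin n F q (σ e) w.1) (suToLin n F q (σ e) a.1) = 0
        rw [suToLin_form, h]
      mem := fun w a g h1 h2 h3 => hmem w a h1 g h2 h3
      trans := htrans
      indep := fun w w' a b hwa hwb hwa' hwb' => by
        obtain ⟨g, hg, hga⟩ := htrans w a b hwa hwb
        obtain ⟨g', hg', hga'⟩ := htrans w' a b hwa' hwb'
        exact ⟨g, hg, g', hg', hga, hga',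
          hindep w w' a b hwa hwb hwa' hwb' g hg g' hg' hga hga'⟩
      triple := fun a b x => by
        obtain ⟨w, hw, h1, h3, h4⟩ := exists_common_three hF hn a.2 b.1 x.1
        exact ⟨⟨w, hw⟩, h1, h3, h4⟩ }
  intro k hk
  refine hS.central_mem (⟨x₀, hx₀⟩ : X) hE (fun e he => ?_) (hc hk) (Subtype.ext ?_)
  · have hgR : σ e ∈ Fix n F q {x₀} := fun x hx => by
      rw [Set.mem_singleton_iff.1 hx]; exact congrArg Subtype.val he
    obtain ⟨y, hy, hye⟩ := exists_der σ hs (hp1 ⟨x₀, hx₀⟩) hgR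
    refine ⟨e * y⁻¹, hc (by rw [MonoidHom.mem_ker, map_mul, map_inv, hye, mul_inv_cancel]), ?_⟩
    rwa [mul_inv_rev, inv_inv, inv_mul_cancel_right]
  · show suToLin n F q (σ k) x₀ = x₀
    rw [MonoidHom.mem_ker.1 hk, map_one]; rfl

end Cfsg.Lib.UnitMult.Step

namespace Cfsg.Lib.UnitMult

open Cfsg.Lib.Linear.Herm

universe u

/-- If every stem extension of `SU (n - 1)` has trivial kernel, so has every stem extension of
`SU n`, for `n ≥ 6` and `(n, q) ≠ (6, 2)`. -/
theorem stem_step {F : Type u} [Field F] [Fintype F] {n q : ℕ} (hF : Fintype.card F = q ^ 2)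
    (hn : 6 ≤ n) (hex : ¬ (n = 6 ∧ q = 2))
    (ih : ∀ (Γ : Type u) [Group Γ] [Finite Γ] (ρ : Γ →* ↥(Cfsg.SU (n - 1) F q)),
      Cfsg.IsStemExtension ρ → ρ.ker = ⊥)
    (Γ : Type u) [Group Γ] [Finite Γ] (σ : Γ →* ↥(Cfsg.SU n F q))
    (hσ : Cfsg.IsStemExtension σ) : σ.ker = ⊥ := by
  obtain ⟨m, rfl⟩ : ∃ m, n = m + 1 := ⟨n - 1, by omega⟩
  rw [Nat.add_sub_cancel] at ih
  have hx : hB hF (m + 1) (Step.eLast m F) (Step.eLast m F) = 1 := by
    rw [Step.form_eLast, Step.eLast, Fin.snoc_last]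
  obtain ⟨φ, hφi, hφr, -⟩ := Step.exists_stab_equiv hF (by omega) hx
  have hp := Step.fix_one_perfect hF (by omega) hx
  have hle := Step.ker_le_der σ hF hn hex hσ.1 hσ.2.1
    (Cfsg.Lib.Chev.stem_perfect hσ (Step.su_perfect hF (by omega))) hx
  let eq : ↥(Step.Fix (m + 1) F q {Step.eLast m F}) ≃* ↥(Cfsg.SU m F q) :=
    ((MonoidHom.ofInjective hφi).trans (MulEquiv.subgroupCongr hφr)).symm
  obtain ⟨h1, h2, h3⟩ := Step.derHom_stem σ hσ.1 hσ.2.1 hp
  have hker : (eq.toMonoidHom.comp (Step.derHom σ {Step.eLast m F})).ker =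
      (Step.derHom σ {Step.eLast m F}).ker := by
    ext d; simp [MonoidHom.mem_ker]
  have hbot := ih _ (eq.toMonoidHom.comp (Step.derHom σ {Step.eLast m F}))
    ⟨eq.surjective.comp h1, hker ▸ h2, hker ▸ h3⟩
  rw [hker] at hbot
  refine eq_bot_iff.2 fun k hk => ?_
  have : (⟨k, hle hk⟩ : Step.der σ {Step.eLast m F}) ∈ (Step.derHom σ _).ker :=
    Subtype.ext (MonoidHom.mem_ker.1 hk)
  rw [hbot, Subgroup.mem_bot] at this
  exact Subgroup.mem_bot.2 (congrArg Subtype.val this)

end Cfsg.Lib.UnitMult
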