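import Cfsg.Agent.Lib.Schur.PcData

/-!
# Certificate data for the three-part in unitary dimension 5
-/

set_option autoImplicit false
set_option maxRecDepth 100000

namespace Cfsg.Lib.UnitMult.Data

open Cfsg.Lib.Schur.PcStem

/-- The letters. -/
def fiveThreeVecs : List (List ℕ) :=
  [[1, 0, 1, 0, 0], [1, 1, 0, 0, 0], [0, 0, 0, 1, 2], [0, 0, 0, 1, 3], [1, 0, 0, 0, 1], [1, 0, 0, 0, 2], [1, 3,
    0, 0, 0], [1, 1, 0, 2, 1], [0, 1, 1, 1, 3], [1, 3, 0, 2, 1], [1, 0, 2, 1, 3], [1, 2, 2, 0, 1], [1, 1, 1,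
    0, 2], [1, 2, 2, 0, 2], [0, 0, 0, 1, 1], [0, 0, 1, 1, 0]]

/-- The generators as words. -/
def fiveThreeGens : List (List ℕ) :=
  [[0, 1], [2, 3], [4, 5], [6, 1], [7, 8, 9, 3, 10]]

/-- The fusing elements as words. -/
def fiveThreeConj : List (List ℕ) :=
  [[11, 4, 12, 13], [1], [14], [15]]

/-- Part of the stages. -/
def fiveThreeStagesPart0 : List (List ℕ × List (List ℕ)) :=
  [([0, 0, 0, 1, 0], [[], [1], [1, 1]])]

/-- Part of the stages. -/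
def fiveThreeStagesPart1 : List (List ℕ × List (List ℕ)) :=
  [([0, 0, 0, 0, 1], [[], [2], [2, 2]])]

/-- Part of the stages. -/
def fiveThreeStagesPart2 : List (List ℕ × List (List ℕ)) :=
  [([1, 0, 0, 0, 0], [[], [0], [3, 4], [4], [0, 0], [0, 4], [0, 3, 4], [0, 0, 3], [0, 0, 3, 4]])]

/-- Part of the stages. -/
def fiveThreeStagesPart3 : List (List ℕ × List (List ℕ)) :=
  [([0, 1, 0, 0, 0], [[], [3, 4, 4], [3, 3, 4]])]

/-- The stages. -/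
def fiveThreeStages : List (List ℕ × List (List ℕ)) :=
  fiveThreeStagesPart0 ++ fiveThreeStagesPart1 ++ fiveThreeStagesPart2 ++ fiveThreeStagesPart3

/-- The rules. -/
def fiveThreeRules : List (List ℕ × List ℕ) :=
  [([0, 0, 0], []), ([1, 0], [0, 1]), ([2, 0], [0, 2, 3, 4]), ([3, 0], [0, 3, 4]), ([4, 0], [0, 4]), ([1, 1, 1],
    []), ([2, 1], [1, 2]), ([3, 1], [1, 3]), ([4, 1], [1, 4]), ([2, 2, 2], []), ([3, 2], [2, 3]), ([4, 2], [2,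
    4]), ([3, 3, 3], []), ([4, 3], [3, 4]), ([4, 4, 4], [])]

/-- Part of the fusion data. -/
def fiveThreeFusPart0 : List (Fus) :=
  [(15, [[0], [1], [3], [4]], [[3, 4, 4], [1], [0, 0, 4], [4]])]

/-- Part of the fusion data. -/
def fiveThreeFusPart1 : List (Fus) :=
  [(19, [[0], [1], [2], [3], [4]], [[0, 0], [1], [2, 3, 3], [3, 3], [4]])]

/-- Part of the fusion data. -/
def fiveThreeFusPart2 : List (Fus) :=
  [(24, [[0], [1], [2], [3], [4]], [[0], [1, 1], [1, 1, 2], [3], [4]])]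

/-- Part of the fusion data. -/
def fiveThreeFusPart3 : List (Fus) :=
  [(29, [[1], [2], [3], [4]], [[2, 3, 4], [2], [3], [1, 2, 2, 3, 3]])]

/-- The fusion data. -/
def fiveThreeFus : List (Fus) :=
  fiveThreeFusPart0 ++ fiveThreeFusPart1 ++ fiveThreeFusPart2 ++ fiveThreeFusPart3

/-- The overlaps. -/
def fiveThreeAssoc : List (List ℕ × Trace × Trace) :=
  [([2, 1, 0], [(0, 6), (1, 2), (0, 1)], [(1, 1), (0, 2), (3, 8), (2, 7), (1, 6)]), ([3, 1, 0], [(0, 7), (1, 3),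
    (0, 1)], [(1, 1), (0, 3), (2, 8), (1, 7)]), ([2, 2, 2, 0], [(0, 9)], [(2, 2), (1, 2), (0, 2), (3, 11), (2,
    10), (4, 13), (6, 11), (5, 11), (4, 10), (3, 10), (1, 9), (4, 13), (3, 13), (1, 12), (1, 14)]), ([2, 0, 0,
    0], [(0, 2), (3, 4), (2, 3), (1, 2), (4, 13), (5, 14), (4, 3), (3, 3), (2, 2), (0, 0), (2, 13), (4, 13),
    (3, 13), (1, 12), (1, 14)], [(1, 0)]), ([3, 2, 0], [(0, 10), (1, 3), (0, 2), (3, 13)], [(1, 2), (0, 3),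
    (2, 11), (1, 10), (3, 13)]), ([4, 2, 0], [(0, 11), (1, 4), (0, 2)], [(1, 2), (0, 4), (1, 11), (2, 13)]),
    ([3, 3, 3, 0], [(0, 12)], [(2, 3), (1, 3), (0, 3), (2, 13), (4, 13), (3, 13), (1, 12), (1, 14)])]

/-- Part of the fusion equations. -/
def fiveThreeFeqPart0 : List (ℕ × (List ℕ × List ℕ) × (Trace × Trace) × (Trace × Trace)) :=
  [(0, ([0, 0, 0], []), ([(0, 0)], []), ([(2, 13), (1, 13), (2, 14), (2, 13), (0, 12), (0, 14)], [])), (0, ([1,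
    0], [0, 1]), ([(0, 1)], []), ([], [(2, 8), (1, 8), (0, 7)])), (0, ([2, 0], [0, 2, 3]), ([(0, 3)], []),
    ([(2, 13), (3, 14)], [(2, 4), (1, 4), (0, 3), (2, 14), (1, 3), (3, 14)])), (1, ([2, 0], [0, 2, 3, 4]),
    ([(0, 2)], []), ([(2, 3), (1, 3), (0, 2), (3, 13), (5, 13), (4, 13), (2, 12), (2, 14), (1, 2)], [(3,
    12)])), (1, ([3, 0], [0, 3, 4]), ([(0, 3)], []), ([(1, 3), (0, 3), (2, 13), (4, 4), (3, 4), (2, 3), (1,
    3), (3, 13), (4, 14)], [])), (1, ([3, 2], [2, 3]), ([(0, 10)], []), ([(1, 10), (0, 10), (1, 12)], [(1,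
    12)])), (2, ([2, 0], [0, 2, 3, 4]), ([(0, 2)], []), ([(2, 2), (1, 1), (0, 1)], [])), (2, ([3, 0], [0, 3,
    4]), ([(0, 3)], []), ([(0, 3)], [])), (2, ([1, 1, 1], []), ([(0, 5)], []), ([(0, 5), (0, 5)], [])), (2,
    ([2, 1], [1, 2]), ([(0, 6)], []), ([(2, 6), (0, 5), (0, 6)], [(0, 5)]))]

/-- Part of the fusion equations. -/
def fiveThreeFeqPart1 : List (ℕ × (List ℕ × List ℕ) × (Trace × Trace) × (Trace × Trace)) :=
  [(3, ([0, 0, 0], []), ([(0, 5)], []), ([(2, 11), (1, 10), (3, 13), (5, 11), (4, 11), (3, 10), (2, 10), (0, 9),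
    (3, 13), (2, 13), (0, 12), (0, 14)], []))]

/-- The fusion equations. -/
def fiveThreeFeq : List (ℕ × (List ℕ × List ℕ) × (Trace × Trace) × (Trace × Trace)) :=
  fiveThreeFeqPart0 ++ fiveThreeFeqPart1

/-- The rows. -/
def fiveThreeRows : List (List ℕ) :=
  [[6, 2, 1, 1, 1, 2, 2, 8, 8, 7, 7, 6, 6], [7, 3, 1, 1, 1, 3, 3, 8, 8, 7, 7], [9, 2, 2, 2, 2, 2, 2, 11, 11, 10,
    10, 13, 13, 11, 11, 11, 11, 10, 10, 10, 10, 9, 9, 13, 13, 13, 13, 12, 12, 14, 14], [2, 4, 3, 2, 13, 14, 3,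
    3, 2, 0, 13, 13, 13, 12, 14, 0, 0], [10, 3, 2, 13, 2, 2, 3, 3, 11, 11, 10, 10, 13, 13], [11, 4, 2, 2, 2,
    4, 4, 11, 11, 13, 13], [12, 3, 3, 3, 3, 3, 3, 13, 13, 13, 13, 13, 13, 12, 12, 14, 14], [15, 15, 15, 13,
    13, 14, 13, 12, 14, 0, 0], [16, 15, 1, 1, 15, 15, 16, 16, 8, 8, 8, 8, 7, 7], [17, 15, 13, 14, 3, 3, 15,
    15, 17, 17, 18, 18, 4, 4, 4, 4, 3, 3, 14, 14, 3, 3, 14, 14], [21, 19, 3, 3, 2, 13, 13, 13, 12, 14, 2, 2,
    2, 19, 19, 21, 21, 22, 22, 23, 23, 12, 12], [22, 19, 3, 3, 13, 4, 4, 3, 3, 13, 14, 3, 3, 19, 19, 22, 22,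
    23, 23], [22, 21, 10, 10, 12, 10, 10, 21, 21, 22, 22, 12, 12], [26, 24, 2, 1, 1, 2, 2, 24, 24, 26, 26, 27,
    27, 28, 28], [27, 24, 3, 3, 3, 24, 24, 27, 27, 28, 28], [25, 25, 25, 5, 5, 5, 5], [26, 25, 6, 5, 6, 6, 6,
    25, 25, 26, 26, 5, 5], [29, 29, 29, 11, 10, 13, 11, 11, 10, 10, 9, 13, 13, 12, 14, 5, 5]]

/-- The gauge. -/
def fiveThreeGauge : List (List ℕ) :=
  [[], [], [], [2, 3, 3], [3]]

/-- The goals. -/
def fiveThreeGoals : List (List ℕ) :=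
  [[0], [1], [2, 2, 2, 3, 3, 3, 3, 3, 3], [3, 2, 3, 3, 2, 2, 3, 3, 3, 3, 3, 3], [4, 3, 3, 3], [5], [6], [7, 2,
    3, 3, 2, 2, 3, 3, 3, 3], [8, 3, 3, 3], [9], [10, 2, 3, 3, 2, 2, 3, 3, 3, 3], [11, 3, 3, 3], [12, 2, 3, 3,
    2, 3, 3, 2, 3, 3], [13, 3, 2, 3, 3, 2, 2, 3, 3, 3, 3, 3, 3], [14, 3, 3, 3]]

/-- The combinations. -/
def fiveThreeCombs : List (List ℕ) :=
  [[2, 2, 6, 6, 7, 7], [0, 1, 8, 8], [], [], [2, 3, 5, 6], [15], [16], [0, 0, 1], [1, 1], [2, 15, 17], [12], [4,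
    4], [2, 2, 6], [5, 5], [6, 6]]

/-- The presentation. -/
def fiveThree : PcData where
  p := 3
  n := 5
  rules := fiveThreeRules
  fus := fiveThreeFus

/-- The certificate. -/
def fiveThreeCert : PcCert where
  assoc := fiveThreeAssoc
  feq := fiveThreeFeq
  rows := fiveThreeRows
  F := fiveThreeGauge
  goals := fiveThreeGoals
  combs := fiveThreeCombs

end Cfsg.Lib.UnitMult.Data
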