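import Cfsg.Agent.Lib.Schur.PcData

/-!
# Certificate data for the three-part in unitary dimension 7
-/

set_option autoImplicit false
set_option maxRecDepth 100000

namespace Cfsg.Lib.UnitMult.Data

open Cfsg.Lib.Schur.PcStem

/-- The letters. -/
def sevenThreeVecs : List (List ℕ) :=
  [[1, 1, 0, 0, 0, 0, 0], [0, 1, 1, 0, 0, 0, 0], [0, 0, 0, 1, 1, 0, 0], [0, 0, 0, 0, 1, 1, 0], [0, 0, 0, 1, 0,
    0, 2], [0, 0, 0, 1, 0, 0, 3], [1, 0, 0, 0, 0, 0, 3], [1, 0, 0, 0, 0, 0, 1], [0, 0, 0, 1, 3, 0, 0], [1, 3,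
    0, 0, 0, 0, 0], [0, 0, 1, 0, 1, 2, 1], [0, 0, 1, 3, 2, 0, 1], [0, 0, 1, 2, 2, 0, 1], [0, 0, 1, 0, 3, 2,
    1], [0, 0, 1, 0, 0, 0, 1], [0, 1, 3, 1, 2, 3, 2], [0, 0, 0, 1, 2, 3, 2], [1, 3, 0, 2, 3, 1, 3], [1, 1, 0,
    3, 1, 2, 1], [0, 1, 1, 2, 3, 1, 3], [1, 1, 1, 2, 3, 1, 0], [1, 3, 3, 3, 1, 2, 0], [1, 2, 2, 2, 3, 1, 0],
    [1, 3, 3, 1, 2, 3, 0], [0, 0, 1, 1, 0, 0, 0], [1, 2, 2, 1, 2, 2, 0], [1, 1, 3, 1, 1, 3, 0], [1, 3, 1, 1,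
    3, 1, 0], [0, 0, 0, 0, 0, 1, 1]]

/-- The generators as words. -/
def sevenThreeGens : List (List ℕ) :=
  [[0, 1], [2, 3], [4, 5], [6, 7], [8, 2], [9, 0], [10, 11, 12, 13, 14], [15, 16, 17, 18, 19]]

/-- The fusing elements as words. -/
def sevenThreeConj : List (List ℕ) :=
  [[20, 21, 22, 23], [0], [2], [24], [25, 26, 27], [28]]

/-- Part of the stages. -/
def sevenThreeStagesPart0 : List (List ℕ × List (List ℕ)) :=
  [([0, 0, 0, 0, 0, 0, 1], [[], [2], [2, 2]])]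

/-- Part of the stages. -/
def sevenThreeStagesPart1 : List (List ℕ × List (List ℕ)) :=
  [([1, 0, 0, 0, 0, 0, 0], [[], [0], [2, 3, 3], [7], [0, 0], [0, 7], [0, 2, 3, 3], [0, 0, 5], [0, 0, 2, 3, 3]])]

/-- Part of the stages. -/
def sevenThreeStagesPart2 : List (List ℕ × List (List ℕ)) :=
  [([0, 1, 0, 0, 0, 0, 0], [[], [5, 7, 7], [5, 5, 7]])]

/-- Part of the stages. -/
def sevenThreeStagesPart3 : List (List ℕ × List (List ℕ)) :=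
  [([0, 0, 1, 0, 0, 0, 0], [[], [2, 3, 3, 5, 5, 7, 7], [2, 2, 3, 5, 7]])]

/-- Part of the stages. -/
def sevenThreeStagesPart4 : List (List ℕ × List (List ℕ)) :=
  [([0, 0, 0, 1, 0, 0, 0], [[], [1], [4, 6], [6], [1, 1], [1, 6], [1, 4, 6], [1, 1, 4], [1, 1, 4, 6]])]

/-- Part of the stages. -/
def sevenThreeStagesPart5 : List (List ℕ × List (List ℕ)) :=
  [([0, 0, 0, 0, 1, 0, 0], [[], [4, 6, 6], [4, 4, 6]])]

/-- The stages. -/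
def sevenThreeStages : List (List ℕ × List (List ℕ)) :=
  sevenThreeStagesPart0 ++ sevenThreeStagesPart1 ++ sevenThreeStagesPart2 ++ sevenThreeStagesPart3 ++
    sevenThreeStagesPart4 ++ sevenThreeStagesPart5

/-- The rules. -/
def sevenThreeRules : List (List ℕ × List ℕ) :=
  [([0, 0, 0], []), ([1, 0], [0, 1]), ([2, 0], [0, 2]), ([3, 0], [0, 3, 5, 7]), ([4, 0], [0, 4]), ([5, 0], [0,
    5, 7]), ([6, 0], [0, 6]), ([7, 0], [0, 7]), ([1, 1, 1], []), ([2, 1], [1, 2, 4, 6]), ([3, 1], [1, 3]),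
    ([4, 1], [1, 4, 6]), ([5, 1], [1, 5]), ([6, 1], [1, 6]), ([7, 1], [1, 7]), ([2, 2, 2], []), ([3, 2], [2,
    3]), ([4, 2], [2, 4]), ([5, 2], [2, 5]), ([6, 2], [2, 6]), ([7, 2], [2, 7]), ([3, 3, 3], []), ([4, 3], [3,
    4]), ([5, 3], [3, 5]), ([6, 3], [3, 6]), ([7, 3], [3, 7]), ([4, 4, 4], []), ([5, 4], [4, 5]), ([6, 4], [4,
    6]), ([7, 4], [4, 7]), ([5, 5, 5], []), ([6, 5], [5, 6]), ([7, 5], [5, 7]), ([6, 6, 6], []), ([7, 6], [6,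
    7]), ([7, 7, 7], [])]

/-- Part of the fusion data. -/
def sevenThreeFusPart0 : List (Fus) :=
  [(36, [[0], [1], [2], [4], [5], [6], [7]], [[5, 7, 7], [1], [2], [4], [0, 0, 7], [6], [7]])]

/-- Part of the fusion data. -/
def sevenThreeFusPart1 : List (Fus) :=
  [(43, [[0], [1], [2], [3], [4], [5], [6], [7]], [[0, 0], [1], [2], [3, 5, 5], [4], [5, 5], [6], [7]])]

/-- Part of the fusion data. -/
def sevenThreeFusPart2 : List (Fus) :=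
  [(51, [[0], [1], [2], [3], [4], [5], [6], [7]], [[0], [1, 1], [2, 4, 4], [3], [4, 4], [5], [6], [7]])]

/-- Part of the fusion data. -/
def sevenThreeFusPart3 : List (Fus) :=
  [(59, [[2], [3], [4], [5], [6], [7]], [[3, 5, 7], [3], [2, 2, 3, 4, 5, 7], [5], [2, 2, 3, 5, 6, 7], [2, 3, 3,
    5, 5]])]

/-- Part of the fusion data. -/
def sevenThreeFusPart4 : List (Fus) :=
  [(65, [[0], [1], [2], [3], [4], [5], [6], [7]], [[1], [0], [3], [2], [5], [4], [7], [6]])]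

/-- Part of the fusion data. -/
def sevenThreeFusPart5 : List (Fus) :=
  [(73, [[0], [2], [3], [4], [5], [6], [7]], [[0], [4, 4, 6, 6], [2, 2, 3, 4, 4, 6, 6], [4], [5], [2, 2, 4, 4],
    [7]])]

/-- The fusion data. -/
def sevenThreeFus : List (Fus) :=
  sevenThreeFusPart0 ++ sevenThreeFusPart1 ++ sevenThreeFusPart2 ++ sevenThreeFusPart3 ++ sevenThreeFusPart4 ++
    sevenThreeFusPart5

/-- Part of the overlaps. -/
def sevenThreeAssocPart0 : List (List ℕ × Trace × Trace) :=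
  [([2, 1, 0], [(0, 9), (3, 6), (2, 4), (1, 2), (0, 1)], [(1, 1), (0, 2), (1, 9)]), ([3, 1, 0], [(0, 10), (1,
    3), (0, 1)], [(1, 1), (0, 3), (3, 14), (2, 12), (1, 10)]), ([4, 1, 0], [(0, 11), (2, 6), (1, 4), (0, 1)],
    [(1, 1), (0, 4), (1, 11)]), ([5, 1, 0], [(0, 12), (1, 5), (0, 1)], [(1, 1), (0, 5), (2, 14), (1, 12)]),
    ([3, 2, 0], [(0, 16), (1, 3), (0, 2)], [(1, 2), (0, 3), (3, 20), (2, 18), (1, 16)]), ([5, 2, 0], [(0, 18),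
    (1, 5), (0, 2)], [(1, 2), (0, 5), (2, 20), (1, 18)]), ([3, 3, 3, 0], [(0, 21)], [(2, 3), (1, 3), (0, 3),
    (3, 25), (2, 23), (4, 32), (6, 25), (5, 25), (4, 23), (3, 23), (1, 21), (4, 32), (3, 32), (1, 30), (1,
    35)]), ([3, 0, 0, 0], [(0, 3), (3, 7), (2, 5), (1, 3), (4, 32), (5, 35), (4, 5), (3, 5), (2, 3), (0, 0),
    (2, 32), (4, 32), (3, 32), (1, 30), (1, 35)], [(1, 0)]), ([4, 3, 0], [(0, 22), (1, 4), (0, 3), (3, 29),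
    (2, 27)], [(1, 3), (0, 4), (1, 22)]), ([5, 3, 0], [(0, 23), (1, 5), (0, 3), (3, 32)], [(1, 3), (0, 5), (2,
    25), (1, 23), (3, 32)]), ([6, 3, 0], [(0, 24), (1, 6), (0, 3), (3, 34)], [(1, 3), (0, 6), (1, 24), (2,
    31)]), ([7, 3, 0], [(0, 25), (1, 7), (0, 3)], [(1, 3), (0, 7), (1, 25), (2, 32)]), ([5, 4, 0], [(0, 27),
    (1, 5), (0, 4)], [(1, 4), (0, 5), (2, 29), (1, 27)]), ([5, 5, 5, 0], [(0, 30)], [(2, 5), (1, 5), (0, 5),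
    (2, 32), (4, 32), (3, 32), (1, 30), (1, 35)]), ([6, 5, 0], [(0, 31), (1, 6), (0, 5), (2, 34)], [(1, 5),
    (0, 6), (1, 31)]), ([2, 2, 2, 1], [(0, 15)], [(2, 9), (1, 9), (0, 9), (3, 19), (2, 17), (4, 28), (6, 19),
    (5, 19), (4, 17), (3, 17), (1, 15), (4, 28), (3, 28), (1, 26), (1, 33)]), ([2, 1, 1, 1], [(0, 9), (3, 13),
    (2, 11), (1, 9), (4, 28), (5, 33), (4, 11), (3, 11), (2, 9), (0, 8), (2, 28), (4, 28), (3, 28), (1, 26),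
    (1, 33)], [(1, 8)]), ([3, 2, 1], [(0, 16), (1, 10), (0, 9), (3, 24), (2, 22)], [(1, 9), (0, 10), (1,
    16)]), ([4, 2, 1], [(0, 17), (1, 11), (0, 9), (3, 28)], [(1, 9), (0, 11), (2, 19), (1, 17), (3, 28)]),
    ([6, 2, 1], [(0, 19), (1, 13), (0, 9)], [(1, 9), (0, 13), (1, 19), (2, 28)])]

/-- Part of the overlaps. -/
def sevenThreeAssocPart1 : List (List ℕ × Trace × Trace) :=
  [([4, 3, 1], [(0, 22), (1, 11), (0, 10)], [(1, 10), (0, 11), (2, 24), (1, 22)]), ([4, 4, 4, 1], [(0, 26)],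
    [(2, 11), (1, 11), (0, 11), (2, 28), (4, 28), (3, 28), (1, 26), (1, 33)])]

/-- The overlaps. -/
def sevenThreeAssoc : List (List ℕ × Trace × Trace) :=
  sevenThreeAssocPart0 ++ sevenThreeAssocPart1

/-- Part of the fusion equations. -/
def sevenThreeFeqPart0 : List (ℕ × (List ℕ × List ℕ) × (Trace × Trace) × (Trace × Trace)) :=
  [(0, ([0, 0, 0], []), ([(0, 0)], []), ([(2, 32), (1, 32), (2, 35), (2, 32), (0, 30), (0, 35)], [])), (0, ([1,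
    0], [0, 1]), ([(0, 1)], []), ([], [(2, 14), (1, 14), (0, 12)])), (0, ([2, 0], [0, 2]), ([(0, 2)], []),
    ([], [(2, 20), (1, 20), (0, 18)])), (0, ([4, 0], [0, 4, 6]), ([(0, 5)], []), ([(2, 32), (3, 35)], [(2, 7),
    (1, 7), (0, 5), (2, 35), (1, 5), (3, 35)])), (0, ([2, 1], [1, 2, 3, 5]), ([(0, 9)], []), ([(0, 9)], [])),
    (0, ([3, 1], [1, 3, 5]), ([(0, 11)], []), ([(0, 11)], [])), (1, ([3, 0], [0, 3, 5, 7]), ([(0, 3)], []),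
    ([(2, 5), (1, 5), (0, 3), (3, 32), (5, 32), (4, 32), (2, 30), (2, 35), (1, 3)], [(3, 30)])), (1, ([5, 0],
    [0, 5, 7]), ([(0, 5)], []), ([(1, 5), (0, 5), (2, 32), (4, 7), (3, 7), (2, 5), (1, 5), (3, 32), (4, 35)],
    [])), (1, ([2, 1], [1, 2, 4, 6]), ([(0, 9)], []), ([(0, 9)], [])), (1, ([4, 1], [1, 4, 6]), ([(0, 11)],
    []), ([(0, 11)], []))]

/-- Part of the fusion equations. -/
def sevenThreeFeqPart1 : List (ℕ × (List ℕ × List ℕ) × (Trace × Trace) × (Trace × Trace)) :=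
  [(1, ([5, 3], [3, 5]), ([(0, 23)], []), ([(1, 23), (0, 23), (1, 30)], [(1, 30)])), (2, ([3, 0], [0, 3, 5, 7]),
    ([(0, 3)], []), ([(0, 3)], [])), (2, ([5, 0], [0, 5, 7]), ([(0, 5)], []), ([(0, 5)], [])), (2, ([1, 1, 1],
    []), ([(0, 8)], []), ([(0, 8), (0, 8)], [])), (2, ([2, 1], [1, 2, 4, 6]), ([(0, 9)], []), ([(2, 11), (1,
    11), (0, 9), (3, 28), (5, 28), (4, 28), (2, 26), (2, 33), (1, 9)], [(3, 26)])), (2, ([3, 1], [1, 3]),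
    ([(0, 10)], []), ([(0, 10), (1, 10)], [])), (2, ([4, 1], [1, 4, 6]), ([(0, 11)], []), ([(1, 11), (0, 11),
    (2, 28), (4, 13), (3, 13), (2, 11), (1, 11), (3, 28), (4, 33)], [])), (2, ([4, 2], [2, 4]), ([(0, 17)],
    []), ([(1, 17), (0, 17), (1, 26)], [(1, 26)])), (3, ([0, 0, 0], []), ([(0, 15)], []), ([(2, 25), (1, 23),
    (3, 32), (5, 25), (4, 25), (3, 23), (2, 23), (0, 21), (3, 32), (2, 32), (0, 30), (0, 35)], [])), (3, ([1,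
    0], [0, 1]), ([(0, 16)], []), ([], [(2, 25), (1, 23)]))]

/-- Part of the fusion equations. -/
def sevenThreeFeqPart2 : List (ℕ × (List ℕ × List ℕ) × (Trace × Trace) × (Trace × Trace)) :=
  [(4, ([3, 0], [0, 3, 5, 7]), ([(0, 3)], []), ([(0, 9)], [])), (4, ([5, 0], [0, 5, 7]), ([(0, 5)], []), ([(0,
    11)], [])), (4, ([2, 1], [1, 2, 4, 6]), ([(0, 9)], []), ([(0, 3)], [])), (4, ([4, 1], [1, 4, 6]), ([(0,
    11)], []), ([(0, 5)], [])), (5, ([2, 0], [0, 2, 4, 6]), ([(0, 3)], []), ([(6, 6), (5, 6), (4, 4), (3, 4),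
    (2, 3), (1, 2), (0, 2), (5, 29), (4, 27), (6, 29), (5, 27), (7, 34), (8, 34)], [(7, 31), (6, 31)])), (5,
    ([4, 0], [0, 4, 6]), ([(0, 5)], []), ([(0, 5)], [])), (5, ([1, 1, 1], []), ([(0, 15)], []), ([(3, 28), (2,
    28), (0, 26), (1, 28), (0, 28), (1, 33), (1, 28), (2, 28), (0, 26), (0, 33)], []))]

/-- The fusion equations. -/
def sevenThreeFeq : List (ℕ × (List ℕ × List ℕ) × (Trace × Trace) × (Trace × Trace)) :=
  sevenThreeFeqPart0 ++ sevenThreeFeqPart1 ++ sevenThreeFeqPart2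

/-- Part of the rows. -/
def sevenThreeRowsPart0 : List (List ℕ) :=
  [[9, 6, 4, 2, 1, 1, 1, 2, 2, 9, 9], [10, 3, 1, 1, 1, 3, 3, 14, 14, 12, 12, 10, 10], [11, 6, 4, 1, 1, 1, 4, 4,
    11, 11], [12, 5, 1, 1, 1, 5, 5, 14, 14, 12, 12], [16, 3, 2, 2, 2, 3, 3, 20, 20, 18, 18, 16, 16], [18, 5,
    2, 2, 2, 5, 5, 20, 20, 18, 18], [21, 3, 3, 3, 3, 3, 3, 25, 25, 23, 23, 32, 32, 25, 25, 25, 25, 23, 23, 23,
    23, 21, 21, 32, 32, 32, 32, 30, 30, 35, 35], [3, 7, 5, 3, 32, 35, 5, 5, 3, 0, 32, 32, 32, 30, 35, 0, 0],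
    [22, 4, 3, 29, 27, 3, 3, 4, 4, 22, 22], [23, 5, 3, 32, 3, 3, 5, 5, 25, 25, 23, 23, 32, 32], [24, 6, 3, 34,
    3, 3, 6, 6, 24, 24, 31, 31], [25, 7, 3, 3, 3, 7, 7, 25, 25, 32, 32], [27, 5, 4, 4, 4, 5, 5, 29, 29, 27,
    27], [30, 5, 5, 5, 5, 5, 5, 32, 32, 32, 32, 32, 32, 30, 30, 35, 35], [31, 6, 5, 34, 5, 5, 6, 6, 31, 31],
    [15, 9, 9, 9, 9, 9, 9, 19, 19, 17, 17, 28, 28, 19, 19, 19, 19, 17, 17, 17, 17, 15, 15, 28, 28, 28, 28, 26,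
    26, 33, 33], [9, 13, 11, 9, 28, 33, 11, 11, 9, 8, 28, 28, 28, 26, 33, 8, 8], [16, 10, 9, 24, 22, 9, 9, 10,
    10, 16, 16], [17, 11, 9, 28, 9, 9, 11, 11, 19, 19, 17, 17, 28, 28], [19, 13, 9, 9, 9, 13, 13, 19, 19, 28,
    28]]

/-- Part of the rows. -/
def sevenThreeRowsPart1 : List (List ℕ) :=
  [[22, 11, 10, 10, 10, 11, 11, 24, 24, 22, 22], [26, 11, 11, 11, 11, 11, 11, 28, 28, 28, 28, 28, 28, 26, 26,
    33, 33], [36, 36, 36, 32, 32, 35, 32, 30, 35, 0, 0], [37, 36, 1, 1, 36, 36, 37, 37, 14, 14, 14, 14, 12,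
    12], [38, 36, 2, 2, 36, 36, 38, 38, 20, 20, 20, 20, 18, 18], [40, 36, 32, 35, 5, 5, 36, 36, 40, 40, 42,
    42, 7, 7, 7, 7, 5, 5, 35, 35, 5, 5, 35, 35], [38, 37, 9, 9, 9, 37, 37, 38, 38, 39, 39, 41, 41], [39, 37,
    11, 11, 11, 37, 37, 39, 39, 41, 41], [46, 43, 5, 5, 3, 32, 32, 32, 30, 35, 3, 3, 3, 43, 43, 46, 46, 48,
    48, 50, 50, 30, 30], [48, 43, 5, 5, 32, 7, 7, 5, 5, 32, 35, 5, 5, 43, 43, 48, 48, 50, 50], [45, 44, 9, 9,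
    9, 44, 44, 45, 45, 47, 47, 49, 49], [47, 44, 11, 11, 11, 44, 44, 47, 47, 49, 49], [48, 46, 23, 23, 30, 23,
    23, 46, 46, 48, 48, 30, 30], [54, 51, 3, 3, 3, 51, 51, 54, 54, 56, 56, 58, 58], [56, 51, 5, 5, 5, 51, 51,
    56, 56, 58, 58], [52, 52, 52, 8, 8, 8, 8], [53, 52, 11, 11, 9, 28, 28, 28, 26, 33, 9, 9, 9, 52, 52, 53,
    53, 55, 55, 57, 57, 26, 26], [54, 52, 10, 10, 10, 10, 52, 52, 54, 54], [55, 52, 11, 11, 28, 13, 13, 11,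
    11, 28, 33, 11, 11, 52, 52, 55, 55, 57, 57], [55, 53, 17, 17, 26, 17, 17, 53, 53, 55, 55, 26, 26]]

/-- Part of the rows. -/
def sevenThreeRowsPart2 : List (List ℕ) :=
  [[59, 59, 59, 25, 23, 32, 25, 25, 23, 23, 21, 32, 32, 30, 35, 15, 15], [60, 59, 16, 16, 59, 59, 60, 60, 25,
    25, 23, 23], [68, 65, 9, 3, 3, 65, 65, 68, 68, 70, 70, 72, 72], [70, 65, 11, 5, 5, 65, 65, 70, 70, 72,
    72], [67, 66, 3, 9, 9, 66, 66, 67, 67, 69, 69, 71, 71], [69, 66, 5, 11, 11, 66, 66, 69, 69, 71, 71], [75,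
    73, 6, 6, 4, 4, 3, 2, 2, 29, 27, 29, 27, 34, 34, 3, 3, 73, 73, 75, 75, 77, 77, 79, 79, 31, 31, 31, 31],
    [77, 73, 5, 5, 5, 73, 73, 77, 77, 79, 79], [74, 74, 74, 28, 28, 26, 28, 28, 33, 28, 28, 26, 33, 15, 15]]

/-- The rows. -/
def sevenThreeRows : List (List ℕ) :=
  sevenThreeRowsPart0 ++ sevenThreeRowsPart1 ++ sevenThreeRowsPart2

/-- The gauge. -/
def sevenThreeGauge : List (List ℕ) :=
  [[], [], [], [], [9, 11, 11], [3, 5, 5], [11], [5]]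

/-- The goals. -/
def sevenThreeGoals : List (List ℕ) :=
  [[0], [1], [2], [3, 3, 3, 5, 5, 5, 5, 5, 5], [4, 9, 11, 11, 9, 9, 11, 11, 11, 11], [5, 3, 5, 5, 3, 3, 5, 5, 5,
    5, 5, 5], [6, 11, 11, 11], [7, 5, 5, 5], [8], [9, 9, 9, 11, 11, 11, 11, 11, 11], [10], [11, 9, 11, 11, 9,
    9, 11, 11, 11, 11, 11, 11], [12, 3, 5, 5, 3, 3, 5, 5, 5, 5], [13, 11, 11, 11], [14, 5, 5, 5], [15], [16],
    [17, 9, 11, 11, 9, 9, 11, 11, 11, 11], [18, 3, 5, 5, 3, 3, 5, 5, 5, 5], [19, 11, 11, 11], [20, 5, 5, 5],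
    [21], [22, 9, 11, 11, 9, 9, 11, 11, 11, 11], [23, 3, 5, 5, 3, 3, 5, 5, 5, 5], [24, 11, 11, 11], [25, 5, 5,
    5], [26, 9, 11, 11, 9, 11, 11, 9, 11, 11], [27, 3, 5, 5, 9, 11, 11, 9, 9, 11, 11, 11, 11, 3, 3, 5, 5, 5,
    5], [28, 11, 9, 11, 11, 9, 9, 11, 11, 11, 11, 11, 11], [29, 5, 9, 11, 11, 9, 9, 11, 11, 11, 11, 5, 5],
    [30, 3, 5, 5, 3, 5, 5, 3, 5, 5], [31, 11, 3, 5, 5, 3, 3, 5, 5, 5, 5, 11, 11], [32, 5, 3, 5, 5, 3, 3, 5, 5,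
    5, 5, 5, 5], [33, 11, 11, 11], [34, 5, 11, 11, 11, 5, 5], [35, 5, 5, 5]]

/-- The combinations. -/
def sevenThreeCombs : List (List ℕ) :=
  [[6, 6, 13, 13, 22, 22], [1, 3, 23, 23], [4, 5, 24, 24], [], [0, 2, 2], [], [2], [6, 7, 11, 13], [35], [],
    [37], [], [1, 1, 3], [15, 16, 19, 21], [3, 3], [15, 48, 48], [9, 32, 32, 41, 41], [39], [4, 4, 5], [18,
    18], [5, 5], [6, 15, 40, 48, 48], [17, 20], [32], [20, 20], [9, 9], [15, 15, 21], [8, 12], [19, 19], [12,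
    12], [6, 6, 13], [10, 10, 14], [11, 11], [21, 21], [14], [13, 13]]

/-- The presentation. -/
def sevenThree : PcData where
  p := 3
  n := 8
  rules := sevenThreeRules
  fus := sevenThreeFus

/-- The certificate. -/
def sevenThreeCert : PcCert where
  assoc := sevenThreeAssoc
  feq := sevenThreeFeq
  rows := sevenThreeRows
  F := sevenThreeGauge
  goals := sevenThreeGoals
  combs := sevenThreeCombs

end Cfsg.Lib.UnitMult.Data
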