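import Cfsg.Agent.Lib.UnitMult.TwoLetters
import Cfsg.Agent.Lib.UnitMult.TwoDataSevenThree

/-!
# Kernel checks of the certificate for the three-part in unitary dimension 7
-/

set_option autoImplicit false
set_option maxRecDepth 100000

namespace Cfsg.Lib.UnitMult

open Cfsg.Lib.Schur.PcStem Cfsg.Lib.Concrete Data

theorem sevenThree_check : sevenThree.check sevenThreeCert (@digitVec 3 80 ⟨by norm_num⟩) = true := by decide +kernel

theorem sevenThree_rels : (letsOk 7 sevenThreeVecs && relsT 7 sevenThreeVecs sevenThreeGens sevenThreeConj sevenThree) = true := by decide +kernel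

theorem sevenThree_card : (stagesOk 7 sevenThreeVecs sevenThreeGens sevenThree.n sevenThreeStages [] &&
    Nat.beq (stagesSize sevenThreeStages) (3 ^ 8)) = true := by decide +kernel

end Cfsg.Lib.UnitMult
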