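import Cfsg.Agent.Lib.UnitMult.TwoLetters
import Cfsg.Agent.Lib.UnitMult.TwoDataSevenTwo

/-!
# Kernel checks of the certificate for the two-part in unitary dimension 7
-/

set_option autoImplicit false
set_option maxRecDepth 100000

namespace Cfsg.Lib.UnitMult

open Cfsg.Lib.Schur.PcStem Cfsg.Lib.Concrete Data

theorem sevenTwo_check : sevenTwo.check sevenTwoCert (xorVec 287) = true := by decide +kernel

theorem sevenTwo_rels : (letsOk 7 sevenTwoVecs && relsT 7 sevenTwoVecs sevenTwoGens sevenTwoConj sevenTwo) = true := by decide +kernel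

theorem sevenTwo_card : (stagesOk 7 sevenTwoVecs sevenTwoGens sevenTwo.n sevenTwoStages [] &&
    Nat.beq (stagesSize sevenTwoStages) (2 ^ 21)) = true := by decide +kernel

end Cfsg.Lib.UnitMult
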