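import Cfsg.Agent.Lib.UnitMult.TwoCheckFiveTwo
import Cfsg.Agent.Lib.UnitMult.TwoCheckFiveThree
import Cfsg.Agent.Lib.UnitMult.TwoCheckSevenTwo
import Cfsg.Agent.Lib.UnitMult.TwoCheckSevenThree
import Cfsg.Agent.Lib.Concrete.StemTools
import Cfsg.Agent.Lib.Linear.HermStandard

/-!
# Unitary groups over the field with four elements in dimensions five and seven have trivial multiplier
-/

set_option autoImplicit false

namespace Cfsg.Lib.UnitMult

open Cfsg Cfsg.Lib.Concrete Cfsg.Lib.Schur.ModSplit Cfsg.Lib.Schur.PcStem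

universe u v

/-- A surjective stem map with trivial multiplier at the bottom has trivial kernel. -/
theorem ker_eq_bot_of_noStem {G Γ : Type} [Group G] [Finite G] [Group Γ] [Finite Γ]
    (h : ∀ p : ℕ, p.Prime → NoStem p G) {σ : Γ →* G} (hσ : IsStemExtension σ) : σ.ker = ⊥ := by
  obtain ⟨-, h2⟩ := hasTrivialMultiplier h
  obtain ⟨f, hf⟩ := h2 Γ σ hσ
  refine (Subgroup.eq_bot_iff_forall _).2 fun x hx => ?_
  obtain ⟨a, ha⟩ := hf ⟨x, hx⟩
  have h1 : f a = 1 := by rw [Subsingleton.elim a 1, map_one]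
  exact (congrArg Subtype.val (ha.symm.trans h1) : _)

/-- Stem extensions in any universe of a finite group. -/
theorem ker_eq_bot_of_equiv {G : Type u} {G₀ : Type} [Group G] [Group G₀] [Finite G₀] (e : G ≃* G₀)
    (h : ∀ p : ℕ, p.Prime → NoStem p G₀) {Γ : Type v} [Group Γ] [Finite Γ] {σ : Γ →* G}
    (hσ : IsStemExtension σ) : σ.ker = ⊥ := by
  let f : Shrink.{0} Γ ≃* Γ := Shrink.mulEquiv
  have : Finite (Shrink.{0} Γ) := Finite.of_equiv _ f.symm.toEquiv
  let τ : Shrink.{0} Γ →* G₀ := (e.toMonoidHom.comp σ).comp f.toMonoidHom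
  obtain ⟨hs, hc, hle⟩ := hσ
  have hk : ∀ x, x ∈ τ.ker ↔ f x ∈ σ.ker := fun x => by
    rw [MonoidHom.mem_ker, MonoidHom.mem_ker]
    exact e.map_eq_one_iff
  have hτ : IsStemExtension τ := by
    refine ⟨(e.surjective.comp hs).comp f.surjective, fun x hx => ?_, fun x hx => ?_⟩
    · refine Subgroup.mem_center_iff.2 fun y => f.injective ?_
      rw [map_mul, map_mul]
      exact Subgroup.mem_center_iff.1 (hc ((hk x).1 hx)) _
    · have hm : (commutator (Shrink.{0} Γ)).map f.toMonoidHom = commutator Γ := by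
        rw [commutator_def, Subgroup.map_commutator, Subgroup.map_top_of_surjective _ f.surjective,
          ← commutator_def]
      obtain ⟨y, hy, hyx⟩ := (hm.symm ▸ hle ((hk x).1 hx) : f x ∈ (commutator (Shrink.{0} Γ)).map f.toMonoidHom)
      exact f.injective hyx ▸ hy
  have hbot := ker_eq_bot_of_noStem h hτ
  refine (Subgroup.eq_bot_iff_forall _).2 fun x hx => ?_
  have h1 : f.symm x ∈ τ.ker := (hk _).2 (by rw [f.apply_symm_apply]; exact hx)
  rw [hbot, Subgroup.mem_bot] at h1
  exact f.symm.injective (h1.trans (map_one _).symm)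

section

variable {F : Type u} [Field F] [Fintype F] (hF : Fintype.card F = 4) {n : ℕ}

include hF in
/-- The checks give the absence of stem extensions. -/
theorem noStem_of_checksT {G : Type} [Group G] [Finite G] (e : ↥(SU n F 2) ≃* G) {vs gw fw : List (List ℕ)}
    {d : PcData} {c : PcCert} {p m k : ℕ} (hp : p.Prime) {A : SVec p m} (hc : d.check c A = true)
    (hr : (letsOk n vs && relsT n vs gw fw d) = true) {st : List (List ℕ × List (List ℕ))}
    (hst : (stagesOk n vs gw d.n st [] && Nat.beq (stagesSize st) (p ^ k)) = true) (hk : d.n = k) {N : ℕ}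
    (hG : Nat.card ↥(SU n F 2) = N) (hmax : ¬ p ^ (k + 1) ∣ N) : NoStem p G := by
  obtain ⟨C⟩ := exists_code hF
  simp only [Bool.and_eq_true, Nat.beq_eq] at hr hst
  subst hk
  have hge : p ^ d.n ≤ Nat.card (sub d (elG C hF e vs gw)) := hst.2 ▸ stagesSize_le C hF e hr.1 hst.1
  have hS := setting_of_relsT C hF e hr.1 hr.2 (fw := fw)
  refine noStem_of_pc hp hc hS hge fun hdvd => hmax ?_
  have hc' := hc
  simp only [PcData.check, Bool.and_eq_true, Nat.beq_eq] at hc'
  have hdp : d.p = p := hc'.1.1.1.1.1.1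
  have hle := card_sub_le d hc'.1.1.1.1.1.2 (elG C hF e vs gw) hS.rules
  rw [hdp] at hle
  rw [← hG, Nat.card_congr e.toEquiv, ← Subgroup.card_mul_index (sub d (elG C hF e vs gw)), le_antisymm hle hge,
    pow_succ]
  exact Nat.mul_dvd_mul_left _ hdvd

include hF in
theorem card_SU_five : Nat.card ↥(SU 5 F 2) = 13685760 := by
  have hF' : Fintype.card F = 2 ^ 2 := by rw [hF]; norm_num
  have h := Cfsg.Lib.Linear.Herm.card_SU hF' (n := 5) (by norm_num)
  rw [Cfsg.Lib.Linear.Herm.card_GU hF'] at h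
  norm_num [Finset.prod_range_succ, show Even 0 from ⟨0, rfl⟩, show Even 2 from ⟨1, rfl⟩,
    show Even 4 from ⟨2, rfl⟩, show ¬ Even 1 from Nat.not_even_one, show ¬ Even 3 by decide] at h
  omega

include hF in
theorem card_SU_seven : Nat.card ↥(SU 7 F 2) = 227787103272960 := by
  have hF' : Fintype.card F = 2 ^ 2 := by rw [hF]; norm_num
  have h := Cfsg.Lib.Linear.Herm.card_SU hF' (n := 7) (by norm_num)
  rw [Cfsg.Lib.Linear.Herm.card_GU hF'] at h
  norm_num [Finset.prod_range_succ, show Even 0 from ⟨0, rfl⟩, show Even 2 from ⟨1, rfl⟩,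
    show Even 4 from ⟨2, rfl⟩, show Even 6 from ⟨3, rfl⟩, show ¬ Even 1 from Nat.not_even_one,
    show ¬ Even 3 by decide, show ¬ Even 5 by decide] at h
  omega

open Data in
include hF in
theorem noStem_SU_five {G : Type} [Group G] [Finite G] (e : ↥(SU 5 F 2) ≃* G) (p : ℕ) (hp : p.Prime) :
    NoStem p G := by
  by_cases h2 : p = 2
  · subst h2
    exact noStem_of_checksT hF e hp fiveTwo_check fiveTwo_rels fiveTwo_card rfl (card_SU_five hF) (by norm_num)
  by_cases h3 : p = 3
  · subst h3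
    exact noStem_of_checksT hF e hp fiveThree_check fiveThree_rels fiveThree_card rfl (card_SU_five hF) (by norm_num)
  refine noStem_of_not_sq_dvd hp ?_
  rw [← Nat.card_congr e.toEquiv, card_SU_five hF, show (13685760 : ℕ) = 2 ^ 10 * 3 ^ 5 * (5 * 11) by norm_num]
  intro h
  have hd := (((Nat.Coprime.pow 2 10 ((Nat.coprime_primes hp Nat.prime_two).2 h2)).mul_right
    (Nat.Coprime.pow 2 5 ((Nat.coprime_primes hp Nat.prime_three).2 h3))).dvd_of_dvd_mul_left h)
  have hle : p ^ 2 ≤ 5 * 11 := Nat.le_of_dvd (by norm_num) hd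
  have : p < 8 := by nlinarith
  interval_cases p <;> first | omega | exact absurd hp (by norm_num)

open Data in
include hF in
theorem noStem_SU_seven {G : Type} [Group G] [Finite G] (e : ↥(SU 7 F 2) ≃* G) (p : ℕ) (hp : p.Prime) :
    NoStem p G := by
  by_cases h2 : p = 2
  · subst h2
    exact noStem_of_checksT hF e hp sevenTwo_check sevenTwo_rels sevenTwo_card rfl (card_SU_seven hF) (by norm_num)
  by_cases h3 : p = 3
  · subst h3
    exact noStem_of_checksT hF e hp sevenThree_check sevenThree_rels sevenThree_card rfl (card_SU_seven hF)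
      (by norm_num)
  refine noStem_of_not_sq_dvd hp ?_
  rw [← Nat.card_congr e.toEquiv, card_SU_seven hF,
    show (227787103272960 : ℕ) = 2 ^ 21 * 3 ^ 8 * (5 * (7 * (11 * 43))) by norm_num]
  intro h
  have hd := (((Nat.Coprime.pow 2 21 ((Nat.coprime_primes hp Nat.prime_two).2 h2)).mul_right
    (Nat.Coprime.pow 2 8 ((Nat.coprime_primes hp Nat.prime_three).2 h3))).dvd_of_dvd_mul_left h)
  have hle : p ^ 2 ≤ 5 * (7 * (11 * 43)) := Nat.le_of_dvd (by norm_num) hd
  have : p < 129 := by nlinarith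
  interval_cases p <;> first | omega | exact absurd hp (by norm_num)

include hF in
/-- Every stem extension of the special unitary group in dimension five over four elements is trivial. -/
theorem stem_five_two (Γ : Type v) [Group Γ] [Finite Γ] (σ : Γ →* ↥(SU 5 F 2)) (hσ : IsStemExtension σ) :
    σ.ker = ⊥ := by
  have : Finite ↥(SU 5 F 2) := inferInstance
  let e : ↥(SU 5 F 2) ≃* Shrink.{0} ↥(SU 5 F 2) := Shrink.mulEquiv.symm
  have : Finite (Shrink.{0} ↥(SU 5 F 2)) := Finite.of_equiv _ e.toEquiv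
  exact ker_eq_bot_of_equiv e (noStem_SU_five hF e) hσ

include hF in
/-- Every stem extension of the special unitary group in dimension seven over four elements is trivial. -/
theorem stem_seven_two (Γ : Type v) [Group Γ] [Finite Γ] (σ : Γ →* ↥(SU 7 F 2)) (hσ : IsStemExtension σ) :
    σ.ker = ⊥ := by
  have : Finite ↥(SU 7 F 2) := inferInstance
  let e : ↥(SU 7 F 2) ≃* Shrink.{0} ↥(SU 7 F 2) := Shrink.mulEquiv.symm
  have : Finite (Shrink.{0} ↥(SU 7 F 2)) := Finite.of_equiv _ e.toEquiv
  exact ker_eq_bot_of_equiv e (noStem_SU_seven hF e) hσ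

end

end Cfsg.Lib.UnitMult
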