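import Cfsg.Agent.Lib.UnitMult.PPart
import Cfsg.Agent.Lib.UnitMult.Step
import Cfsg.Agent.Lib.Linear.SUDegree.Normal
import Cfsg.Agent.Lib.UnitMult.TwoBases
import Cfsg.Agent.Lib.Linear.UnitaryCenter
import Cfsg.Agent.Lib.Concrete.SLMultiplier

/-!
The multiplier of the unitary groups from the bases in dimensions three, four and five.
-/

set_option autoImplicit false
set_option linter.unusedSectionVars false

namespace Cfsg.Lib.UnitMult

open Cfsg.Lib.Linear.Herm Cfsg.Lib.Linear.SUDegree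
open scoped commutatorElement

universe u

variable {F : Type u} [Field F] [Fintype F] {q : ℕ}

theorem su_three_perfect (hF : Fintype.card F = q ^ 2) (hq : 3 ≤ q) : commutator (Cfsg.SU 3 F q) = ⊤ := by
  obtain ⟨p, hchar⟩ := CharP.exists F
  haveI := hchar
  haveI hp : Fact p.Prime := ⟨CharP.char_is_prime F p⟩
  obtain ⟨f, hf0, hf⟩ := q_pow hF p
  have hpq : p ∣ q := hf ▸ dvd_pow_self p hf0.ne'
  have hndq : ¬ p ∣ q + 1 := fun h => hp.out.one_lt.ne' (Nat.dvd_one.1 ((Nat.dvd_add_right hpq).1 h))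
  refine (su_normal hF (Or.inr ⟨rfl, hq⟩) (commutator (Cfsg.SU 3 F q))).resolve_left fun hle => ?_
  have hd : p ∣ Nat.card (Cfsg.SU 3 F q) := by
    have h := card_SU hF (show 1 ≤ 3 by norm_num)
    rw [card_GU hF 3] at h
    have h1 : p ∣ (q + 1) * Nat.card (Cfsg.SU 3 F q) := h ▸ ((hpq.trans (dvd_pow_self q (by norm_num))).mul_right _)
    exact (hp.out.dvd_mul.1 h1).resolve_left hndq
  obtain ⟨x, hx⟩ := exists_prime_orderOf_dvd_card' p hd
  have hxp : x ^ p = 1 := hx ▸ pow_orderOf_eq_one x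
  have hcard : Nat.card (Subgroup.center (Cfsg.SU 3 F q)) ∣ q + 1 :=
    card_center_SU hF (show 2 ≤ 3 by norm_num) ▸ Nat.gcd_dvd_right _ _
  have hxc : x ∈ Subgroup.center (Cfsg.SU 3 F q) := by
    refine Subgroup.mem_center_iff.2 fun g => ?_
    have hz : ⁅g, x⁆ ∈ Subgroup.center (Cfsg.SU 3 F q) :=
      hle (Subgroup.commutator_mem_commutator (Subgroup.mem_top g) (Subgroup.mem_top x))
    have hzp : ⁅g, x⁆ ^ p = 1 := by
      have e : ⁅g, x⁆ * x = g * x * g⁻¹ := by rw [commutatorElement_def]; group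
      have h := congrArg (· ^ p) e
      simp only [conj_pow, hxp, mul_one, mul_inv_cancel] at h
      rwa [Commute.mul_pow (show Commute ⁅g, x⁆ x from (Subgroup.mem_center_iff.1 hz x).symm), hxp, mul_one] at h
    have hzc : ⁅g, x⁆ ^ (q + 1) = 1 := by
      obtain ⟨k, hk⟩ := hcard
      rw [hk, pow_mul, show ⁅g, x⁆ ^ Nat.card (Subgroup.center (Cfsg.SU 3 F q)) = 1 from
        congrArg Subtype.val (pow_card_eq_one' (x := (⟨_, hz⟩ : Subgroup.center (Cfsg.SU 3 F q)))), one_pow]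
    have h1 := pow_gcd_eq_one.2 ⟨hzp, hzc⟩
    rw [((hp.out.coprime_iff_not_dvd).2 hndq).gcd_eq_one, pow_one] at h1
    exact commutatorElement_eq_one_iff_mul_comm.1 h1
  refine hndq (hx ▸ Nat.dvd_trans ?_ hcard)
  rw [← Subgroup.orderOf_mk x hxc]
  exact orderOf_dvd_natCard _

theorem su_perfect' (hF : Fintype.card F = q ^ 2) {n : ℕ} (hn : 3 ≤ n) (h3 : ¬ (n = 3 ∧ q = 2)) :
    commutator (Cfsg.SU n F q) = ⊤ := by
  rcases Nat.lt_or_ge n 4 with h | h
  · obtain rfl : n = 3 := by omega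
    refine su_three_perfect hF ?_
    have := two_le_q hF
    have : q ≠ 2 := fun e => h3 ⟨rfl, e⟩
    omega
  · exact Step.su_perfect hF h

/-- The bases in cross characteristic. -/
def CrossBase (F : Type u) [Field F] [Fintype F] (q : ℕ) : Prop :=
  ∀ n, (n = 3 ∨ n = 4 ∨ n = 5) → 3 ≤ q → (n = 4 → 4 ≤ q) → ∀ r : ℕ, r.Prime → ¬ r ∣ q →
    ∀ (Γ : Type u) [Group Γ] [Finite Γ] (σ : Γ →* ↥(Cfsg.SU n F q)), Function.Surjective σ →
      σ.ker ≤ Subgroup.center Γ → Nat.card σ.ker = r → ¬ σ.ker ≤ commutator Γ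

theorem ker_eq_bot_small (hF : Fintype.card F = q ^ 2) (hx : CrossBase F q) {n : ℕ} (hn : n = 3 ∨ n = 4 ∨ n = 5)
    (hq : 3 ≤ q) (h4 : n = 4 → 4 ≤ q) (Γ : Type u) [Group Γ] [Finite Γ] (σ : Γ →* ↥(Cfsg.SU n F q))
    (hσ : Cfsg.IsStemExtension σ) : σ.ker = ⊥ := by
  haveI : Finite ↥(Cfsg.SU n F q) := inferInstance
  have h : Cfsg.HasCyclicSchurMultiplier ↥(Cfsg.SU n F q) 1 := by
    refine Cfsg.Lib.Chev.MultW.trivial_multiplier fun r hr Δ _ _ τ hs hc hcard => ?_
    obtain ⟨p, hchar⟩ := CharP.exists F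
    haveI := hchar
    haveI hp : Fact p.Prime := ⟨CharP.char_is_prime F p⟩
    by_cases hrq : r ∣ q
    · obtain ⟨f, -, hf⟩ := q_pow hF p
      obtain rfl : r = p := (Nat.prime_dvd_prime_iff_eq hr hp.out).1 (hr.dvd_of_dvd_pow (hf ▸ hrq))
      exact no_stem_char hF r hn hq h4 Δ τ hs hc hcard
    · exact hx n hn hq h4 r hr hrq Δ τ hs hc hcard
  obtain ⟨π, hπ⟩ := h.2 Γ σ hσ
  refine (Subgroup.eq_bot_iff_forall _).2 fun x hx => ?_
  obtain ⟨z, hz⟩ := hπ ⟨x, hx⟩
  haveI : Subsingleton (Multiplicative (ZMod 1)) := inferInstanceAs (Subsingleton (ZMod 1))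
  rw [Subsingleton.elim z 1, map_one] at hz
  exact (congrArg Subtype.val hz.symm :)

theorem ker_eq_bot_su (hF : Fintype.card F = q ^ 2) (hx : CrossBase F q) : ∀ n, 3 ≤ n → ¬ (n = 3 ∧ q = 2) →
    ¬ (n = 4 ∧ q = 2) → ¬ (n = 4 ∧ q = 3) → ¬ (n = 6 ∧ q = 2) →
    ∀ (Γ : Type u) [Group Γ] [Finite Γ] (σ : Γ →* ↥(Cfsg.SU n F q)), Cfsg.IsStemExtension σ → σ.ker = ⊥ := by
  have hq := two_le_q hF
  intro n
  induction n using Nat.strong_induction_on with
  | _ n ih =>
    intro hn h3 h4 h43 h6 Γ _ _ σ hσ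
    by_cases hsmall : n ≤ 5
    · by_cases hq2 : q = 2
      · subst hq2
        obtain rfl : n = 5 := by omega
        exact stem_five_two (by simpa using hF) Γ σ hσ
      · exact ker_eq_bot_small hF hx (by omega) (by omega) (fun h => by omega) Γ σ hσ
    · by_cases h7 : n = 7 ∧ q = 2
      · obtain ⟨rfl, rfl⟩ := h7
        exact stem_seven_two (by simpa using hF) Γ σ hσ
      · exact stem_step hF (by omega) h6 (ih (n - 1) (by omega) (by omega) (by omega) (by omega) (by omega) (by omega))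
          Γ σ hσ

/-- The multiplier of `PSU n`. -/
theorem multiplier_psu (hF : Fintype.card F = q ^ 2) (hx : CrossBase F q) {n : ℕ} (hn : 3 ≤ n)
    (h3 : ¬ (n = 3 ∧ q = 2)) (h4 : ¬ (n = 4 ∧ q = 2)) (h43 : ¬ (n = 4 ∧ q = 3)) (h6 : ¬ (n = 6 ∧ q = 2)) :
    Cfsg.HasCyclicSchurMultiplier (Cfsg.PSU n F q) (Nat.gcd n (q + 1)) := by
  let incl : ↥(Subgroup.center (Cfsg.SU n F q)) →* Subgroup.center (Matrix.SpecialLinearGroup (Fin n) F) :=
    { toFun := fun A => ⟨(A.1 : Matrix.SpecialLinearGroup (Fin n) F), by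
        obtain ⟨c, hc⟩ := exists_scalar hF (by omega : 2 ≤ n) _ fun B hB =>
          congrArg (fun x : Cfsg.SU n F q => ((x.1 : Matrix.SpecialLinearGroup (Fin n) F) : Matrix (Fin n) (Fin n) F))
            (Subgroup.mem_center_iff.1 A.2 ⟨B, hB⟩)
        refine Subgroup.mem_center_iff.2 fun B => Matrix.SpecialLinearGroup.ext _ _ fun i j => ?_
        simp only [Matrix.SpecialLinearGroup.coe_mul, hc, Matrix.scalar_apply, Matrix.mul_diagonal,
          Matrix.diagonal_mul, mul_comm]⟩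
      map_one' := rfl
      map_mul' := fun _ _ => rfl }
  haveI : IsCyclic (Subgroup.center (Matrix.SpecialLinearGroup (Fin n) F)) :=
    isCyclic_of_surjective _ (Matrix.SpecialLinearGroup.center_equiv_rootsOfUnity'
      (⟨0, by omega⟩ : Fin n)).symm.surjective
  haveI hcyc : IsCyclic (Subgroup.center (Cfsg.SU n F q)) :=
    isCyclic_of_injective incl fun A B h => by
      have := congrArg (fun z : Subgroup.center (Matrix.SpecialLinearGroup (Fin n) F) => z.1) h
      exact Subtype.ext (Subtype.ext this)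
  have hk : (QuotientGroup.mk' (Subgroup.center (Cfsg.SU n F q))).ker = Subgroup.center (Cfsg.SU n F q) :=
    QuotientGroup.ker_mk' _
  haveI : IsCyclic (QuotientGroup.mk' (Subgroup.center (Cfsg.SU n F q))).ker := by rw [hk]; exact hcyc
  have h := Cfsg.Lib.Concrete.SLMult.hasCyclic_quotient (su_perfect' hF hn h3)
    (ker_eq_bot_su hF hx n hn h3 h4 h43 h6) (QuotientGroup.mk' (Subgroup.center (Cfsg.SU n F q)))
    (QuotientGroup.mk'_surjective _) hk.le
  rwa [hk, card_center_SU hF (by omega)] at h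

end Cfsg.Lib.UnitMult
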