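import Cfsg.Agent.Lib.Chev.TwMult.RankOne

/-!
# Central extensions with kernel of prime order and subgroups of coprime index

Lifts of subgroups without such extensions, and criteria from cyclic, direct and dihedral
configurations over them.
-/

set_option autoImplicit false

namespace Cfsg.Lib.UnitMult.Cross

open Subgroup
open Cfsg.Lib.Chev.TwMult (NoStemPrime)
open scoped commutatorElement Pointwise

universe u

variable {r : ℕ} {Γ G : Type u} [Group Γ] [Group G]

/-- The order of the abelianisation is prime to `r`. -/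
def AbCop (r : ℕ) (G : Type u) [Group G] : Prop := Nat.Coprime r (Nat.card (Abelianization G))

theorem noStem_of_equiv {S : Type u} [Group S] (e : G ≃* S) (h : NoStemPrime r G) : NoStemPrime r S := by
  intro Γ _ _ σ hs hc hp hle
  have hk : (e.symm.toMonoidHom.comp σ).ker = σ.ker := by
    ext x; simp [MonoidHom.mem_ker]
  exact h Γ (e.symm.toMonoidHom.comp σ) (e.symm.surjective.comp hs) (hk ▸ hc) (by rw [hk]; exact hp)
    (hk ▸ hle)

theorem abCop_of_equiv {S : Type u} [Group S] (e : G ≃* S) (h : AbCop r G) : AbCop r S := by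
  rwa [AbCop, Nat.card_congr e.abelianizationCongr.symm.toEquiv]

theorem abCop_of_perfect (h : commutator G = ⊤) : AbCop r G := by
  have : Subsingleton (Abelianization G) := QuotientGroup.subsingleton_iff.2 h
  rw [AbCop, Nat.card_unique]
  exact Nat.coprime_one_right r

theorem abCop_of_gen [Finite G] [hr : Fact r.Prime] {p : ℕ} (hp : p.Prime) (hrp : r ≠ p) {S : Set G}
    (hS : closure S = ⊤) (hpow : ∀ s ∈ S, s ^ p = 1) : AbCop r G := by
  haveI := Fact.mk hp
  have hpg : IsPGroup p (Abelianization G) := fun a => by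
    obtain ⟨g, rfl⟩ := QuotientGroup.mk_surjective a
    refine ⟨1, ?_⟩
    rw [pow_one]
    have hle : closure S ≤ ((powMonoidHom p : Abelianization G →* Abelianization G).comp
        Abelianization.of).ker := (closure_le _).2 fun s hs => by
      show Abelianization.of s ^ p = 1
      rw [← map_pow, hpow s hs, map_one]
    exact hle (hS ▸ mem_top g)
  obtain ⟨k, hk⟩ := IsPGroup.iff_card.1 hpg
  rw [AbCop, hk]
  exact ((Nat.coprime_primes hr.out hp).2 hrp).pow_right k

/-- Generators that commute modulo a subgroup they normalise generate a group with derived group in it. -/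
theorem commutator_closure_le [Finite Γ] {S : Set Γ} {N : Subgroup Γ}
    (hnorm : ∀ s ∈ S, ∀ x ∈ N, s * x * s⁻¹ ∈ N) (hcomm : ∀ s ∈ S, ∀ t ∈ S, ⁅s, t⁆ ∈ N) :
    ⁅closure S, closure S⁆ ≤ N := by
  have hM : closure S ≤ normalizer (N : Set Γ) := (closure_le _).2 fun s hs => by
    have h1 : N.map (MulAut.conj s).toMonoidHom ≤ N := by
      rintro _ ⟨x, hx, rfl⟩; exact hnorm s hs x hx
    have h2 := eq_of_le_of_card_ge h1 (ge_of_eq
      (Nat.card_congr (N.equivMapOfInjective _ (MulAut.conj s).injective).toEquiv).symm)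
    refine mem_normalizer_iff.2 fun x => ⟨hnorm s hs x, fun hx => ?_⟩
    rw [← h2] at hx
    obtain ⟨y, hy, e⟩ := hx
    rwa [← (MulAut.conj s).injective e]
  let M := normalizer (N : Set Γ)
  let π := QuotientGroup.mk' (N.subgroupOf M)
  have hcl : (closure S).subgroupOf M ≤ closure ((↑) ⁻¹' S : Set M) := by
    intro x hx
    obtain ⟨y, hy, e⟩ : (x : Γ) ∈ (closure ((↑) ⁻¹' S : Set M)).map M.subtype := by
      rw [MonoidHom.map_closure]
      exact Subgroup.closure_mono (fun s hs => (⟨⟨s, hM (subset_closure hs)⟩, hs, rfl⟩ : s ∈ M.subtype '' ((↑) ⁻¹' S))) hx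
    exact (Subtype.ext e : y = x) ▸ hy
  rw [commutator_le]
  intro a ha b hb
  have hab : ⁅π ⟨a, hM ha⟩, π ⟨b, hM hb⟩⁆ = 1 := by
    rw [commutatorElement_eq_one_iff_mul_comm]
    have hA : π ⟨a, hM ha⟩ ∈ closure (π '' ((↑) ⁻¹' S)) := by
      rw [← MonoidHom.map_closure]; exact mem_map_of_mem _ (hcl ha)
    have hB : π ⟨b, hM hb⟩ ∈ closure (π '' ((↑) ⁻¹' S)) := by
      rw [← MonoidHom.map_closure]; exact mem_map_of_mem _ (hcl hb)
    set T := π '' ((↑) ⁻¹' S) with hT
    have h1 : closure T ≤ centralizer T := (closure_le _).2 (by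
      rintro _ ⟨u, hu, rfl⟩
      refine mem_centralizer_iff.2 ?_
      rintro _ ⟨v, hv, rfl⟩
      rw [← commutatorElement_eq_one_iff_mul_comm, ← map_commutatorElement]
      exact (QuotientGroup.eq_one_iff _).2 (hcomm _ hv _ hu))
    have h2 : closure T ≤ centralizer (closure T : Set _) := (closure_le _).2 fun v hv =>
      mem_centralizer_iff.2 fun w hw => (mem_centralizer_iff.1 (h1 hw) v hv).symm
    exact mem_centralizer_iff.1 (h2 hB) _ hA
  rw [← map_commutatorElement, QuotientGroup.mk'_apply, QuotientGroup.eq_one_iff] at hab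
  exact hab

/-- The preimage of a generated subgroup is generated by lifts and the kernel. -/
theorem comap_closure_eq (σ : Γ →* G) (L : Set Γ) :
    (closure (σ '' L)).comap σ = closure (L ∪ σ.ker) := by
  rw [← MonoidHom.map_closure, comap_map_eq, Subgroup.closure_union, closure_eq]

variable (σ : Γ →* G)

/-- The derived preimage of `H` with the `m`-th roots of it in the preimage. -/
def liftSub (m : ℕ) (H : Subgroup G) : Subgroup Γ :=
  ((powMonoidHom m : Abelianization ↥(H.comap σ) →* _).comp Abelianization.of).ker.map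
    (H.comap σ).subtype

theorem mem_liftSub {m : ℕ} {H : Subgroup G} {x : Γ} :
    x ∈ liftSub σ m H ↔ σ x ∈ H ∧ x ^ m ∈ ⁅H.comap σ, H.comap σ⁆ := by
  have h4 : (commutator ↥(H.comap σ)).map (H.comap σ).subtype = ⁅H.comap σ, H.comap σ⁆ := by
    rw [_root_.commutator_def, Subgroup.map_commutator, ← MonoidHom.range_eq_map, range_subtype]
  constructor
  · rintro ⟨y, hy, rfl⟩
    refine ⟨y.2, h4 ▸ mem_map_of_mem (H.comap σ).subtype ((QuotientGroup.eq_one_iff (y ^ m)).1 ?_)⟩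
    exact (map_pow Abelianization.of y m).trans hy
  · rintro ⟨hx, hm⟩
    refine ⟨⟨x, hx⟩, ?_, rfl⟩
    rw [← h4] at hm
    obtain ⟨z, hz, e⟩ := hm
    show Abelianization.of _ ^ m = 1
    rw [← map_pow, show (⟨x, hx⟩ : ↥(H.comap σ)) ^ m = z from Subtype.ext e.symm]
    exact (QuotientGroup.eq_one_iff z).2 hz

theorem conj_mem_liftSub {m : ℕ} {H H' : Subgroup G} {g x : Γ}
    (hg : ∀ h ∈ H, σ g * h * (σ g)⁻¹ ∈ H') (hx : x ∈ liftSub σ m H) :
    g * x * g⁻¹ ∈ liftSub σ m H' := by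
  rw [mem_liftSub] at hx ⊢
  have hle : (H.comap σ).map (MulAut.conj g).toMonoidHom ≤ H'.comap σ := by
    rintro _ ⟨y, hy, rfl⟩
    show σ (g * y * g⁻¹) ∈ H'
    rw [map_mul, map_mul, map_inv]
    exact hg _ hy
  refine ⟨by rw [map_mul, map_mul, map_inv]; exact hg _ hx.1, ?_⟩
  rw [conj_pow]
  have := mem_map_of_mem (MulAut.conj g).toMonoidHom hx.2
  rw [Subgroup.map_commutator] at this
  exact commutator_mono hle hle this

/-- A subgroup of the preimage mapping bijectively to `H`. -/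
structure IsLift (D : Subgroup Γ) (H : Subgroup G) : Prop where
  map_eq : D.map σ = H
  meet : D ⊓ σ.ker = ⊥

variable {σ} {D : Subgroup Γ} {H : Subgroup G}

theorem IsLift.σ_mem (L : IsLift σ D H) {x : Γ} (hx : x ∈ D) : σ x ∈ H :=
  L.map_eq ▸ mem_map_of_mem σ hx

theorem IsLift.exists_mem (L : IsLift σ D H) {g : G} (hg : g ∈ H) : ∃ x ∈ D, σ x = g := by
  rwa [← L.map_eq] at hg

theorem IsLift.eq_one (L : IsLift σ D H) {x : Γ} (hx : x ∈ D) (e : σ x = 1) : x = 1 :=
  Subgroup.mem_bot.1 (L.meet ▸ (⟨hx, e⟩ : x ∈ D ⊓ σ.ker))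

theorem IsLift.inj (L : IsLift σ D H) {x y : Γ} (hx : x ∈ D) (hy : y ∈ D) (e : σ x = σ y) : x = y :=
  inv_mul_eq_one.1 (L.eq_one (mul_mem (inv_mem hx) hy) (by rw [map_mul, map_inv, e, inv_mul_cancel]))

theorem IsLift.comap_eq (L : IsLift σ D H) : H.comap σ = closure ((D : Set Γ) ∪ σ.ker) := by
  rw [← comap_closure_eq, ← MonoidHom.map_closure, closure_eq, L.map_eq]

theorem commutatorElement_central {σ : Γ →* G} (hc : σ.ker ≤ center Γ) {k : Γ} (hk : k ∈ σ.ker) (x : Γ) :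
    ⁅k, x⁆ = 1 ∧ ⁅x, k⁆ = 1 := by
  have h := mem_center_iff.1 (hc hk) x
  exact ⟨commutatorElement_eq_one_iff_mul_comm.2 h.symm, commutatorElement_eq_one_iff_mul_comm.2 h⟩

theorem conj_central {σ : Γ →* G} (hc : σ.ker ≤ center Γ) {k : Γ} (hk : k ∈ σ.ker) (x : Γ) :
    k * x * k⁻¹ = x := by
  rw [← mem_center_iff.1 (hc hk) x, mul_inv_cancel_right]

theorem mul_comm_of_lift (L : IsLift σ D H) {g d : Γ} (hd : d ∈ D)
    (hconj : g * d * g⁻¹ ∈ D) (h : σ g * σ d = σ d * σ g) : g * d = d * g :=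
  mul_inv_eq_iff_eq_mul.1 (L.inj hconj hd (by rw [map_mul, map_mul, map_inv, h, mul_inv_cancel_right]))

/-- A number prime to `r` divisible by every `r'`-order dividing the group order. -/
noncomputable def coExp (r : ℕ) (G : Type u) : ℕ := Nat.card G / r ^ (Nat.card G).factorization r

theorem coExp_coprime [Finite G] [hr : Fact r.Prime] : Nat.Coprime r (coExp r G) :=
  Nat.coprime_ordCompl hr.out Nat.card_pos.ne'

theorem dvd_coExp [hr : Fact r.Prime] {a : ℕ} (ha : a ∣ Nat.card G) (hra : Nat.Coprime r a) :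
    a ∣ coExp r G := by
  have h : a ∣ r ^ (Nat.card G).factorization r * coExp r G := by
    rw [coExp, Nat.ordProj_mul_ordCompl_eq_self]; exact ha
  exact (hra.pow_left _).symm.dvd_of_dvd_mul_left h

section Kernel

variable [Finite Γ] [hr : Fact r.Prime] (hs : Function.Surjective σ) (hc : σ.ker ≤ center Γ)
  (hcard : Nat.card σ.ker = r)
include hcard

omit [Finite Γ] in
theorem ker_pow {z : Γ} (hz : z ∈ σ.ker) : z ^ r = 1 :=
  congrArg Subtype.val (show (⟨z, hz⟩ : σ.ker) ^ r = 1 from hcard ▸ pow_card_eq_one')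

omit [Finite Γ] in
theorem ker_eq_one {z : Γ} (hz : z ∈ σ.ker) {m : ℕ} (hm : Nat.Coprime r m) (h : z ^ m = 1) : z = 1 := by
  have := pow_gcd_eq_one.2 ⟨ker_pow hcard hz, h⟩
  rwa [hm.gcd_eq_one, pow_one] at this

include hs hc

/-- An element of the kernel in the derived preimage of a subgroup of coprime index. -/
theorem not_le_of_meet (H : Subgroup G) (hidx : ¬ r ∣ H.index)
    (hmeet : ⁅H.comap σ, H.comap σ⁆ ⊓ σ.ker = ⊥) : ¬ σ.ker ≤ commutator Γ := by
  intro hle
  have hone : ∀ z ∈ σ.ker, z = 1 := by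
    intro z hz
    have hzE : z ∈ H.comap σ := by rw [mem_comap, MonoidHom.mem_ker.1 hz]; exact one_mem _
    let φ : ↥(H.comap σ) →* Abelianization ↥(H.comap σ) := Abelianization.of
    have h1 : φ.transfer z = 1 := Abelianization.commutator_subset_ker φ.transfer (hle hz)
    rw [MonoidHom.transfer_eq_pow φ z (fun k g₀ _ => by
      rw [mul_assoc, ← mem_center_iff.1 (pow_mem (hc hz) k) g₀, inv_mul_cancel_left])] at h1
    have h3 := (QuotientGroup.eq_one_iff _).1 h1
    have h4 : (commutator ↥(H.comap σ)).map (H.comap σ).subtype = ⁅H.comap σ, H.comap σ⁆ := by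
      rw [_root_.commutator_def, Subgroup.map_commutator, ← MonoidHom.range_eq_map, range_subtype]
    have h2 : z ^ (H.comap σ).index ∈ ⁅H.comap σ, H.comap σ⁆ ⊓ σ.ker :=
      ⟨h4 ▸ mem_map_of_mem (H.comap σ).subtype h3, pow_mem hz _⟩
    rw [hmeet, Subgroup.mem_bot, index_comap_of_surjective _ hs] at h2
    exact ker_eq_one hcard hz (hr.out.coprime_iff_not_dvd.2 hidx) h2
  rw [(eq_bot_iff_forall _).2 hone, card_bot] at hcard
  exact hr.out.ne_one hcard.symm

/-- Without stem extensions the derived preimage avoids the kernel. -/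
theorem meet_of_noStem (H : Subgroup G) (hN : NoStemPrime r ↥H) :
    ⁅H.comap σ, H.comap σ⁆ ⊓ σ.ker = ⊥ := by
  have hEk : σ.ker ≤ H.comap σ := fun x hx => by
    show σ x ∈ H; rw [MonoidHom.mem_ker.1 hx]; exact one_mem _
  let τ : ↥(H.comap σ) →* ↥H := (σ.comp (H.comap σ).subtype).codRestrict H fun y => y.2
  have hτs : Function.Surjective τ := fun g => by
    obtain ⟨y, hy⟩ := hs g
    exact ⟨⟨y, show σ y ∈ H by rw [hy]; exact g.2⟩, Subtype.ext hy⟩
  have hτk : τ.ker = σ.ker.subgroupOf (H.comap σ) := by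
    ext y; exact Subtype.ext_iff
  have hτc : τ.ker ≤ center ↥(H.comap σ) := fun y hy => mem_center_iff.2 fun g => Subtype.ext
    (mem_center_iff.1 (hc (by rw [hτk] at hy; exact hy)) g)
  have hno := hN ↥(H.comap σ) τ hτs hτc (by
    rw [hτk, Nat.card_congr (subgroupOfEquivOfLe hEk).toEquiv, hcard])
  have h4 : (commutator ↥(H.comap σ)).map (H.comap σ).subtype = ⁅H.comap σ, H.comap σ⁆ := by
    rw [_root_.commutator_def, Subgroup.map_commutator, ← MonoidHom.range_eq_map, range_subtype]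
  by_contra hne
  apply hno
  intro y hy
  rw [hτk, mem_subgroupOf] at hy
  have hdvd : Nat.card ↥(⁅H.comap σ, H.comap σ⁆ ⊓ σ.ker) ∣ r := hcard ▸ card_dvd_of_le inf_le_right
  rcases (Nat.dvd_prime hr.out).1 hdvd with e | e
  · exact absurd (eq_bot_of_card_eq _ e) hne
  have heq := eq_of_le_of_card_ge (inf_le_right : ⁅H.comap σ, H.comap σ⁆ ⊓ σ.ker ≤ σ.ker) (by rw [e, hcard])
  have hy' : (y : Γ) ∈ (commutator ↥(H.comap σ)).map (H.comap σ).subtype := h4 ▸ (heq ▸ hy : _).1
  obtain ⟨z, hz, ez⟩ := hy'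
  exact (Subtype.ext ez : z = y) ▸ hz

/-- The canonical lift of a subgroup without stem extensions. -/
theorem isLift_liftSub [Finite G] {H : Subgroup G} (hN : NoStemPrime r ↥H) (hA : AbCop r ↥H) :
    IsLift σ (liftSub σ (coExp r G) H) H := by
  have hmeet := meet_of_noStem hs hc hcard H hN
  have hadvd : Nat.card (Abelianization ↥H) ∣ coExp r G :=
    dvd_coExp ((card_quotient_dvd_card _).trans (card_subgroup_dvd_card H)) hA
  refine ⟨le_antisymm (by rintro _ ⟨x, hx, rfl⟩; exact ((mem_liftSub σ).1 hx).1) fun g hg => ?_,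
    eq_bot_iff.2 fun z ⟨hz, hzk⟩ => ?_⟩
  · obtain ⟨x, rfl⟩ := hs g
    let τ : ↥(H.comap σ) →* ↥H := (σ.comp (H.comap σ).subtype).codRestrict H fun y => y.2
    have hτs : Function.Surjective τ := fun g => by
      obtain ⟨y, hy⟩ := hs g
      exact ⟨⟨y, show σ y ∈ H by rw [hy]; exact g.2⟩, Subtype.ext hy⟩
    have hcomm : (σ x) ^ coExp r G ∈ (⁅H.comap σ, H.comap σ⁆).map σ := by
      rw [Subgroup.map_commutator, map_comap_eq_self_of_surjective hs]
      have h1 : (⟨σ x, hg⟩ : ↥H) ^ coExp r G ∈ commutator ↥H := by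
        refine (QuotientGroup.eq_one_iff _).1 ?_
        obtain ⟨c, hc'⟩ := hadvd
        show Abelianization.of (_ ^ _) = 1
        rw [map_pow, hc', pow_mul, pow_card_eq_one', one_pow]
      have h4 : (commutator ↥H).map H.subtype = ⁅H, H⁆ := by
        rw [_root_.commutator_def, Subgroup.map_commutator, ← MonoidHom.range_eq_map, range_subtype]
      exact h4 ▸ mem_map_of_mem H.subtype h1
    obtain ⟨c, hcE, hcσ⟩ := hcomm
    have hz : (x ^ coExp r G)⁻¹ * c ∈ σ.ker := by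
      rw [MonoidHom.mem_ker, map_mul, map_inv, map_pow, hcσ, inv_mul_cancel]
    have hcop : Nat.Coprime (Nat.card σ.ker) (coExp r G) := by rw [hcard]; exact coExp_coprime
    obtain ⟨w, hw⟩ := (powCoprime hcop).surjective ⟨_, hz⟩
    have hw' : (w : Γ) ^ coExp r G = (x ^ coExp r G)⁻¹ * c := congrArg Subtype.val hw
    refine ⟨x * w, (mem_liftSub σ).2 ⟨by rw [map_mul, MonoidHom.mem_ker.1 w.2, mul_one]; exact hg, ?_⟩,
      by rw [map_mul, MonoidHom.mem_ker.1 w.2, mul_one]⟩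
    rw [Commute.mul_pow (show Commute x w from mem_center_iff.1 (hc w.2) x), hw', mul_inv_cancel_left]
    exact hcE
  · have h := ((mem_liftSub σ).1 hz).2
    have h2 : z ^ coExp r G ∈ ⁅H.comap σ, H.comap σ⁆ ⊓ σ.ker := ⟨h, pow_mem hzk _⟩
    rw [hmeet, Subgroup.mem_bot] at h2
    exact Subgroup.mem_bot.2 (ker_eq_one hcard hzk coExp_coprime h2)

end Kernel

/-- A subgroup of coprime index without stem extensions. -/
theorem noStem_of_sub [Fact r.Prime] (H : Subgroup G) (hidx : ¬ r ∣ H.index) (hN : NoStemPrime r ↥H) :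
    NoStemPrime r G := fun _ _ _ _σ hs hc hcard =>
  not_le_of_meet hs hc hcard H hidx (meet_of_noStem hs hc hcard H hN)

theorem noStem_of_cyclic_sub [Fact r.Prime] (H : Subgroup G) [IsCyclic ↥H] (hidx : ¬ r ∣ H.index) :
    NoStemPrime r G := by
  intro Γ _ _ σ hs hc hcard
  refine not_le_of_meet hs hc hcard H hidx ?_
  let τ : ↥(H.comap σ) →* ↥H := (σ.comp (H.comap σ).subtype).codRestrict H fun y => y.2
  have hk : τ.ker ≤ center ↥(H.comap σ) := fun y hy => mem_center_iff.2 fun g =>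
    Subtype.ext (mem_center_iff.1 (hc (congrArg Subtype.val hy)) g)
  have hcomm := MonoidHom.isMulCommutative_of_isCyclic_of_ker_le_center τ hk
  rw [(commutator_eq_bot_iff_le_centralizer (H₁ := H.comap σ) (H₂ := H.comap σ)).2 fun a ha =>
    mem_centralizer_iff.2 fun b hb =>
      congrArg Subtype.val (hcomm.is_comm.comm ⟨b, hb⟩ ⟨a, ha⟩), bot_inf_eq]

/-- A cyclic extension of a subgroup without stem extensions, of coprime index. -/
theorem noStem_of_cyclicQuot [Fact r.Prime] [Finite G] (H : Subgroup G) (t : G)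
    (hN : NoStemPrime r ↥H) (hA : AbCop r ↥H) (ht : ∀ h ∈ H, t * h * t⁻¹ ∈ H)
    (hidx : ¬ r ∣ (H ⊔ zpowers t).index) : NoStemPrime r G := by
  intro Γ _ _ σ hs hc hcard
  refine not_le_of_meet hs hc hcard _ hidx ?_
  have L := isLift_liftSub hs hc hcard hN hA
  set D := liftSub σ (coExp r G) H with hD
  obtain ⟨x, hx⟩ := hs t
  have hxD : ∀ d ∈ D, x * d * x⁻¹ ∈ D := fun d hd => conj_mem_liftSub σ (by rw [hx]; exact ht) hd
  have hE : (H ⊔ zpowers t).comap σ = closure (((D : Set Γ) ∪ {x}) ∪ σ.ker) := by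
    rw [← comap_closure_eq, ← MonoidHom.map_closure, Subgroup.closure_union, closure_eq, ← zpowers_eq_closure,
      Subgroup.map_sup, MonoidHom.map_zpowers, hx, L.map_eq]
  rw [hE]
  refine le_bot_iff.1 ((inf_le_inf_right _ (commutator_closure_le (N := D) ?_ ?_)).trans (le_of_eq L.meet))
  · rintro s ((hsD | rfl) | hsk) d hd
    · exact mul_mem (mul_mem hsD hd) (inv_mem hsD)
    · exact hxD d hd
    · rw [conj_central hc hsk]; exact hd
  · rintro s ((hsD | hsx) | hsk) u ((huD | hux) | huk)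
    all_goals try (rw [(commutatorElement_central hc hsk u).1]; exact one_mem _)
    all_goals try (rw [(commutatorElement_central hc huk s).2]; exact one_mem _)
    · exact mul_mem (mul_mem (mul_mem hsD huD) (inv_mem hsD)) (inv_mem huD)
    · rw [Set.mem_singleton_iff.1 hux, commutatorElement_def,
        show s * x * s⁻¹ * x⁻¹ = s * (x * s⁻¹ * x⁻¹) by group]
      exact mul_mem hsD (hxD _ (inv_mem hsD))
    · rw [Set.mem_singleton_iff.1 hsx, commutatorElement_def]
      exact mul_mem (hxD _ huD) (inv_mem huD)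
    · rw [Set.mem_singleton_iff.1 hsx, Set.mem_singleton_iff.1 hux, commutatorElement_self]; exact one_mem _

/-- Elementwise commuting subgroups with trivial intersection have commuting lifts. -/
theorem isLift_sup {D₁ D₂ : Subgroup Γ} {H₁ H₂ : Subgroup G} (L₁ : IsLift σ D₁ H₁) (L₂ : IsLift σ D₂ H₂)
    (hdisj : H₁ ⊓ H₂ = ⊥) (hcomm : ∀ a ∈ D₁, ∀ b ∈ D₂, Commute a b) :
    IsLift σ (D₁ ⊔ D₂) (H₁ ⊔ H₂) := by
  refine ⟨by rw [Subgroup.map_sup, L₁.map_eq, L₂.map_eq], eq_bot_iff.2 fun z ⟨hz, hzk⟩ => ?_⟩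
  let f := MonoidHom.noncommCoprod D₁.subtype D₂.subtype fun a b => hcomm a.1 a.2 b.1 b.2
  obtain ⟨⟨a, b⟩, e⟩ : z ∈ f.range := by
    rw [show f.range = D₁.subtype.range ⊔ D₂.subtype.range from MonoidHom.noncommCoprod_range _ _ _,
      range_subtype, range_subtype]
    exact hz
  have e' : (a : Γ) * b = z := e
  have hσ : σ a * σ b = 1 := by rw [← map_mul, e', MonoidHom.mem_ker.1 hzk]
  have ha2 : σ a ∈ H₂ := eq_inv_of_mul_eq_one_left hσ ▸ H₂.inv_mem (L₂.σ_mem b.2)
  have ha : σ a = 1 :=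
    Subgroup.mem_bot.1 (hdisj ▸ (⟨L₁.σ_mem a.2, ha2⟩ : σ a ∈ H₁ ⊓ H₂))
  rw [ha, one_mul] at hσ
  rw [Subgroup.mem_bot, ← e', L₁.eq_one a.2 ha, L₂.eq_one b.2 hσ, mul_one]

section Two

variable [Finite Γ] [Finite G] [hr : Fact r.Prime] (hs : Function.Surjective σ) (hc : σ.ker ≤ center Γ)
  (hcard : Nat.card σ.ker = r) {H₁ H₂ : Subgroup G}
include hs hc hcard

theorem isLift_pair (hN₁ : NoStemPrime r ↥H₁) (hA₁ : AbCop r ↥H₁) (hN₂ : NoStemPrime r ↥H₂)
    (hA₂ : AbCop r ↥H₂) (hdisj : H₁ ⊓ H₂ = ⊥) (hcomm : ∀ a ∈ H₁, ∀ b ∈ H₂, a * b = b * a) :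
    IsLift σ (liftSub σ (coExp r G) H₁ ⊔ liftSub σ (coExp r G) H₂) (H₁ ⊔ H₂) := by
  have L₁ := isLift_liftSub hs hc hcard hN₁ hA₁
  have L₂ := isLift_liftSub hs hc hcard hN₂ hA₂
  refine isLift_sup L₁ L₂ hdisj fun a ha b hb => mul_comm_of_lift L₂ hb ?_ (hcomm _ (L₁.σ_mem ha) _ (L₂.σ_mem hb))
  refine conj_mem_liftSub σ (fun h hh => ?_) hb
  rw [hcomm _ (L₁.σ_mem ha) h hh, mul_inv_cancel_right]
  exact hh

end Two

/-- Two commuting subgroups without stem extensions, together of coprime index. -/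
theorem noStem_of_pair [Fact r.Prime] [Finite G] (H₁ H₂ : Subgroup G)
    (hN₁ : NoStemPrime r ↥H₁) (hA₁ : AbCop r ↥H₁) (hN₂ : NoStemPrime r ↥H₂) (hA₂ : AbCop r ↥H₂)
    (hdisj : H₁ ⊓ H₂ = ⊥) (hcomm : ∀ a ∈ H₁, ∀ b ∈ H₂, a * b = b * a)
    (hidx : ¬ r ∣ (H₁ ⊔ H₂).index) : NoStemPrime r G := by
  intro Γ _ _ σ hs hc hcard
  refine not_le_of_meet hs hc hcard _ hidx ?_
  have L := isLift_pair hs hc hcard hN₁ hA₁ hN₂ hA₂ hdisj hcomm
  rw [L.comap_eq]
  refine le_bot_iff.1 ((inf_le_inf_right _ (commutator_closure_le ?_ ?_)).trans (le_of_eq L.meet))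
  · rintro s (hsD | hsk) d hd
    · exact mul_mem (mul_mem hsD hd) (inv_mem hsD)
    · rw [conj_central hc hsk]; exact hd
  · rintro s (hsD | hsk) u (huD | huk)
    all_goals try (rw [(commutatorElement_central hc hsk u).1]; exact one_mem _)
    all_goals try (rw [(commutatorElement_central hc huk s).2]; exact one_mem _)
    exact mul_mem (mul_mem (mul_mem hsD huD) (inv_mem hsD)) (inv_mem huD)

/-- Two commuting subgroups extended by a dihedral group whose rotations lie in a third. -/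
theorem noStem_of_dihedral [Fact r.Prime] [Finite G] (H₁ H₂ H₃ : Subgroup G) (t w : G)
    (hN₁ : NoStemPrime r ↥H₁) (hA₁ : AbCop r ↥H₁) (hN₂ : NoStemPrime r ↥H₂) (hA₂ : AbCop r ↥H₂)
    (hN₃ : NoStemPrime r ↥H₃) (hA₃ : AbCop r ↥H₃)
    (hdisj : H₁ ⊓ H₂ = ⊥) (hcomm : ∀ a ∈ H₁, ∀ b ∈ H₂, a * b = b * a)
    (ht₁ : ∀ h ∈ H₁, t * h * t⁻¹ ∈ H₁) (ht₂ : ∀ h ∈ H₂, t * h * t⁻¹ ∈ H₂) (ht₃ : t ∈ H₃)
    (htz : ∀ j : ℤ, t ^ j ∈ H₁ ⊔ H₂ → t ^ j = 1)
    (hw₁ : ∀ h ∈ H₁, w * h * w⁻¹ ∈ H₂) (hw₂ : ∀ h ∈ H₂, w * h * w⁻¹ ∈ H₁)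
    (hw₃ : ∀ h ∈ H₃, w * h * w⁻¹ ∈ H₃) (hwt : w * t * w⁻¹ = t⁻¹)
    (hidx : ¬ r ∣ ((H₁ ⊔ H₂) ⊔ (zpowers t ⊔ zpowers w)).index) : NoStemPrime r G := by
  intro Γ _ _ σ hs hc hcard
  refine not_le_of_meet hs hc hcard _ hidx ?_
  set m := coExp r G
  have L := isLift_pair hs hc hcard hN₁ hA₁ hN₂ hA₂ hdisj hcomm
  have L₃ := isLift_liftSub hs hc hcard hN₃ hA₃
  set D := liftSub σ m H₁ ⊔ liftSub σ m H₂ with hD
  obtain ⟨x, hx₃, hx⟩ := L₃.exists_mem ht₃
  obtain ⟨y, hy⟩ := hs w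
  have hconjD : ∀ g : Γ, (∀ d ∈ liftSub σ m H₁, g * d * g⁻¹ ∈ D) →
      (∀ d ∈ liftSub σ m H₂, g * d * g⁻¹ ∈ D) → ∀ d ∈ D, g * d * g⁻¹ ∈ D := fun g h1 h2 => by
    have hle : D ≤ D.comap (MulAut.conj g).toMonoidHom := sup_le h1 h2
    exact fun d hd => hle hd
  have hxD := hconjD x (fun d hd => mem_sup_left (conj_mem_liftSub σ (by rw [hx]; exact ht₁) hd))
    (fun d hd => mem_sup_right (conj_mem_liftSub σ (by rw [hx]; exact ht₂) hd))
  have hyD := hconjD y (fun d hd => mem_sup_right (conj_mem_liftSub σ (by rw [hy]; exact hw₁) hd))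
    (fun d hd => mem_sup_left (conj_mem_liftSub σ (by rw [hy]; exact hw₂) hd))
  have hyx : y * x * y⁻¹ = x⁻¹ := L₃.inj (conj_mem_liftSub σ (by rw [hy]; exact hw₃) hx₃) (inv_mem hx₃)
    (by rw [map_mul, map_mul, map_inv, map_inv, hy, hx, hwt])
  have hE : ((H₁ ⊔ H₂) ⊔ (zpowers t ⊔ zpowers w)).comap σ =
      closure (((D : Set Γ) ∪ ({x} ∪ {y})) ∪ σ.ker) := by
    rw [← comap_closure_eq, ← MonoidHom.map_closure, Subgroup.closure_union, Subgroup.closure_union, closure_eq,
      ← zpowers_eq_closure, ← zpowers_eq_closure, Subgroup.map_sup, L.map_eq, Subgroup.map_sup,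
      MonoidHom.map_zpowers, MonoidHom.map_zpowers, hx, hy]
  rw [hE]
  set N := D ⊔ zpowers (x * x) with hN
  have hxxD : zpowers (x * x) ≤ normalizer (D : Set Γ) := by
    rw [zpowers_le, ← sq]
    refine pow_mem (mem_normalizer_iff.2 fun d => ⟨hxD d, fun h => ?_⟩) _
    have h1 : D.map (MulAut.conj x).toMonoidHom ≤ D := by rintro _ ⟨d, hd, rfl⟩; exact hxD d hd
    rw [← eq_of_le_of_card_ge h1 (ge_of_eq
      (Nat.card_congr (D.equivMapOfInjective _ (MulAut.conj x).injective).toEquiv).symm)] at h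
    obtain ⟨d', hd', e⟩ := h
    rwa [← (MulAut.conj x).injective e]
  have hmeet : N ⊓ σ.ker = ⊥ := eq_bot_iff.2 fun z ⟨hz, hzk⟩ => by
    have hz' : z ∈ ((D : Set Γ) * (zpowers (x * x) : Set Γ)) := by
      rw [← coe_mul_of_right_le_normalizer_left D _ hxxD]; exact hz
    obtain ⟨d, hd, v, hv, rfl⟩ := Set.mem_mul.1 hz' 
    obtain ⟨j, rfl⟩ := mem_zpowers_iff.1 hv
    have hσ : σ d * (t * t) ^ j = 1 := by
      rw [← hx, ← map_mul, ← map_zpow, ← map_mul]; exact hzk
    have ht : t ^ (2 * j) = 1 := htz _ (by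
      rw [zpow_mul, zpow_two, eq_inv_of_mul_eq_one_right hσ]; exact inv_mem (L.σ_mem hd))
    have hx1 : (x * x) ^ j = 1 := L₃.eq_one (zpow_mem (mul_mem hx₃ hx₃) _) (by
      rw [map_zpow, map_mul, hx, ← zpow_two, ← zpow_mul, ht])
    rw [hx1, mul_one] at hzk ⊢
    exact Subgroup.mem_bot.2 (L.eq_one hd hzk)
  have hN1 : ∀ d ∈ D, d ∈ N := fun d hd => mem_sup_left hd
  have hN2 : x * x ∈ N := mem_sup_right (mem_zpowers _)
  refine le_bot_iff.1 ((inf_le_inf_right _ (commutator_closure_le (N := N) ?_ ?_)).trans (le_of_eq hmeet))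
  · intro s hs' z hz
    have hle : N ≤ N.comap (MulAut.conj s).toMonoidHom := by
      refine sup_le (fun d hd => ?_) (zpowers_le.2 ?_)
      · show s * d * s⁻¹ ∈ N
        rcases hs' with (hsD | hsx | hsy) | hsk
        · exact hN1 _ (mul_mem (mul_mem hsD hd) (inv_mem hsD))
        · rw [Set.mem_singleton_iff.1 hsx]; exact hN1 _ (hxD d hd)
        · rw [Set.mem_singleton_iff.1 hsy]; exact hN1 _ (hyD d hd)
        · rw [conj_central hc hsk]; exact hN1 _ hd
      · show s * (x * x) * s⁻¹ ∈ N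
        rcases hs' with (hsD | hsx | hsy) | hsk
        · exact mul_mem (mul_mem (hN1 _ hsD) hN2) (inv_mem (hN1 _ hsD))
        · rw [Set.mem_singleton_iff.1 hsx, show x * (x * x) * x⁻¹ = x * x by group]; exact hN2
        · rw [Set.mem_singleton_iff.1 hsy, show y * (x * x) * y⁻¹ = (y * x * y⁻¹) * (y * x * y⁻¹) by group,
            hyx, ← mul_inv_rev]
          exact inv_mem hN2
        · rw [conj_central hc hsk]; exact hN2
    exact hle hz
  · have key : ∀ d ∈ D, ⁅x, d⁆ ∈ N ∧ ⁅y, d⁆ ∈ N := fun d hd =>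
      ⟨hN1 _ (mul_mem (hxD d hd) (inv_mem hd)), hN1 _ (mul_mem (hyD d hd) (inv_mem hd))⟩
    have hyx' : ⁅y, x⁆ ∈ N := by
      rw [commutatorElement_def, hyx, ← mul_inv_rev]; exact inv_mem hN2
    rintro s ((hsD | hsx | hsy) | hsk) u ((huD | hux | huy) | huk)
    all_goals try (rw [(commutatorElement_central hc hsk u).1]; exact one_mem _)
    all_goals try (rw [(commutatorElement_central hc huk s).2]; exact one_mem _)
    all_goals try rw [Set.mem_singleton_iff.1 (by assumption : s ∈ ({_} : Set Γ))]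
    all_goals try rw [Set.mem_singleton_iff.1 (by assumption : u ∈ ({_} : Set Γ))]
    any_goals (rw [commutatorElement_self]; exact one_mem _)
    · exact hN1 _ (mul_mem (mul_mem (mul_mem hsD huD) (inv_mem hsD)) (inv_mem huD))
    · rw [← commutatorElement_inv]; exact inv_mem (key _ hsD).1
    · rw [← commutatorElement_inv]; exact inv_mem (key _ hsD).2
    · exact (key _ huD).1
    · rw [← commutatorElement_inv]; exact inv_mem hyx'
    · exact (key _ huD).2
    · exact hyx'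

/-- No stem extension with kernel of order `r`: the kernel of every stem extension has order prime to `r`. -/
theorem not_dvd_card_ker [hr : Fact r.Prime] (hN : NoStemPrime r G) [Finite Γ]
    (hσ : Cfsg.IsStemExtension σ) : ¬ r ∣ Nat.card σ.ker := by
  obtain ⟨hs, hc, hd⟩ := hσ
  intro hdvd
  have hcK : IsMulCommutative σ.ker :=
    ⟨⟨fun a b => Subtype.ext (mem_center_iff.1 (hc b.2) a.1)⟩⟩
  letI : CommGroup σ.ker := { (inferInstance : Group σ.ker) with mul_comm := hcK.is_comm.comm }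
  let P : σ.ker →* σ.ker := powMonoidHom r
  have hne : P.range ≠ ⊤ := by
    intro htop
    obtain ⟨z, hz⟩ := exists_prime_orderOf_dvd_card' r hdvd
    have hinj : Function.Injective P :=
      Finite.injective_iff_surjective.2 (MonoidHom.range_eq_top.1 htop)
    have h1 : z = 1 := hinj (by show z ^ r = 1 ^ r; rw [one_pow, ← hz, pow_orderOf_eq_one])
    rw [h1, orderOf_one] at hz
    exact hr.out.ne_one hz.symm
  obtain ⟨M, hM, hMle⟩ := (eq_top_or_exists_le_coatom P.range).resolve_left hne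
  let M' : Subgroup Γ := M.map σ.ker.subtype
  have hM' : M' ≤ center Γ := (map_subtype_le M).trans hc
  haveI : M'.Normal := ⟨fun a ha g => by
    rw [mem_center_iff.1 (hM' ha) g, mul_inv_cancel_right]; exact ha⟩
  let σ' : Γ ⧸ M' →* G := QuotientGroup.lift M' σ (fun a ha => map_subtype_le M ha)
  have hs' : Function.Surjective σ' := fun g => by
    obtain ⟨x, rfl⟩ := hs g; exact ⟨x, rfl⟩
  have hk : σ'.ker = σ.ker.map (QuotientGroup.mk' M') := by
    ext a
    obtain ⟨x, rfl⟩ := QuotientGroup.mk_surjective a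
    refine ⟨fun h => ⟨x, h, rfl⟩, ?_⟩
    rintro ⟨y, hy, e⟩
    rw [← e]
    exact hy
  have hc' : σ'.ker ≤ center (Γ ⧸ M') := by
    rw [hk]
    rintro _ ⟨y, hy, rfl⟩
    refine mem_center_iff.2 fun a => ?_
    obtain ⟨x, rfl⟩ := QuotientGroup.mk_surjective a
    show QuotientGroup.mk' M' x * QuotientGroup.mk' M' y = QuotientGroup.mk' M' y * QuotientGroup.mk' M' x
    rw [← map_mul, ← map_mul, mem_center_iff.1 (hc hy) x]
  have hd' : σ'.ker ≤ commutator (Γ ⧸ M') := by
    rw [hk]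
    refine (map_mono hd).trans ?_
    rw [_root_.commutator_def, Subgroup.map_commutator, _root_.commutator_def]
    exact commutator_mono le_top le_top
  have hcard : Nat.card σ'.ker = r := by
    have e : Nat.card σ'.ker = M.index := by
      have h := Nat.card_congr (QuotientGroup.quotientKerEquivRange
        ((QuotientGroup.mk' M').comp σ.ker.subtype)).toEquiv
      rw [MonoidHom.range_comp, range_subtype] at h
      rw [hk, ← h, index_eq_card]
      refine Nat.card_congr (QuotientGroup.quotientMulEquivOfEq ?_).toEquiv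
      ext z
      rw [MonoidHom.mem_ker, MonoidHom.comp_apply, QuotientGroup.mk'_apply, QuotientGroup.eq_one_iff]
      refine ⟨?_, fun h => ⟨z, h, rfl⟩⟩
      rintro ⟨w, hw, e⟩
      exact (Subtype.ext e : w = z) ▸ hw
    rw [e, index_eq_card]
    haveI : Nontrivial (σ.ker ⧸ M) := QuotientGroup.nontrivial_iff.2 hM.1
    haveI : IsSimpleGroup (σ.ker ⧸ M) := ⟨fun N _ => by
      have h1 : M ≤ N.comap (QuotientGroup.mk' M) := fun a ha => by
        show QuotientGroup.mk' M a ∈ N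
        rw [QuotientGroup.mk'_apply, (QuotientGroup.eq_one_iff a).2 ha]; exact one_mem _
      rcases hM.le_iff.1 h1 with h2 | h2
      · exact Or.inr (eq_top_iff.2 fun a _ => by
          obtain ⟨b, rfl⟩ := QuotientGroup.mk_surjective a
          exact (show b ∈ N.comap (QuotientGroup.mk' M) by rw [h2]; trivial))
      · exact Or.inl (eq_bot_iff.2 fun a ha => by
          obtain ⟨b, rfl⟩ := QuotientGroup.mk_surjective a
          exact Subgroup.mem_bot.2 ((QuotientGroup.eq_one_iff b).2 (h2 ▸ ha)))⟩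
    have hp := IsSimpleGroup.prime_card (α := σ.ker ⧸ M)
    obtain ⟨g, hg⟩ := exists_prime_orderOf_dvd_card' (hp := ⟨hp⟩) _ dvd_rfl
    refine (Nat.prime_dvd_prime_iff_eq hp hr.out).1 (hg ▸ orderOf_dvd_of_pow_eq_one ?_)
    obtain ⟨b, rfl⟩ := QuotientGroup.mk_surjective g
    rw [← QuotientGroup.mk_pow, QuotientGroup.eq_one_iff]
    exact hMle ⟨b, rfl⟩
  exact hN (Γ ⧸ M') σ' hs' hc' hcard hd'

end Cfsg.Lib.UnitMult.Cross
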