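import Cfsg.Agent.Lib.UnitMult.StepStab
import Cfsg.Agent.Lib.UnitMult.CrossTools
import Mathlib.RingTheory.LittleWedderburn

/-!
# Cyclic Sylow subgroups of `SU` acting irreducibly
-/

set_option autoImplicit false

namespace Cfsg.Lib.UnitMult.Cross

open Subgroup Module Cfsg.Lib.Linear Cfsg.Lib.Linear.Herm
open Cfsg.Lib.Chev.TwMult (NoStemPrime)

universe u

variable {F : Type u} [Field F] [Fintype F] {n r : ℕ} [hr : Fact r.Prime]

omit hr in
theorem card_sub {W : Submodule F (Fin n → F)} : Nat.card W = Fintype.card F ^ finrank F W := by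
  rw [Module.natCard_eq_pow_finrank (K := F), Nat.card_eq_fintype_card]

/-- An element of order `r` fixes a proper invariant subspace pointwise. -/
theorem fix_of_invariant (hrF : ¬ r ∣ Fintype.card F) {z : (Fin n → F) ≃ₗ[F] (Fin n → F)} (hz : z ^ r = 1) {W : Submodule F (Fin n → F)}
    (hW : ∀ w ∈ W, z w ∈ W) (hd : ∀ i, 1 ≤ i → i ≤ finrank F W → ¬ Fintype.card F ^ i ≡ 1 [MOD r]) :
    ∀ w ∈ W, z w = w := by
  let Z := zpowers z
  have hWk : ∀ k : ℕ, ∀ w ∈ W, (z ^ k) w ∈ W := fun k => by
    induction k with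
    | zero => intro w hw; simpa using hw
    | succ k ih => intro w hw; rw [pow_succ, LinearEquiv.mul_apply]; exact ih _ (hW w hw)
  have hWz : ∀ g ∈ Z, ∀ w ∈ W, g w ∈ W := fun g hg w hw => by
    obtain ⟨k, rfl⟩ := (IsOfFinOrder.mem_powers_iff_mem_zpowers (isOfFinOrder_iff_pow_eq_one.2
      ⟨r, hr.out.pos, hz⟩)).2 hg
    exact hWk k w hw
  letI : MulAction Z W :=
    { smul := fun g w => ⟨g.1 w.1, hWz g.1 g.2 w.1 w.2⟩
      one_smul := fun w => Subtype.ext rfl
      mul_smul := fun g h w => Subtype.ext rfl }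
  have hp : IsPGroup r Z := fun g => ⟨1, by
    obtain ⟨k, hk⟩ := mem_zpowers_iff.1 g.2
    refine Subtype.ext ?_
    show (g.1 : (Fin n → F) ≃ₗ[F] (Fin n → F)) ^ (r ^ 1) = 1
    rw [pow_one, ← hk, ← zpow_natCast, ← zpow_mul, mul_comm, zpow_mul, zpow_natCast, hz, one_zpow]⟩
  let W0 : Submodule F (Fin n → F) := W ⊓ LinearMap.ker (z.toLinearMap - LinearMap.id)
  have hfix : Nat.card (MulAction.fixedPoints Z W) = Nat.card W0 := by
    refine Nat.card_congr
      { toFun := fun w => ⟨w.1.1, w.1.2, by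
          have h := congrArg Subtype.val (w.2 ⟨z, mem_zpowers z⟩)
          show z w.1.1 - w.1.1 = 0
          rw [sub_eq_zero]; exact h⟩
        invFun := fun w => ⟨⟨w.1, w.2.1⟩, fun g => by
          obtain ⟨k, hk⟩ := mem_zpowers_iff.1 g.2
          have h : z w.1 = w.1 := sub_eq_zero.1 w.2.2
          have hst : z ∈ MulAction.stabilizer ((Fin n → F) ≃ₗ[F] (Fin n → F)) w.1 := h
          exact Subtype.ext (hk ▸ zpow_mem hst k : g.1 ∈ MulAction.stabilizer _ w.1)⟩
        left_inv := fun w => rfl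
        right_inv := fun w => rfl }
  have hmod := hp.card_modEq_card_fixedPoints (α := W)
  rw [hfix, card_sub, card_sub] at hmod
  have hle : finrank F W0 ≤ finrank F W := Submodule.finrank_mono inf_le_left
  intro w hw
  by_contra hne
  have hlt : finrank F W0 < finrank F W := by
    refine lt_of_le_of_ne hle fun e => hne ?_
    have := Submodule.eq_of_le_of_finrank_eq (inf_le_left : W0 ≤ W) e
    exact sub_eq_zero.1 (this.ge hw).2
  refine hd (finrank F W - finrank F W0) (by omega) (Nat.sub_le _ _) ?_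
  have hcop : Nat.gcd r (Fintype.card F ^ finrank F W0) = 1 := by
    exact hr.out.coprime_iff_not_dvd.2 fun h => hrF (hr.out.dvd_of_dvd_pow h)
  have hsplit : finrank F W = finrank F W0 + (finrank F W - finrank F W0) := by omega
  rw [hsplit, pow_add] at hmod
  exact Nat.ModEq.cancel_left_of_coprime hcop (by rw [mul_one]; exact hmod)

/-- An irreducible element of prime order forces a cyclic Sylow subgroup. -/
theorem isCyclic_of_irreducible (hrF : ¬ r ∣ Fintype.card F)
    (hd : ∀ i, 1 ≤ i → i < n → ¬ Fintype.card F ^ i ≡ 1 [MOD r]) {P : Type u} [Group P] [Finite P]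
    (hP : IsPGroup r P) (ψ : P →* ((Fin n → F) ≃ₗ[F] (Fin n → F))) (hψ : Function.Injective ψ) : IsCyclic P := by
  rcases subsingleton_or_nontrivial P with h | h
  · exact isCyclic_of_subsingleton
  haveI := hP.center_nontrivial
  obtain ⟨k, hk⟩ := IsPGroup.iff_card.1 (hP.to_subgroup (center P))
  have hk0 : k ≠ 0 := fun e => by
    have h1 := Finite.one_lt_card (α := center P)
    rw [hk, e, pow_zero] at h1
    exact lt_irrefl 1 h1
  obtain ⟨z, hz⟩ := exists_prime_orderOf_dvd_card' (G := center P) r (hk ▸ dvd_pow_self r hk0)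
  have hz1 : z ^ r = 1 := hz ▸ pow_orderOf_eq_one z
  set L := ψ z.1 with hL
  have hLr : L ^ r = 1 := by rw [hL, ← map_pow, ← coe_pow, hz1, coe_one, map_one]
  have hLne : L ≠ 1 := fun e => by
    have h1 : z = 1 := Subtype.ext (hψ (e.trans (map_one ψ).symm))
    rw [h1, orderOf_one] at hz
    exact hr.out.ne_one hz.symm
  have hrne : (r : F) ≠ 0 := fun e => by
    obtain ⟨p, hp'⟩ := CharP.exists F
    haveI := hp'
    obtain ⟨f, hp, hf⟩ := FiniteField.card F p
    have hrp : p = r := (Nat.prime_dvd_prime_iff_eq hp hr.out).1 ((CharP.cast_eq_zero_iff F p r).1 e)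
    exact hrF (hrp ▸ hf ▸ dvd_pow_self p f.ne_zero)
  have hirr : ∀ W : Submodule F (Fin n → F), (∀ w ∈ W, L w ∈ W) → W = ⊥ ∨ W = ⊤ := by
    intro W hW
    by_contra hcon
    push Not at hcon
    obtain ⟨hW0, hWt⟩ := hcon
    have hsmall : ∀ U : Submodule F (Fin n → F), U ≠ ⊤ → (∀ w ∈ U, L w ∈ U) → ∀ w ∈ U, L w = w :=
      fun U hU hinv => fix_of_invariant hrF hLr hinv fun i h1 h2 => hd i h1 (lt_of_le_of_lt h2 (by
        have := Submodule.finrank_lt hU
        rwa [finrank_fin_fun] at this))
    let T : (Fin n → F) →ₗ[F] (Fin n → F) := L.toLinearMap - LinearMap.id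
    obtain ⟨w, hw, hw0⟩ := Submodule.exists_mem_ne_zero_of_ne_bot hW0
    have hTw : T w = 0 := sub_eq_zero.2 (hsmall W hWt hW w hw)
    have hR : LinearMap.range T ≠ ⊤ := fun e => hw0 (LinearMap.ker_eq_bot'.1
      (LinearMap.ker_eq_bot_iff_range_eq_top.2 e) w hTw)
    have hRfix := hsmall _ hR (by
      rintro _ ⟨v, rfl⟩
      exact ⟨L v, (map_sub L (L v) v).symm⟩)
    have key : ∀ v, L (T v) = T v := fun v => hRfix _ ⟨v, rfl⟩
    have hpow : ∀ (k : ℕ) v, (L ^ k) v = v + (k : F) • T v := fun k => by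
      induction k with
      | zero => intro v; simp
      | succ k ih =>
        intro v
        have e : L v = v + T v := by simp [T]
        rw [pow_succ', LinearEquiv.mul_apply, ih, map_add, map_smul, key, e]
        push_cast
        module
    exact hLne (LinearEquiv.ext fun v => by
      have h1 := hpow r v
      rw [hLr] at h1
      have h2 : (r : F) • T v = 0 := left_eq_add.1 h1
      exact sub_eq_zero.1 ((smul_eq_zero.1 h2).resolve_left hrne))
  let D := Subring.centralizer ({L.toLinearMap} : Set (Module.End F (Fin n → F)))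
  haveI : Finite (Module.End F (Fin n → F)) := Finite.of_injective _ DFunLike.coe_injective
  haveI : Finite D := inferInstance
  haveI : NoZeroDivisors D := ⟨fun {a b} hab => by
    by_contra hc
    push Not at hc
    obtain ⟨ha, hb⟩ := hc
    have hker : LinearMap.ker a.1 = ⊥ := by
      refine (hirr _ fun v hv => ?_).resolve_right fun e => ha (Subtype.ext (LinearMap.ker_eq_top.1 e))
      have hcomm := LinearMap.congr_fun (Subring.mem_centralizer_iff.1 a.2 _ rfl) v
      change L (a.1 v) = a.1 (L v) at hcomm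
      rw [LinearMap.mem_ker] at hv ⊢
      rw [← hcomm, hv, map_zero]
    refine hb (Subtype.ext (LinearMap.ext fun v => ?_))
    exact LinearMap.ker_eq_bot'.1 hker _ (congrArg (fun x : D => x.1 v) hab :)⟩
  have hn : 0 < n := by
    by_contra h0
    exact hLne (LinearEquiv.ext fun v => funext fun i => absurd i.2 (by omega))
  haveI : Nontrivial D := ⟨0, 1, fun e => by
    have := congrArg (fun x : D => x.1 (Pi.single ⟨0, hn⟩ 1) ⟨0, hn⟩) e
    simp at this⟩
  haveI : IsDomain D := NoZeroDivisors.to_isDomain D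
  letI := (Finite.isDomain_to_isField D).toField
  have hmem : ∀ x : P, (ψ x).toLinearMap ∈ D := fun x => Subring.mem_centralizer_iff.2 fun g hg => by
    rw [Set.mem_singleton_iff.1 hg]
    refine LinearMap.ext fun v => ?_
    show L (ψ x v) = ψ x (L v)
    rw [hL, ← LinearEquiv.mul_apply, ← map_mul, ← mem_center_iff.1 z.2 x, map_mul]
    rfl
  let f : P →* D :=
    { toFun := fun x => ⟨_, hmem x⟩
      map_one' := Subtype.ext (by simp; rfl)
      map_mul' := fun x y => Subtype.ext (by simp) }
  exact isCyclic_of_subgroup_isDomain f fun x y e =>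
    hψ (LinearEquiv.toLinearMap_injective (congrArg Subtype.val e))

/-- No stem extension of prime order when the Sylow subgroup acts irreducibly. -/
theorem noStem_of_irreducible {q : ℕ} (hrF : ¬ r ∣ Fintype.card F)
    (hd : ∀ i, 1 ≤ i → i < n → ¬ Fintype.card F ^ i ≡ 1 [MOD r]) : NoStemPrime r ↥(Cfsg.SU n F q) := by
  obtain ⟨P⟩ := (inferInstance : Nonempty (Sylow r (Cfsg.SU n F q)))
  haveI := isCyclic_of_irreducible hrF hd P.isPGroup'
    ((suToLin n F q).comp (P : Subgroup (Cfsg.SU n F q)).subtype)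
    ((suToLin_injective n).comp Subtype.val_injective)
  exact noStem_of_cyclic_sub _ P.not_dvd_index

end Cfsg.Lib.UnitMult.Cross
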