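import Cfsg.Agent.Lib.UnitMult.CrossBlocks
import Cfsg.Agent.Lib.UnitMult.CrossCyclic
import Cfsg.Agent.Lib.UnitMult.Assemble

/-!
# The cross-characteristic bases in dimensions three, four and five
-/

set_option autoImplicit false

namespace Cfsg.Lib.UnitMult.Cross

open Subgroup Cfsg.Lib.Linear Cfsg.Lib.Linear.Herm
open Cfsg.Lib.Chev.TwMult (NoStemPrime)

universe u

variable {F : Type u} [Field F] [Fintype F] {q r : ℕ} [hr : Fact r.Prime]
  (hF : Fintype.card F = q ^ 2)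
include hF

omit hr in
theorem card_SU_three :
    Nat.card ↥(Cfsg.SU 3 F q) = q ^ 3 * ((q + 1) * (q - 1)) * (q ^ 3 + 1) := by
  have h := card_SU hF (show 1 ≤ 3 by norm_num)
  rw [card_GU hF 3] at h
  obtain ⟨s, rfl⟩ : ∃ s, q = s + 1 := ⟨q - 1, by have := two_le_q hF; omega⟩
  simp [Finset.prod_range_succ, Nat.even_add_one] at h
  rw [show (s + 1) ^ 2 - 1 = s * (s + 2) by rw [show (s + 1) ^ 2 = s * (s + 2) + 1 by ring]; omega] at h
  refine Nat.eq_of_mul_eq_mul_left (show 0 < s + 1 + 1 by omega) ?_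
  rw [h, Nat.add_sub_cancel]
  ring

omit hr in
theorem card_SU_four : Nat.card ↥(Cfsg.SU 4 F q) =
    q ^ 6 * ((q + 1) * (q - 1)) ^ 2 * (q ^ 2 + 1) * (q ^ 3 + 1) := by
  have h := card_SU hF (show 1 ≤ 4 by norm_num)
  rw [card_GU hF 4] at h
  obtain ⟨s, rfl⟩ : ∃ s, q = s + 1 := ⟨q - 1, by have := two_le_q hF; omega⟩
  simp [Finset.prod_range_succ, Nat.even_add_one] at h
  rw [show (s + 1) ^ 4 - 1 = s * (s + 2) * ((s + 1) ^ 2 + 1) by
      rw [show (s + 1) ^ 4 = s * (s + 2) * ((s + 1) ^ 2 + 1) + 1 by ring]; omega,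
    show (s + 1) ^ 2 - 1 = s * (s + 2) by rw [show (s + 1) ^ 2 = s * (s + 2) + 1 by ring]; omega] at h
  refine Nat.eq_of_mul_eq_mul_left (show 0 < s + 1 + 1 by omega) ?_
  rw [h, Nat.add_sub_cancel]
  ring

omit hr in
theorem card_SU_five : Nat.card ↥(Cfsg.SU 5 F q) =
    q ^ 6 * ((q + 1) * (q - 1)) ^ 2 * (q ^ 2 + 1) * (q ^ 3 + 1) * (q ^ 4 * (q ^ 5 + 1)) := by
  have h := card_SU hF (show 1 ≤ 5 by norm_num)
  rw [card_GU hF 5] at h
  obtain ⟨s, rfl⟩ : ∃ s, q = s + 1 := ⟨q - 1, by have := two_le_q hF; omega⟩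
  simp [Finset.prod_range_succ, Nat.even_add_one] at h
  rw [show (s + 1) ^ 4 - 1 = s * (s + 2) * ((s + 1) ^ 2 + 1) by
      rw [show (s + 1) ^ 4 = s * (s + 2) * ((s + 1) ^ 2 + 1) + 1 by ring]; omega,
    show (s + 1) ^ 2 - 1 = s * (s + 2) by rw [show (s + 1) ^ 2 = s * (s + 2) + 1 by ring]; omega] at h
  refine Nat.eq_of_mul_eq_mul_left (show 0 < s + 1 + 1 by omega) ?_
  rw [h, Nat.add_sub_cancel]
  ring

omit hr in
/-- `q ^ 2 - q + 1`, without subtraction. -/
theorem cube_add_one : q ^ 3 + 1 = (q + 1) * (q * (q - 1) + 1) := by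
  obtain ⟨s, rfl⟩ : ∃ s, q = s + 1 := ⟨q - 1, by have := two_le_q hF; omega⟩
  rw [Nat.add_sub_cancel]; ring

omit hr in
theorem fifth_add_one : q ^ 5 + 1 = (q + 1) * (q ^ 3 * (q - 1) + (q * (q - 1) + 1)) := by
  obtain ⟨s, rfl⟩ : ∃ s, q = s + 1 := ⟨q - 1, by have := two_le_q hF; omega⟩
  rw [Nat.add_sub_cancel]; ring

omit hr in
theorem cast_sub_one {R : Type} [CommRing R] : (((q - 1 : ℕ)) : R) = (q : R) - 1 := by
  rw [Nat.cast_sub (by have := two_le_q hF; omega), Nat.cast_one]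

omit hF in
theorem ne_zero_iff {x : ℕ} : (x : ZMod r) ≠ 0 ↔ ¬ r ∣ x :=
  (ZMod.natCast_eq_zero_iff x r).not

omit hF in
theorem small_ne {x : ℕ} (hx : 0 < x) (hxr : x < r) : (x : ZMod r) ≠ 0 := fun h =>
  Nat.not_dvd_of_pos_of_lt hx hxr ((ZMod.natCast_eq_zero_iff x r).1 h)

omit hF in
theorem two_ne (h2 : r ≠ 2) : (2 : ZMod r) ≠ 0 := by
  have := hr.out.two_le
  exact_mod_cast small_ne (r := r) (x := 2) (by norm_num) (by omega)

/-- The factors at a prime dividing `q + 1`. -/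
theorem plus_facts (h2 : r ≠ 2) (h : r ∣ q + 1) : ¬ r ∣ q - 1 ∧ ¬ r ∣ q ^ 2 + 1 ∧ ¬ r ∣ q ∧
    (r ≠ 3 → ¬ r ∣ q * (q - 1) + 1) ∧ (r ≠ 5 → ¬ r ∣ q ^ 3 * (q - 1) + (q * (q - 1) + 1)) := by
  have hr2 := hr.out.two_le
  have hq : (q : ZMod r) = -1 := by
    have h1 := (ZMod.natCast_eq_zero_iff (q + 1) r).2 h
    push_cast at h1
    exact eq_neg_of_add_eq_zero_left h1
  refine ⟨?_, ?_, ?_, fun h3 => ?_, fun h5 => ?_⟩ <;>
    rw [← ZMod.natCast_eq_zero_iff] <;>
    simp only [Nat.cast_add, Nat.cast_mul, Nat.cast_pow, Nat.cast_one, cast_sub_one hF, hq]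
  · rw [show (-1 : ZMod r) - 1 = -2 by ring, neg_eq_zero]; exact two_ne h2
  · rw [show (-1 : ZMod r) ^ 2 + 1 = 2 by ring]; exact two_ne h2
  · exact neg_ne_zero.2 one_ne_zero
  · rw [show (-1 : ZMod r) * (-1 - 1) + 1 = 3 by ring]
    exact_mod_cast small_ne (r := r) (x := 3) (by norm_num) (by omega)
  · rw [show (-1 : ZMod r) ^ 3 * (-1 - 1) + (-1 * (-1 - 1) + 1) = 5 by ring]
    have : r ≠ 4 := fun e => by
      have := hr.out; rw [e] at this; norm_num at this
    by_cases h3 : r = 3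
    · subst h3
      rw [show (5 : ZMod 3) = ((5 : ℕ) : ZMod 3) by norm_num, ZMod.natCast_eq_zero_iff]
      norm_num
    · exact_mod_cast small_ne (r := r) (x := 5) (by norm_num) (by omega)

/-- At three dividing `q + 1` the factor `q ^ 2 - q + 1` is divisible by three exactly once. -/
theorem three_part (h : 3 ∣ q + 1) : ∃ P, q * (q - 1) + 1 = 3 * P ∧ ¬ 3 ∣ P := by
  obtain ⟨a, rfl⟩ : ∃ a, q = 3 * a + 2 := ⟨q / 3, by omega⟩
  refine ⟨3 * (a * a) + 3 * a + 1, ?_, by omega⟩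
  rw [show 3 * a + 2 - 1 = 3 * a + 1 by omega]; ring

theorem five_part (h : 5 ∣ q + 1) : ∃ P, q ^ 3 * (q - 1) + (q * (q - 1) + 1) = 5 * P ∧ ¬ 5 ∣ P := by
  obtain ⟨a, rfl⟩ : ∃ a, q = 5 * a + 4 := ⟨q / 5, by omega⟩
  refine ⟨125 * a ^ 4 + 375 * a ^ 3 + 425 * a ^ 2 + 215 * a + 41, ?_, by omega⟩
  rw [show 5 * a + 4 - 1 = 5 * a + 3 by omega]; ring

omit hF in
/-- A prime not dividing the order of a factor list. -/
theorem not_dvd_mul {a b : ℕ} (ha : ¬ r ∣ a) (hb : ¬ r ∣ b) : ¬ r ∣ a * b :=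
  fun h => (hr.out.dvd_mul.1 h).elim ha hb

omit hF in
theorem not_dvd_pow {a k : ℕ} (ha : ¬ r ∣ a) : ¬ r ∣ a ^ k := fun h => ha (hr.out.dvd_of_dvd_pow h)

theorem torus_case {m : ℕ} (h2 : r ≠ 2) {B : ℕ} (hG : Nat.card ↥(Cfsg.SU (m + 1) F q) = (q + 1) ^ m * B)
    (hB : ¬ r ∣ B) : NoStemPrime r ↥(Cfsg.SU (m + 1) F q) :=
  noStem_of_torus hF h2 (Fin.last m) (not_dvd_index_of (card_torus_dvd hF m) hG hB)

theorem mono_case {m : ℕ} (h2 : r ≠ 2) {π ρ : Equiv.Perm (Fin (m + 1))} {e : Fin (m + 1) → F}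
    (hπr : π ^ r = 1) (hπ1 : π ≠ 1) (hsign : Equiv.Perm.sign π = 1)
    (he : ∀ i, e (π i) = e i) (hnorm : ∀ i, e i ^ (q + 1) = 1)
    (hdet : ((Equiv.Perm.sign ρ : ℤ) : F) * ∏ i, e i = 1) (hconj : ρ * π = π⁻¹ * ρ)
    (horb : ∀ i, ∃ k : ℕ, ρ i = (π ^ k) i) {B : ℕ}
    (hG : Nat.card ↥(Cfsg.SU (m + 1) F q) = (q + 1) ^ m * r * B)
    (hB : ¬ r ∣ B) : NoStemPrime r ↥(Cfsg.SU (m + 1) F q) := by
  obtain ⟨c, hc⟩ := exists_mono hF π (fun _ => 1) (fun _ => one_pow _) (by simp [hsign])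
  obtain ⟨s, hs⟩ := exists_mono hF ρ e hnorm hdet
  exact noStem_of_mono hF h2 (Fin.last m) hc hs he hconj horb
    (not_dvd_index_of ((mul_dvd_mul_right (card_torus_dvd hF m) r).trans (dvd_card_mono hc hπr hπ1)) hG hB)

theorem neg_one_norm : (-1 : F) ^ (q + 1) = 1 := by
  rw [pow_succ, ← frob_apply hF, map_neg, map_one, neg_mul_neg, one_mul]

theorem noStem_three (hrq : ¬ r ∣ q) : NoStemPrime r ↥(Cfsg.SU 3 F q) := by
  have hq := two_le_q hF
  have hc := card_SU_three hF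
  rw [cube_add_one hF] at hc
  obtain ⟨hN2, hA2⟩ := su_two hF hrq
  by_cases h2 : r = 2
  · refine noStem_line hF (m := 2) (by norm_num) hN2 hA2 (B := q ^ 2 * (q * (q - 1) + 1))
      (by rw [hc, card_SU_two hF]; ring) ?_
    subst h2
    refine not_dvd_mul (not_dvd_pow hrq) fun h => ?_
    have he : Even (q * (q - 1)) := by
      have := Nat.even_mul_succ_self (q - 1)
      rwa [show q - 1 + 1 = q by omega, mul_comm] at this
    obtain ⟨k, hk⟩ := he
    omega
  by_cases hp : r ∣ q + 1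
  · obtain ⟨hm1, -, -, hP3, -⟩ := plus_facts hF h2 hp
    by_cases h3 : r = 3
    · subst h3
      obtain ⟨P, hP, hPn⟩ := three_part hF hp
      rw [hP] at hc
      refine mono_case hF h2 (m := 2) (π := Equiv.swap 0 1 * Equiv.swap 1 2) (ρ := Equiv.swap 0 1)
        (e := fun _ => -1) (by decide) (by decide)
        (by rw [Equiv.Perm.sign_mul, Equiv.Perm.sign_swap (by decide), Equiv.Perm.sign_swap (by decide)]; rfl)
        (fun _ => rfl) (fun _ => neg_one_norm hF)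
        (by rw [Equiv.Perm.sign_swap (by decide)]; simp; norm_num) (by decide)
        (fun i => ?_) (B := q ^ 3 * (q - 1) * P) (by rw [hc]; ring)
        (not_dvd_mul (not_dvd_mul (not_dvd_pow hrq) hm1) hPn)
      fin_cases i
      · exact ⟨1, by decide⟩
      · exact ⟨2, by decide⟩
      · exact ⟨0, by decide⟩
    · exact torus_case hF h2 (m := 2) (B := q ^ 3 * (q - 1) * (q * (q - 1) + 1)) (by rw [hc]; ring)
        (not_dvd_mul (not_dvd_mul (not_dvd_pow hrq) hm1) (hP3 h3))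
  by_cases hm : r ∣ q - 1
  · refine noStem_last hF (m := 2) (not_dvd_index_of
      (dvd_of_eq (Nat.card_congr (nonempty_fixE_last hF (q := q) 2).some.toEquiv))
      (B := q ^ 2 * ((q + 1) * (q * (q - 1) + 1))) (by rw [hc, card_SU_two hF]; ring) ?_) hN2
    refine not_dvd_mul (not_dvd_pow hrq) (not_dvd_mul hp ?_)
    intro h
    have h1 : r ∣ q * (q - 1) := hm.mul_left q
    exact hr.out.one_lt.ne' (Nat.dvd_one.1 ((Nat.dvd_add_right h1).1 h))
  by_cases hP : r ∣ q * (q - 1) + 1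
  · refine noStem_of_irreducible (fun h => hrq (hr.out.dvd_of_dvd_pow (hF ▸ h))) fun i h1 h3 hmod => ?_
    rw [hF, ← ZMod.natCast_eq_natCast_iff] at hmod
    push_cast at hmod
    set x : ZMod r := (q : ZMod r)
    have hx3 : x ^ 3 = -1 := by
      have := (ZMod.natCast_eq_zero_iff (q ^ 3 + 1) r).2 (by rw [cube_add_one hF]; exact hP.mul_left _)
      push_cast at this
      exact eq_neg_of_add_eq_zero_left this
    have hxp : x + 1 ≠ 0 := fun e => hp ((ZMod.natCast_eq_zero_iff (q + 1) r).1 (by push_cast; exact e))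
    have hxm : x - 1 ≠ 0 := fun e => hm ((ZMod.natCast_eq_zero_iff (q - 1) r).1 (by rw [cast_sub_one hF]; exact e))
    have h0 : (x + 1) * (x - 1) ≠ 0 := mul_ne_zero hxp hxm
    interval_cases i
    · exact h0 (by linear_combination hmod)
    · exact hxp (by linear_combination x * hx3 - hmod)
  · refine noStem_of_cyclic_sub (⊥ : Subgroup _) ?_
    rw [index_bot, hc]
    exact not_dvd_mul (not_dvd_mul (not_dvd_pow hrq) (not_dvd_mul hp hm)) (not_dvd_mul hp hP)

theorem noStem_four (hrq : ¬ r ∣ q) : NoStemPrime r ↥(Cfsg.SU 4 F q) := by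
  have hq := two_le_q hF
  have hc := card_SU_four hF
  rw [cube_add_one hF] at hc
  have h2c := card_SU_two hF
  by_cases h2 : r = 2
  · subst h2
    obtain ⟨a, rfl⟩ : ∃ a, q = 2 * a + 1 := ⟨q / 2, by omega⟩
    refine noStem_blocks hF hrq (B := (2 * a + 1) ^ 4 * (2 * (a * a) + 2 * a + 1) *
      ((2 * a + 1) * (2 * a + 1 - 1) + 1)) ?_ (Or.inr ?_)
    · refine not_dvd_mul (not_dvd_mul (not_dvd_pow (by omega)) (by omega)) fun h => ?_
      rw [Nat.add_sub_cancel, show (2 * a + 1) * (2 * a) = 2 * ((2 * a + 1) * a) by ring] at h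
      omega
    · rw [hc, h2c]; ring
  by_cases hp : r ∣ q + 1
  · obtain ⟨hm1, hs1, -, hP3, -⟩ := plus_facts hF h2 hp
    by_cases h3 : r = 3
    · subst h3
      obtain ⟨P, hP, hPn⟩ := three_part hF hp
      rw [hP] at hc
      refine mono_case hF h2 (m := 3) (π := Equiv.swap 0 1 * Equiv.swap 1 2) (ρ := Equiv.swap 0 1)
        (e := fun i => if i = 3 then -1 else 1) (by decide) (by decide)
        (by rw [Equiv.Perm.sign_mul, Equiv.Perm.sign_swap (by decide), Equiv.Perm.sign_swap (by decide)]; rfl)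
        (fun i => by fin_cases i <;> simp [Equiv.swap_apply_def]) (fun i => ?_)
        (by rw [Equiv.Perm.sign_swap (by decide)]; simp [Fin.prod_univ_four]) (by decide)
        (fun i => ?_) (B := q ^ 6 * (q - 1) ^ 2 * (q ^ 2 + 1) * P) (by rw [hc]; ring)
        (not_dvd_mul (not_dvd_mul (not_dvd_mul (not_dvd_pow hrq) (not_dvd_pow hm1)) hs1) hPn)
      · split_ifs
        · exact neg_one_norm hF
        · exact one_pow _
      fin_cases i
      · exact ⟨1, by decide⟩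
      · exact ⟨2, by decide⟩
      · exact ⟨0, by decide⟩
      · exact ⟨0, by decide⟩
    · exact torus_case hF h2 (m := 3) (B := q ^ 6 * (q - 1) ^ 2 * (q ^ 2 + 1) * (q * (q - 1) + 1))
        (by rw [hc]; ring)
        (not_dvd_mul (not_dvd_mul (not_dvd_mul (not_dvd_pow hrq) (not_dvd_pow hm1)) hs1) (hP3 h3))
  have hxp : (q : ZMod r) + 1 ≠ 0 := fun e =>
    hp ((ZMod.natCast_eq_zero_iff (q + 1) r).1 (by push_cast; exact e))
  by_cases hm : r ∣ q - 1
  · have hx : (q : ZMod r) = 1 := by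
      have h := (ZMod.natCast_eq_zero_iff (q - 1) r).2 hm
      rw [cast_sub_one hF] at h
      exact sub_eq_zero.1 h
    refine noStem_blocks hF hrq (B := q ^ 4 * (q ^ 2 + 1) * ((q + 1) * (q * (q - 1) + 1))) ?_
      (Or.inl (by rw [hc, h2c]; ring))
    rw [← ZMod.natCast_eq_zero_iff]
    simp only [Nat.cast_add, Nat.cast_mul, Nat.cast_pow, Nat.cast_one, cast_sub_one hF, hx]
    rw [show (1 : ZMod r) ^ 4 * (1 ^ 2 + 1) * ((1 + 1) * (1 * (1 - 1) + 1)) = 2 * 2 by ring]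
    exact mul_ne_zero (two_ne h2) (two_ne h2)
  have hxm : (q : ZMod r) - 1 ≠ 0 := fun e =>
    hm ((ZMod.natCast_eq_zero_iff (q - 1) r).1 (by rw [cast_sub_one hF]; exact e))
  by_cases hs : r ∣ q ^ 2 + 1
  · obtain ⟨p, f, hpp, hpc, hf0, hf⟩ := exists_char hF
    haveI := hpc
    haveI : Fact p.Prime := ⟨hpp⟩
    refine noStem_levi hF (p := p) (fun e => hrq (e ▸ hf ▸ dvd_pow_self p hf0.ne'))
      (B := q ^ 4 * (q + 1) * (q - 1) * ((q + 1) * (q * (q - 1) + 1))) ?_ ?_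
    · rw [hc, show (q ^ 2) ^ 2 - 1 = (q ^ 2 + 1) * ((q + 1) * (q - 1)) by
        rw [Nat.sub_eq_iff_eq_add (Nat.one_le_pow _ _ (by positivity)), ← Nat.sq_sub_sq, one_pow]
        obtain ⟨c, hc'⟩ : ∃ c, q ^ 2 = c + 1 := ⟨q ^ 2 - 1, by have := Nat.one_le_pow 2 q (by omega); omega⟩
        rw [hc', Nat.add_sub_cancel]; ring]
      ring
    · refine not_dvd_mul (not_dvd_mul (not_dvd_mul (not_dvd_pow hrq) hp) hm) (not_dvd_mul hp ?_)
      rw [← ZMod.natCast_eq_zero_iff]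
      have h := (ZMod.natCast_eq_zero_iff (q ^ 2 + 1) r).2 hs
      push_cast at h
      simp only [Nat.cast_add, Nat.cast_mul, Nat.cast_one, cast_sub_one hF]
      exact fun e => hrq ((ZMod.natCast_eq_zero_iff q r).1 (by linear_combination h - e))
  · refine noStem_last hF (m := 3) (not_dvd_index_of
      (dvd_of_eq (Nat.card_congr (nonempty_fixE_last hF (q := q) 3).some.toEquiv))
      (B := q ^ 3 * ((q + 1) * (q - 1)) * (q ^ 2 + 1))
      (by rw [hc, card_SU_three hF, cube_add_one hF]; ring) ?_) (noStem_three hF hrq)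
    exact not_dvd_mul (not_dvd_mul (not_dvd_pow hrq) (not_dvd_mul hp hm)) hs

theorem noStem_five (hrq : ¬ r ∣ q) : NoStemPrime r ↥(Cfsg.SU 5 F q) := by
  have hq := two_le_q hF
  have hc := card_SU_five hF
  have h4c := card_SU_four hF
  by_cases h2 : r = 2
  · subst h2
    refine noStem_line hF (m := 4) (by norm_num) (noStem_four hF hrq)
      (abCop_of_perfect (Step.su_perfect hF le_rfl))
      (B := q ^ 4 * (q ^ 3 * (q - 1) + (q * (q - 1) + 1))) ?_ ?_
    · rw [hc, h4c, fifth_add_one hF]; ring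
    · refine not_dvd_mul (not_dvd_pow hrq) fun h => ?_
      obtain ⟨k, hk⟩ : Even (q - 1) := by
        rw [Nat.even_iff]; omega
      rw [hk, show q ^ 3 * (k + k) + (q * (k + k) + 1) = 2 * (q ^ 3 * k + q * k) + 1 by ring] at h
      omega
  by_cases hp : r ∣ q + 1
  · obtain ⟨hm1, hs1, -, hP3, hP5⟩ := plus_facts hF h2 hp
    rw [cube_add_one hF, fifth_add_one hF] at hc
    by_cases h3 : r = 3
    · subst h3
      obtain ⟨P, hP, hPn⟩ := three_part hF hp
      rw [show q ^ 3 * (q - 1) + (q * (q - 1) + 1) = q ^ 3 * (q - 1) + 3 * P by rw [hP], hP] at hc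
      refine mono_case hF h2 (m := 4) (π := Equiv.swap 0 1 * Equiv.swap 1 2) (ρ := Equiv.swap 0 1)
        (e := fun _ => -1) (by decide) (by decide)
        (by rw [Equiv.Perm.sign_mul, Equiv.Perm.sign_swap (by decide), Equiv.Perm.sign_swap (by decide)]; rfl)
        (fun _ => rfl) (fun _ => neg_one_norm hF)
        (by rw [Equiv.Perm.sign_swap (by decide)]; simp [Fin.prod_univ_five]; norm_num) (by decide)
        (fun i => ?_) (B := q ^ 10 * (q - 1) ^ 2 * (q ^ 2 + 1) * P * (q ^ 3 * (q - 1) + 3 * P))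
        (by rw [hc]; ring)
        (not_dvd_mul (not_dvd_mul (not_dvd_mul (not_dvd_mul (not_dvd_pow hrq) (not_dvd_pow hm1)) hs1) hPn)
          (hP ▸ hP5 (by norm_num)))
      fin_cases i
      · exact ⟨1, by decide⟩
      · exact ⟨2, by decide⟩
      · exact ⟨0, by decide⟩
      · exact ⟨0, by decide⟩
      · exact ⟨0, by decide⟩
    by_cases h5 : r = 5
    · subst h5
      obtain ⟨P, hP, hPn⟩ := five_part hF hp
      rw [hP] at hc
      refine mono_case hF h2 (m := 4) (π := finRotate 5) (ρ := Equiv.swap 1 4 * Equiv.swap 2 3)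
        (e := fun _ => 1) (by decide) (by decide) (by decide) (fun _ => rfl) (fun _ => one_pow _)
        (by rw [Equiv.Perm.sign_mul, Equiv.Perm.sign_swap (by decide), Equiv.Perm.sign_swap (by decide)]; simp)
        (by decide) (fun i => ?_)
        (B := q ^ 10 * (q - 1) ^ 2 * (q ^ 2 + 1) * (q * (q - 1) + 1) * P) (by rw [hc]; ring)
        (not_dvd_mul (not_dvd_mul (not_dvd_mul (not_dvd_mul (not_dvd_pow hrq) (not_dvd_pow hm1)) hs1) (hP3 h3)) hPn)
      fin_cases i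
      · exact ⟨0, by decide⟩
      · exact ⟨3, by decide⟩
      · exact ⟨1, by decide⟩
      · exact ⟨4, by decide⟩
      · exact ⟨2, by decide⟩
    exact torus_case hF h2 (m := 4)
      (B := q ^ 10 * (q - 1) ^ 2 * (q ^ 2 + 1) * (q * (q - 1) + 1) * (q ^ 3 * (q - 1) + (q * (q - 1) + 1)))
      (by rw [hc]; ring)
      (not_dvd_mul (not_dvd_mul (not_dvd_mul (not_dvd_mul (not_dvd_pow hrq) (not_dvd_pow hm1)) hs1) (hP3 h3))
        (hP5 h5))
  by_cases h5 : r ∣ q ^ 5 + 1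
  · refine noStem_of_irreducible (fun h => hrq (hr.out.dvd_of_dvd_pow (hF ▸ h))) fun i h1 h5' hmod => ?_
    rw [hF, ← ZMod.natCast_eq_natCast_iff] at hmod
    push_cast at hmod
    set x : ZMod r := (q : ZMod r)
    have hx5 : x ^ 5 = -1 := by
      have := (ZMod.natCast_eq_zero_iff (q ^ 5 + 1) r).2 h5
      push_cast at this
      exact eq_neg_of_add_eq_zero_left this
    have hxp : x + 1 ≠ 0 := fun e => hp ((ZMod.natCast_eq_zero_iff (q + 1) r).1 (by push_cast; exact e))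
    have h10 : (x ^ 2) ^ 5 = 1 := by rw [← pow_mul, pow_mul' x 2 5, hx5]; ring
    have hy : x ^ 2 = 1 := by
      have hg := pow_gcd_eq_one.2 ⟨hmod, h10⟩
      rwa [show Nat.gcd i 5 = 1 by interval_cases i <;> rfl, pow_one] at hg
    exact hxp (by linear_combination hx5 - x * (x ^ 2 + 1) * hy)
  · refine noStem_last hF (m := 4) (not_dvd_index_of
      (dvd_of_eq (Nat.card_congr (nonempty_fixE_last hF (q := q) 4).some.toEquiv))
      (B := q ^ 4 * (q ^ 5 + 1)) (by rw [hc, h4c]) ?_) (noStem_four hF hrq)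
    exact not_dvd_mul (not_dvd_pow hrq) h5

end Cfsg.Lib.UnitMult.Cross

namespace Cfsg.Lib.UnitMult

universe u

/-- The bases in cross characteristic. -/
theorem cross_base {F : Type u} [Field F] [Fintype F] {q : ℕ} (hF : Fintype.card F = q ^ 2) :
    CrossBase F q := by
  intro n hn _ _ r hr hrq
  haveI := Fact.mk hr
  rcases hn with rfl | rfl | rfl
  · exact Cross.noStem_three hF hrq
  · exact Cross.noStem_four hF hrq
  · exact Cross.noStem_five hF hrq

end Cfsg.Lib.UnitMult
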