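import Cfsg.Agent.Lib.UnitMult.Weight
import Cfsg.Agent.Lib.Linear.SUDegree.Model

/-!
Root elements and torus of the unitary groups in dimensions four and five, in the split model.
-/

set_option autoImplicit false
set_option linter.unusedSectionVars false

namespace Cfsg.Lib.UnitMult

open Matrix Cfsg.Lib.Linear.SUDegree

variable {F : Type*} [Field F] {σ : F →+* F} {ε : ℕ}

section General

variable {m : ℕ}

theorem lMat_mul_uMat' {C C' : Matrix (Fin m) (Fin m) F} (hC : C * C' = 1) {μ : F} (hμ : σ μ * μ = 1)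
    (hσ2 : ∀ a, σ (σ a) = a) (H : Matrix (Fin m) (Fin m) F) (X : Matrix (Fin m) (Fin ε) F) :
    lMat σ C C' μ * uMat σ H X = uMat σ (C * H * st σ C) (σ μ • (C * X)) * lMat σ C C' μ := by
  have h1 : st σ C * st σ C' = 1 := by rw [← st_mul, mul_eq_one_comm.mp hC, st_one]
  ext a b
  rcases a with (a | a) | a <;> rcases b with (b | b) | b <;>
    simp [uMat, lMat, fromBlocks_multiply, fromRows_mul_fromCols, fromBlocks_mul_fromRows, fromCols_mul_fromBlocks,
      fromCols_mul_fromRows, st_zero, st_smul, st_mul, Matrix.mul_assoc, h1, hσ2, smul_smul, mul_comm μ, hμ]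
  linear_combination -(C * X) a b * hμ

theorem lMat_mul_lMat {C₁ C₁' C₂ C₂' : Matrix (Fin m) (Fin m) F} (μ ν : F) :
    lMat (ε := ε) σ C₁ C₁' μ * lMat σ C₂ C₂' ν = lMat σ (C₁ * C₂) (C₂' * C₁') (μ * ν) := by
  simp [lMat, fromBlocks_multiply, st_mul, smul_smul, mul_comm μ]

/-- The condition on a pair to give a unipotent element. -/
def Rel (σ : F →+* F) (H : Matrix (Fin m) (Fin m) F) (X : Matrix (Fin m) (Fin ε) F) : Prop :=
  H + st σ H + X * st σ X = 0

theorem Rel.conj (hσ2 : ∀ a, σ (σ a) = a) {H : Matrix (Fin m) (Fin m) F} {X : Matrix (Fin m) (Fin ε) F}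
    (h : Rel σ H X) (C : Matrix (Fin m) (Fin m) F) {μ : F} (hμ : σ μ * μ = 1) :
    Rel σ (C * H * st σ C) (σ μ • (C * X)) := by
  have e : σ μ * σ (σ μ) = 1 := by rw [hσ2, hμ]
  have h' : C * (H + st σ H + X * st σ X) * st σ C = 0 := by rw [h]; simp
  unfold Rel
  rw [← h', st_mul, st_mul, st_st hσ2, st_smul, st_mul, Matrix.smul_mul, Matrix.mul_smul, smul_smul, e, one_smul]
  simp only [Matrix.mul_add, Matrix.add_mul, Matrix.mul_assoc]

theorem Rel.mul (hσ2 : ∀ a, σ (σ a) = a) {H H' : Matrix (Fin m) (Fin m) F} {X X' : Matrix (Fin m) (Fin ε) F}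
    (h : Rel σ H X) (h' : Rel σ H' X') : Rel σ (H + H' - X * st σ X') (X + X') := by
  unfold Rel at *
  calc H + H' - X * st σ X' + st σ (H + H' - X * st σ X') + (X + X') * st σ (X + X')
      = (H + st σ H + X * st σ X) + (H' + st σ H' + X' * st σ X') := by
        rw [st_sub, st_add, st_mul, st_st hσ2, st_add]
        simp only [Matrix.mul_add, Matrix.add_mul]
        abel
    _ = 0 := by rw [h, h', add_zero]

end General

section Two

/-- A Levi transvection. -/
def lev (c : F) : Matrix (Fin 2) (Fin 2) F := !![1, c; 0, 1]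

theorem lev_mul (c d : F) : lev c * lev d = lev (c + d) := by
  ext i j; fin_cases i <;> fin_cases j <;> simp [lev, Matrix.mul_apply, Fin.sum_univ_two, add_comm]

theorem lev_zero : lev (0 : F) = 1 := by
  ext i j; fin_cases i <;> fin_cases j <;> simp [lev]

theorem lev_neg (c : F) : lev c * lev (-c) = 1 := by rw [lev_mul, add_neg_cancel, lev_zero]

/-- The unitriangular element with given coordinates. -/
def uni (σ : F →+* F) (c : F) (H : Matrix (Fin 2) (Fin 2) F) (X : Matrix (Fin 2) (Fin ε) F) :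
    Matrix (Idx 2 ε) (Idx 2 ε) F :=
  uMat σ H X * lMat σ (lev c) (lev (-c)) 1

theorem uni_mem (hσ2 : ∀ a, σ (σ a) = a) {H : Matrix (Fin 2) (Fin 2) F} {X : Matrix (Fin 2) (Fin ε) F}
    (h : Rel σ H X) (c : F) : uni σ c H X ∈ modelSub σ 2 ε := by
  refine Submonoid.mul_mem _ (uMat_mem hσ2 h) (lMat_mem hσ2 (lev_neg c) (by rw [map_one, mul_one]) ?_)
  simp [lev, Matrix.det_fin_two]

theorem uni_mul (hσ2 : ∀ a, σ (σ a) = a) (c c' : F) (H H' : Matrix (Fin 2) (Fin 2) F)
    (X X' : Matrix (Fin 2) (Fin ε) F) :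
    uni σ c H X * uni σ c' H' X' =
      uni σ (c + c') (H + lev c * H' * st σ (lev c) - X * st σ (lev c * X')) (X + lev c * X') := by
  have h1 : σ (1 : F) * 1 = 1 := by rw [map_one, mul_one]
  simp only [uni]
  rw [mul_assoc, ← mul_assoc (lMat σ (lev c) (lev (-c)) 1), lMat_mul_uMat' (lev_neg c) h1 hσ2, map_one, one_smul,
    mul_assoc, ← mul_assoc, uMat_mul, lMat_mul_lMat, lev_mul, lev_mul, mul_one, ← neg_add, add_comm c' c]

theorem uni_zero : uni σ (0 : F) (0 : Matrix (Fin 2) (Fin 2) F) (0 : Matrix (Fin 2) (Fin ε) F) = 1 := by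
  simp [uni, uMat_zero, lev_zero, lMat, st_one, fromBlocks_one]

/-- The single entry of a row. -/
def xs (X : Matrix (Fin 2) (Fin ε) F) (i : Fin 2) : F := ∑ e, X i e

theorem row_eq (hε : ε ≤ 1) (X : Matrix (Fin 2) (Fin ε) F) (i : Fin 2) (e : Fin ε) : X i e = xs X i := by
  rw [xs]
  exact (Finset.sum_eq_single e (fun b _ hb => absurd (Fin.ext (by omega)) hb) (by simp)).symm

theorem mul_st_apply (hε : ε ≤ 1) (X Y : Matrix (Fin 2) (Fin ε) F) (i j : Fin 2) :
    (X * st σ Y) i j = xs X i * σ (xs Y j) := by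
  rcases Nat.le_one_iff_eq_zero_or_eq_one.1 hε with rfl | rfl <;>
    simp [xs, Matrix.mul_apply, st]

/-- The six coordinates. -/
def co (c : F) (H : Matrix (Fin 2) (Fin 2) F) (X : Matrix (Fin 2) (Fin ε) F) : ℕ → F
  | 0 => H 0 0
  | 1 => H 0 1
  | 2 => xs X 0
  | 3 => H 1 1
  | 4 => c
  | 5 => xs X 1
  | _ => 0

/-- The coordinates read off from a matrix. -/
def mco (σ : F →+* F) (A : Matrix (Idx 2 ε) (Idx 2 ε) F) : ℕ → F :=
  co (A (Sum.inl (Sum.inl 0)) (Sum.inl (Sum.inl 1)))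
    (Matrix.of (fun i j => A (Sum.inl (Sum.inl i)) (Sum.inl (Sum.inr j))) *
      st σ (lev (A (Sum.inl (Sum.inl 0)) (Sum.inl (Sum.inl 1)))))
    (Matrix.of fun i e => A (Sum.inl (Sum.inl i)) (Sum.inr e))

theorem mco_uni (c : F) (H : Matrix (Fin 2) (Fin 2) F) (X : Matrix (Fin 2) (Fin ε) F) :
    mco σ (uni σ c H X) = co c H X := by
  have e1 : uni σ c H X (Sum.inl (Sum.inl 0)) (Sum.inl (Sum.inl 1)) = c := by
    simp [uni, uMat, lMat, lev, fromBlocks_multiply, fromRows_mul_fromCols, fromBlocks_mul_fromRows]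
  have e2 : Matrix.of (fun i j => uni σ c H X (Sum.inl (Sum.inl i)) (Sum.inl (Sum.inr j))) = H * st σ (lev (-c)) := by
    ext i j
    simp [uni, uMat, lMat, fromBlocks_multiply, st_zero]
  have e3 : Matrix.of (fun i e => uni σ c H X (Sum.inl (Sum.inl i)) (Sum.inr e)) = X := by
    ext i j
    simp [uni, uMat, lMat, fromBlocks_multiply]
  rw [mco, e1, e2, e3, Matrix.mul_assoc, ← st_mul, lev_neg, st_one, Matrix.mul_one]

end Two

end Cfsg.Lib.UnitMult
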