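import Cfsg.Agent.Lib.UnitMult.CrossMono
import Cfsg.Agent.Lib.Linear.SUDegree.Model
import Cfsg.Agent.Lib.UnitMult.Frame
import Cfsg.Agent.Lib.Concrete.SLMultiplier
import Cfsg.Agent.Lib.Linear.GLTwo
import Cfsg.Agent.S0281

/-!
# Block subgroups of `SU` for the bases in cross characteristic
-/

set_option autoImplicit false

namespace Cfsg.Lib.UnitMult.Cross

open Subgroup Cfsg.Lib.Linear Cfsg.Lib.Linear.Herm
open Cfsg.Lib.Chev.TwMult (NoStemPrime)
open Cfsg.Lib.UnitMult.Step (Fix embSU suToLin_form)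
open scoped Matrix commutatorElement MatrixGroups

universe u

variable {F : Type u} [Field F] [Fintype F] {q n r : ℕ} [hr : Fact r.Prime]

omit [Fintype F] hr in
/-- A subgroup of index with known multiple of the complementary factor. -/
theorem not_dvd_index_of {G : Type u} [Group G] [Finite G] {H : Subgroup G} {A B : ℕ}
    (hA : A ∣ Nat.card H) (hG : Nat.card G = A * B) (h : ¬ r ∣ B) : ¬ r ∣ H.index := by
  intro hd
  obtain ⟨c, hc⟩ := hA
  have h1 := H.index_mul_card
  rw [hc, hG] at h1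
  have hA0 : A ≠ 0 := fun e => by rw [e, zero_mul] at hG; exact (Nat.card_pos (α := G)).ne' hG
  have h2 : H.index * c = B := Nat.eq_of_mul_eq_mul_left (Nat.pos_of_ne_zero hA0) (by rw [← h1]; ring)
  exact h (h2 ▸ hd.mul_right c)

omit [Fintype F] hr in
theorem dvd_card_sup_zpowers {G : Type u} [Group G] [Finite G] (M : Subgroup G) {t : G}
    (ht : ∀ x ∈ M, t * x * t⁻¹ ∈ M) {m : ℕ} (hm : ∀ j : ℕ, t ^ j ∈ M → m ∣ j) :
    Nat.card M * m ∣ Nat.card ↥(M ⊔ zpowers t) := by
  set H := M ⊔ zpowers t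
  set T := M.subgroupOf H
  have hH : H ≤ normalizer (M : Set G) := by
    refine sup_le le_normalizer (zpowers_le.2 (mem_normalizer_iff.2 fun x => ⟨ht x, fun hx => ?_⟩))
    have h1 : M.map (MulAut.conj t).toMonoidHom ≤ M := by rintro _ ⟨y, hy, rfl⟩; exact ht y hy
    rw [← eq_of_le_of_card_ge h1 (ge_of_eq
      (Nat.card_congr (M.equivMapOfInjective _ (MulAut.conj t).injective).toEquiv).symm)] at hx
    obtain ⟨y, hy, e⟩ := hx
    rwa [← (MulAut.conj t).injective e]
  haveI : T.Normal := ⟨fun x hx g => (mem_normalizer_iff.1 (hH g.2) x.1).1 hx⟩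
  have htH : t ∈ H := mem_sup_right (mem_zpowers t)
  have hord : m ∣ orderOf (QuotientGroup.mk' T ⟨t, htH⟩) := hm _ (by
    have h := pow_orderOf_eq_one (QuotientGroup.mk' T ⟨t, htH⟩)
    rw [← map_pow, QuotientGroup.mk'_apply, QuotientGroup.eq_one_iff] at h
    exact h)
  rw [card_eq_card_quotient_mul_card_subgroup T,
    ← Nat.card_congr (subgroupOfEquivOfLe (le_sup_left : M ≤ H)).toEquiv, mul_comm (Nat.card T) m]
  exact mul_dvd_mul_right (hord.trans (orderOf_dvd_natCard _)) _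

omit [Fintype F] hr in
theorem card_sup_of_comm {G : Type u} [Group G] (A B : Subgroup G) (hd : A ⊓ B = ⊥)
    (hc : ∀ a ∈ A, ∀ b ∈ B, a * b = b * a) : Nat.card ↥(A ⊔ B) = Nat.card A * Nat.card B := by
  let f := MonoidHom.noncommCoprod A.subtype B.subtype fun a b => hc a.1 a.2 b.1 b.2
  have hr' : f.range = A ⊔ B := by
    rw [show f.range = A.subtype.range ⊔ B.subtype.range from MonoidHom.noncommCoprod_range _ _ _,
      range_subtype, range_subtype]
  have hinj : Function.Injective f := (injective_iff_map_eq_one f).2 fun x hx => by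
    have hx' : (x.1 : G) * x.2 = 1 := hx
    have h1 : (x.1 : G) = 1 := Subgroup.mem_bot.1 (hd ▸ (⟨x.1.2,
      (eq_inv_of_mul_eq_one_left hx') ▸ B.inv_mem x.2.2⟩ : (x.1 : G) ∈ A ⊓ B))
    rw [h1, one_mul] at hx'
    exact Prod.ext (Subtype.ext h1) (Subtype.ext hx')
  rw [← hr', ← Nat.card_congr (MonoidHom.ofInjective hinj).toEquiv, Nat.card_prod]

/-- The special linear group of rank one has abelianisation of order prime to `r`. -/
theorem abCop_sl_two {K : Type u} [Field K] [Fintype K] {p : ℕ} [hp : Fact p.Prime] [CharP K p] (hrp : r ≠ p) :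
    AbCop r SL(2, K) := by
  refine abCop_of_gen hp.out hrp Cfsg.Lib.Concrete.SLMult.closure_tr ?_
  rintro _ ⟨i, j, t, hij, rfl⟩
  have key : ∀ k : ℕ, Cfsg.Lib.Concrete.SLMult.tr i j t ^ k = Cfsg.Lib.Concrete.SLMult.tr i j ((k : K) * t) := by
    intro k
    induction k with
    | zero =>
      refine Subtype.ext ?_
      rw [pow_zero, Nat.cast_zero, zero_mul, Cfsg.Lib.Concrete.SLMult.coe_tr hij]
      simp
    | succ k ih =>
      rw [pow_succ, ih, Cfsg.Lib.Concrete.SLMult.tr_add hij, Nat.cast_succ, add_mul, one_mul]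
  rw [key, CharP.cast_eq_zero, zero_mul]
  refine Subtype.ext ?_
  rw [Cfsg.Lib.Concrete.SLMult.coe_tr hij]
  simp

variable (hF : Fintype.card F = q ^ 2)
include hF

omit hr in
theorem exists_char : ∃ p f : ℕ, p.Prime ∧ CharP F p ∧ 0 < f ∧ q = p ^ f := by
  obtain ⟨p, hp⟩ := CharP.exists F
  haveI := hp
  obtain ⟨m, hpp, hm⟩ := FiniteField.card F p
  rw [hF] at hm
  obtain ⟨f, -, hf⟩ := (Nat.dvd_prime_pow hpp).1 (hm ▸ dvd_pow_self q two_ne_zero)
  refine ⟨p, f, hpp, hp, Nat.pos_of_ne_zero fun h => ?_, hf⟩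
  rw [h, pow_zero] at hf
  have := two_le_q hF
  omega

omit hr in
theorem card_SU_two : Nat.card ↥(Cfsg.SU 2 F q) = q * ((q + 1) * (q - 1)) := by
  have h := card_SU hF (show 1 ≤ 2 by norm_num)
  rw [card_GU hF 2] at h
  obtain ⟨s, rfl⟩ : ∃ s, q = s + 1 := ⟨q - 1, by have := two_le_q hF; omega⟩
  simp [Finset.prod_range_succ, Nat.even_add_one] at h
  rw [show (s + 1) ^ 2 - 1 = s * (s + 2) by rw [show (s + 1) ^ 2 = s * (s + 2) + 1 by ring]; omega] at h
  refine Nat.eq_of_mul_eq_mul_left (show 0 < s + 1 + 1 by omega) ?_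
  rw [h, Nat.add_sub_cancel]
  ring

/-- `SU 2` has no stem extension in cross characteristic and abelianisation prime to `r`. -/
theorem su_two (hrq : ¬ r ∣ q) : NoStemPrime r ↥(Cfsg.SU 2 F q) ∧ AbCop r ↥(Cfsg.SU 2 F q) := by
  obtain ⟨p, f, hpp, hp, hf0, hf⟩ := exists_char hF
  haveI := hp
  haveI : Fact p.Prime := ⟨hpp⟩
  let K : Subfield F := (frob hF).eqLocusField (RingHom.id F)
  haveI : Fintype K := Fintype.ofFinite _
  haveI : CharP K p := K.subtype.charP Subtype.val_injective p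
  have hK : Fintype.card K = q := by
    rw [← Nat.card_eq_fintype_card, ← card_fixed hF]
    exact Nat.card_congr (Equiv.subtypeEquivRight fun a => by
      show frob hF a = a ↔ _; rw [frob_apply])
  have hrp : r ≠ p := fun e => hrq (e ▸ hf ▸ dvd_pow_self p hf0.ne')
  obtain ⟨e⟩ := Cfsg.Agent.S0281.result (F := F) (K := K) hF hK
  exact ⟨noStem_of_equiv e.symm (Cfsg.Lib.Chev.TwMult.noStem_sl_two hr.out hrp),
    abCop_of_equiv e.symm (abCop_sl_two hrp)⟩

omit hr in
theorem eLast_eq (m : ℕ) : Step.eLast m F = Pi.single (Fin.last m) 1 := funext fun i => by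
  refine Fin.lastCases ?_ (fun j => ?_) i
  · simp [Step.eLast]
  · simp [Step.eLast]

/-- The fixer of some unit vectors. -/
def FixE (n : ℕ) (F : Type u) [Field F] (q : ℕ) (s : Set (Fin n)) : Subgroup (Cfsg.SU n F q) :=
  Fix n F q ((fun k => Pi.single k 1) '' s)

omit hF hr in
theorem mem_FixE {s : Set (Fin n)} {g : Cfsg.SU n F q} :
    g ∈ FixE n F q s ↔ ∀ k ∈ s, suToLin n F q g (Pi.single k 1) = Pi.single k 1 :=
  ⟨fun h k hk => h _ ⟨k, hk, rfl⟩, by rintro h _ ⟨k, hk, rfl⟩; exact h k hk⟩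

omit hr in
/-- The stabiliser of the last unit vector is `SU` of one dimension less. -/
theorem nonempty_fixE_last (m : ℕ) :
    Nonempty (↥(Cfsg.SU m F q) ≃* ↥(FixE (m + 1) F q {Fin.last m})) := by
  refine ⟨(MonoidHom.ofInjective Step.embSU_injective).trans (MulEquiv.subgroupCongr ?_)⟩
  rw [Step.embSU_range hF, FixE, Set.image_singleton, eLast_eq hF]

omit hF hr in
theorem Acts.fixed {g : Cfsg.SU n F q} {π : Equiv.Perm (Fin n)} {d : Fin n → F} (hg : Acts g π d) {k : Fin n}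
    (hk : π k = k) (hd : d k = 1) : suToLin n F q g (Pi.single k 1) = Pi.single k 1 := by
  rw [hg.single, hk, hd, one_smul]

omit hF hr in
theorem conj_fixE {g : Cfsg.SU n F q} {π : Equiv.Perm (Fin n)} {d : Fin n → F} (hg : Acts g π d)
    {s s' : Set (Fin n)} (hs : ∀ k ∈ s', ∃ j ∈ s, π j = k) {h : Cfsg.SU n F q} (hh : h ∈ FixE n F q s) :
    g * h * g⁻¹ ∈ FixE n F q s' := by
  refine mem_FixE.2 fun k hk => ?_
  obtain ⟨j, hj, rfl⟩ := hs k hk
  have e : suToLin n F q g⁻¹ (Pi.single (π j) 1) = (d j)⁻¹ • Pi.single j 1 := by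
    have h1 := congrArg (suToLin n F q g⁻¹) (hg.single j)
    rw [← LinearEquiv.mul_apply, ← map_mul, inv_mul_cancel, map_one, map_smul] at h1
    change Pi.single j 1 = d j • suToLin n F q g⁻¹ (Pi.single (π j) 1) at h1
    rw [h1, smul_smul, inv_mul_cancel₀ (hg.ne_zero j), one_smul]
  rw [map_mul, map_mul, LinearEquiv.mul_apply, LinearEquiv.mul_apply, e, map_smul, mem_FixE.1 hh j hj,
    map_smul, hg.single, smul_smul, inv_mul_cancel₀ (hg.ne_zero j), one_smul]

omit hF hr in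
/-- Monomial conjugation between fixers. -/
theorem map_conj_fixE {g : Cfsg.SU n F q} {π : Equiv.Perm (Fin n)} {d : Fin n → F} (hg : Acts g π d)
    (s : Set (Fin n)) : (FixE n F q s).map (MulAut.conj g).toMonoidHom = FixE n F q (π '' s) := by
  refine le_antisymm ?_ fun h hh => ⟨g⁻¹ * h * g, mem_FixE.2 fun k hk => ?_, by simp [mul_assoc]⟩
  · rintro _ ⟨h, hh, rfl⟩
    exact conj_fixE hg (by rintro _ ⟨j, hj, rfl⟩; exact ⟨j, hj, rfl⟩) hh
  rw [map_mul, map_mul, LinearEquiv.mul_apply, LinearEquiv.mul_apply, hg.single, map_smul,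
    mem_FixE.1 hh _ ⟨k, hk, rfl⟩, ← hg.single, ← LinearEquiv.mul_apply, ← map_mul, inv_mul_cancel, map_one]
  rfl

omit hr in
/-- An element fixing a unit vector preserves the coordinate. -/
theorem coord_fixE {s : Set (Fin n)} {g : Cfsg.SU n F q} (hg : g ∈ FixE n F q s) {k : Fin n} (hk : k ∈ s)
    (v : Fin n → F) : suToLin n F q g v k = v k := by
  have h := suToLin_form hF g v (Pi.single k 1)
  rw [mem_FixE.1 hg k hk, hB_single_right, hB_single_right, one_mul, one_mul, ← frob_apply hF,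
    ← frob_apply hF] at h
  exact (frob hF).injective h

omit hr in
/-- The fixers of complementary coordinate sets commute and meet trivially. -/
theorem fixE_compl {s s' : Set (Fin n)} (h : ∀ k, k ∈ s ∨ k ∈ s') :
    FixE n F q s ⊓ FixE n F q s' = ⊥ ∧
      ∀ a ∈ FixE n F q s, ∀ b ∈ FixE n F q s', a * b = b * a := by
  classical
  refine ⟨eq_bot_iff.2 fun g ⟨hg, hg'⟩ => Subgroup.mem_bot.2 ?_, fun a ha b hb => ?_⟩
  · refine suToLin_injective n (LinearEquiv.ext fun v => funext fun k => ?_)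
    rw [map_one]
    show suToLin n F q g v k = v k
    rcases h k with hk | hk
    · exact coord_fixE hF hg hk v
    · exact coord_fixE hF hg' hk v
  · have key : ∀ (t : Set (Fin n)) (a : Cfsg.SU n F q), a ∈ FixE n F q t → ∀ x : Fin n → F,
        (∀ k ∉ t, x k = 0) → suToLin n F q a x = x := fun t a ha x hx => by
      rw [← Finset.univ_sum_single x, map_sum]
      refine Finset.sum_congr rfl fun k _ => ?_
      by_cases hk : k ∈ t
      · rw [show Pi.single k (x k) = x k • Pi.single k (1 : F) by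
          funext l; simp [Pi.single_apply], map_smul, mem_FixE.1 ha k hk]
      · rw [hx k hk]; simp
    refine suToLin_injective n (LinearEquiv.ext fun v => ?_)
    rw [map_mul, map_mul, LinearEquiv.mul_apply, LinearEquiv.mul_apply]
    set x := suToLin n F q b v - v
    set y := suToLin n F q a v - v
    have hx : suToLin n F q a x = x := key s a ha x fun k hk => by
      simp [x, coord_fixE hF hb ((h k).resolve_left hk) v]
    have hy : suToLin n F q b y = y := key s' b hb y fun k hk => by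
      simp [y, coord_fixE hF ha ((h k).resolve_right hk) v]
    rw [show suToLin n F q b v = v + x from (add_sub_cancel _ _).symm,
      show suToLin n F q a v = v + y from (add_sub_cancel _ _).symm, map_add, map_add, hx, hy]
    simp only [x, y]
    abel

omit hr in
/-- The block `SU 2` inside `SU 4`. -/
theorem nonempty_block :
    Nonempty (↥(Cfsg.SU 2 F q) ≃* ↥(FixE 4 F q {2, 3})) := by
  refine ⟨(MonoidHom.ofInjective (f := (embSU 3 F q).comp (embSU 2 F q))
    (Step.embSU_injective.comp Step.embSU_injective)).trans (MulEquiv.subgroupCongr ?_)⟩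
  have hsn : (Pi.single 2 1 : Fin 4 → F) = Fin.snoc (Step.eLast 2 F) 0 := by
    funext i; fin_cases i <;> simp [Step.eLast, Fin.snoc]
  refine le_antisymm ?_ fun g hg => ?_
  · rintro _ ⟨h, rfl⟩
    refine mem_FixE.2 fun k hk => ?_
    show suToLin 4 F q (embSU 3 F q (embSU 2 F q h)) _ = _
    rcases hk with hk | hk <;> rw [hk]
    · rw [hsn, Step.embSU_apply,
        (show embSU 2 F q h ∈ Fix 3 F q {Step.eLast 2 F} from Step.embSU_range hF ▸ ⟨h, rfl⟩) _ rfl]
    · rw [show (Pi.single 3 1 : Fin 4 → F) = Step.eLast 3 F from (eLast_eq hF 3).symm,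
        (show embSU 3 F q (embSU 2 F q h) ∈ Fix 4 F q {Step.eLast 3 F} from Step.embSU_range hF ▸ ⟨_, rfl⟩) _ rfl]
  · obtain ⟨h, rfl⟩ : g ∈ (embSU 3 F q).range := by
      rw [Step.embSU_range hF]
      intro x hx
      rw [Set.mem_singleton_iff.1 hx, eLast_eq hF]
      exact mem_FixE.1 hg _ (by simp [Fin.last])
    have h2 : h ∈ (embSU 2 F q).range := by
      rw [Step.embSU_range hF]
      intro x hx
      rw [Set.mem_singleton_iff.1 hx]
      have h3 := mem_FixE.1 hg 2 (by simp)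
      rw [hsn, Step.embSU_apply] at h3
      simpa using congrArg Fin.init h3
    obtain ⟨h', rfl⟩ := h2
    exact ⟨h', rfl⟩

omit hr in
/-- A generator of the group of norm one scalars. -/
theorem exists_norm_gen : ∃ ε : F, ε ^ (q + 1) = 1 ∧ ∀ j : ℤ, ε ^ j = 1 → (((q + 1 : ℕ) : ℤ)) ∣ j := by
  obtain ⟨g, hg⟩ := IsCyclic.exists_ofOrder_eq_natCard (α := (powMonoidHom (q + 1) : Fˣ →* Fˣ).ker)
  rw [card_norm_one hF] at hg
  refine ⟨((g : Fˣ) : F), by simpa using congrArg Units.val (MonoidHom.mem_ker.1 g.2), fun j hj => ?_⟩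
  rw [← hg]
  refine orderOf_dvd_iff_zpow_eq_one.2 (Subtype.ext (Units.ext ?_))
  simpa using hj

omit hr in
theorem acts_zpow {g : Cfsg.SU n F q} {d : Fin n → F} (hg : Acts g 1 d) (j : ℤ) :
    Acts (g ^ j) 1 (fun i => d i ^ j) := by
  induction j with
  | zero => simpa using Acts.one (F := F) (q := q) (n := n)
  | succ k ih =>
    rw [zpow_add_one]
    exact (ih.mul hg).of_eq (mul_one 1) fun i => by rw [Equiv.Perm.one_apply, zpow_add_one₀ (hg.ne_zero i)]
  | pred k ih =>
    intro v i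
    have h := (hg (suToLin n F q (g ^ (-(k : ℤ) - 1)) v)) i
    rw [← LinearEquiv.mul_apply, ← map_mul, ← zpow_one_add, show (1 : ℤ) + (-(k : ℤ) - 1) = -k by ring, ih] at h
    simp only [Equiv.Perm.one_apply] at h ⊢
    rw [zpow_sub_one₀ (hg.ne_zero i)]
    have hne := hg.ne_zero i
    field_simp
    linear_combination -h

/-- The fixer of the last vector without a diagonal element. -/
theorem noStem_last {m : ℕ} (hidx : ¬ r ∣ (FixE (m + 1) F q {Fin.last m}).index)
    (hN : NoStemPrime r ↥(Cfsg.SU m F q)) : NoStemPrime r ↥(Cfsg.SU (m + 1) F q) := by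
  obtain ⟨e⟩ := nonempty_fixE_last hF (q := q) m
  exact noStem_of_sub _ hidx (noStem_of_equiv e hN)

/-- The stabiliser of the line of the last vector. -/
theorem noStem_line {m : ℕ} (hm : 0 < m) (hN : NoStemPrime r ↥(Cfsg.SU m F q))
    (hA : AbCop r ↥(Cfsg.SU m F q)) {B : ℕ}
    (hG : Nat.card ↥(Cfsg.SU (m + 1) F q) = Nat.card ↥(Cfsg.SU m F q) * (q + 1) * B) (hB : ¬ r ∣ B) :
    NoStemPrime r ↥(Cfsg.SU (m + 1) F q) := by
  classical
  obtain ⟨e⟩ := nonempty_fixE_last hF (q := q) m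
  obtain ⟨ε, hε, hεj⟩ := exists_norm_gen hF
  set i0 : Fin (m + 1) := ⟨0, by omega⟩
  have hne : i0 ≠ Fin.last m := fun h => by simp [i0, Fin.ext_iff] at h; omega
  obtain ⟨t, ht⟩ := exists_tf (q := q) hF i0 (Fin.last m) hε
  refine noStem_of_cyclicQuot (FixE (m + 1) F q {Fin.last m}) t (noStem_of_equiv e hN)
    (abCop_of_equiv e hA) (fun h hh => conj_fixE ht (fun k hk => ⟨k, hk, rfl⟩) hh) ?_
  refine not_dvd_index_of ?_ hG hB
  rw [Nat.card_congr e.toEquiv]
  refine dvd_card_sup_zpowers _ (fun h hh => conj_fixE ht (fun k hk => ⟨k, hk, rfl⟩) hh) fun j hj => ?_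
  have hA' := acts_zpow hF ht (j : ℤ)
  rw [zpow_natCast] at hA'
  have h1 := mem_FixE.1 hj (Fin.last m) rfl
  rw [hA'.single] at h1
  have h2 := congrFun h1 (Fin.last m)
  simp [tf, hne, Ne.symm hne] at h2
  exact Int.natCast_dvd_natCast.1 (hεj j (by rw [zpow_natCast]; exact h2))

/-- The Levi subgroup `SL 2 F` of `SU 4`. -/
theorem noStem_levi {p : ℕ} [Fact p.Prime] [CharP F p] (hrp : r ≠ p) {B : ℕ}
    (hG : Nat.card ↥(Cfsg.SU 4 F q) = q ^ 2 * ((q ^ 2) ^ 2 - 1) * B) (hB : ¬ r ∣ B) :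
    NoStemPrime r ↥(Cfsg.SU 4 F q) := by
  obtain ⟨Φ, hΦ⟩ := SUDegree.exists_model (m := 2) (ε := 0) hF (n := 4) rfl
  have hmem : ∀ A : SL(2, F), SUDegree.lMat (ε := 0) (frob hF) (A : Matrix (Fin 2) (Fin 2) F)
      ((A⁻¹ : SL(2, F)) : Matrix (Fin 2) (Fin 2) F) 1 ∈ SUDegree.modelSub (frob hF) 2 0 := fun A =>
    SUDegree.lMat_mem (frob_frob hF)
      (by rw [← Matrix.SpecialLinearGroup.coe_mul, mul_inv_cancel, Matrix.SpecialLinearGroup.coe_one])
      (by rw [map_one, mul_one]) (by rw [Matrix.SpecialLinearGroup.det_coe, Matrix.SpecialLinearGroup.det_coe, map_one]; simp)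
  let L : SL(2, F) →* SUDegree.modelSub (frob hF) 2 0 :=
    { toFun := fun A => ⟨_, hmem A⟩
      map_one' := Subtype.ext (by
        show SUDegree.lMat (ε := 0) _ _ _ 1 = (1 : Matrix _ _ F)
        simp [SUDegree.lMat, SUDegree.st_one, Matrix.fromBlocks_one])
      map_mul' := fun A A' => Subtype.ext (by
        show SUDegree.lMat (ε := 0) _ _ _ 1 = SUDegree.lMat (ε := 0) _ _ _ 1 * SUDegree.lMat (ε := 0) _ _ _ 1
        rw [lMat_mul_lMat, mul_one, mul_inv_rev, Matrix.SpecialLinearGroup.coe_mul,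
          Matrix.SpecialLinearGroup.coe_mul]) }
  have hL : Function.Injective L := fun A A' e => Subtype.ext (Matrix.ext fun i j => by
    simpa [L, SUDegree.lMat] using congrArg (fun x : SUDegree.modelSub (frob hF) 2 0 =>
      x.1 (Sum.inl (Sum.inl i)) (Sum.inl (Sum.inl j))) e)
  let f := Φ.comp L
  have hf : Function.Injective f := hΦ.comp hL
  refine noStem_of_sub f.range (not_dvd_index_of ?_ hG hB)
    (noStem_of_equiv (MonoidHom.ofInjective hf) (Cfsg.Lib.Chev.TwMult.noStem_sl_two hr.out hrp))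
  rw [← Nat.card_congr (MonoidHom.ofInjective hf).toEquiv, Cfsg.Lib.Linear.Two.card_SL_two, hF]

/-- The two blocks of `SU 4`, and the dihedral extension at two. -/
theorem noStem_blocks (hrq : ¬ r ∣ q) {B : ℕ} (hB : ¬ r ∣ B)
    (hG : Nat.card ↥(Cfsg.SU 4 F q) = Nat.card ↥(Cfsg.SU 2 F q) * Nat.card ↥(Cfsg.SU 2 F q) * B ∨
      Nat.card ↥(Cfsg.SU 4 F q) =
        Nat.card ↥(Cfsg.SU 2 F q) * Nat.card ↥(Cfsg.SU 2 F q) * (q + 1) * 2 * B) :
    NoStemPrime r ↥(Cfsg.SU 4 F q) := by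
  classical
  obtain ⟨e⟩ := nonempty_block hF (q := q)
  obtain ⟨hN2, hA2⟩ := su_two hF hrq
  obtain ⟨w, hw⟩ := exists_mono (q := q) hF (Equiv.swap (0 : Fin 4) 2 * Equiv.swap 1 3) (fun _ => 1)
    (fun _ => one_pow _) (by
      rw [Equiv.Perm.sign_mul, Equiv.Perm.sign_swap (by decide), Equiv.Perm.sign_swap (by decide)]
      simp)
  obtain ⟨s, hs⟩ := exists_swap (n := 4) (q := q) hF (i := 1) (l := 2) (by decide)
  set π : Equiv.Perm (Fin 4) := Equiv.swap 0 2 * Equiv.swap 1 3 with hπ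
  have hπ0 : π 0 = 2 ∧ π 1 = 3 ∧ π 2 = 0 ∧ π 3 = 1 := by rw [hπ]; decide
  set H₁ := FixE 4 F q {2, 3}
  set H₂ := FixE 4 F q {0, 1}
  set H₃ := FixE 4 F q {1, 3}
  have e₂ : ↥(Cfsg.SU 2 F q) ≃* ↥H₂ := e.trans ((H₁.equivMapOfInjective _ (MulAut.conj w).injective).trans
    (MulEquiv.subgroupCongr (by
      show H₁.map (MulAut.conj w).toMonoidHom = H₂
      rw [map_conj_fixE hw, Set.image_pair, hπ0.2.2.1, hπ0.2.2.2])))
  have e₃ : ↥(Cfsg.SU 2 F q) ≃* ↥H₃ := e.trans ((H₁.equivMapOfInjective _ (MulAut.conj s).injective).trans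
    (MulEquiv.subgroupCongr (by
      show H₁.map (MulAut.conj s).toMonoidHom = H₃
      rw [map_conj_fixE hs, Set.image_pair, Equiv.swap_apply_right,
        Equiv.swap_apply_of_ne_of_ne (by decide) (by decide)])))
  obtain ⟨hdisj, hcomm⟩ := fixE_compl hF (q := q) (s := ({2, 3} : Set (Fin 4))) (s' := {0, 1})
    (fun k => by fin_cases k <;> simp)
  have hcard12 : Nat.card ↥(H₁ ⊔ H₂) = Nat.card ↥(Cfsg.SU 2 F q) * Nat.card ↥(Cfsg.SU 2 F q) := by
    rw [card_sup_of_comm H₁ H₂ hdisj hcomm, ← Nat.card_congr e.toEquiv, ← Nat.card_congr e₂.toEquiv]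
  rcases hG with hG | hG
  · exact noStem_of_pair H₁ H₂ (noStem_of_equiv e hN2) (abCop_of_equiv e hA2) (noStem_of_equiv e₂ hN2)
      (abCop_of_equiv e₂ hA2) hdisj hcomm (not_dvd_index_of (dvd_of_eq hcard12.symm) hG hB)
  obtain ⟨ε, hε, hεj⟩ := exists_norm_gen hF
  have hε0 : ε ≠ 0 := fun h => by rw [h, zero_pow (by omega)] at hε; exact zero_ne_one hε
  obtain ⟨t, ht⟩ := exists_tf (q := q) hF (2 : Fin 4) 0 hε
  have htfix : ∀ s : Set (Fin 4), ∀ h ∈ FixE 4 F q s, t * h * t⁻¹ ∈ FixE 4 F q s := fun s h hh =>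
    conj_fixE ht (fun k hk => ⟨k, hk, rfl⟩) hh
  have ht3 : t ∈ H₃ := mem_FixE.2 fun k hk => by
    refine ht.fixed rfl ?_
    rcases hk with hk | hk <;> rw [hk] <;> simp [tf]
  have hw₁ : ∀ h ∈ H₁, w * h * w⁻¹ ∈ H₂ := fun h hh => conj_fixE hw (fun k hk => by
    rcases hk with hk | hk <;> rw [hk]
    · exact ⟨2, by simp, hπ0.2.2.1⟩
    · exact ⟨3, by simp, hπ0.2.2.2⟩) hh
  have hw₂ : ∀ h ∈ H₂, w * h * w⁻¹ ∈ H₁ := fun h hh => conj_fixE hw (fun k hk => by
    rcases hk with hk | hk <;> rw [hk]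
    · exact ⟨0, by simp, hπ0.1⟩
    · exact ⟨1, by simp, hπ0.2.1⟩) hh
  have hw₃ : ∀ h ∈ H₃, w * h * w⁻¹ ∈ H₃ := fun h hh => conj_fixE hw (fun k hk => by
    rcases hk with hk | hk <;> rw [hk]
    · exact ⟨3, by simp, hπ0.2.2.2⟩
    · exact ⟨1, by simp, hπ0.2.1⟩) hh
  have hwt : w * t * w⁻¹ = t⁻¹ := by
    have hti := acts_zpow hF ht (-1)
    rw [zpow_neg_one] at hti
    refine ht.conj_diag hF hw hti fun k => ?_
    fin_cases k <;> simp [hπ0.1, hπ0.2.1, hπ0.2.2.1, hπ0.2.2.2, tf]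
  -- the diagonal part of the pair of blocks
  have htz : ∀ j : ℤ, t ^ j ∈ H₁ ⊔ H₂ → ε ^ j = 1 := by
    intro j hj
    let f := MonoidHom.noncommCoprod H₁.subtype H₂.subtype fun a b => hcomm a.1 a.2 b.1 b.2
    obtain ⟨⟨a, b⟩, hab⟩ : t ^ j ∈ f.range := by
      rw [show f.range = H₁.subtype.range ⊔ H₂.subtype.range from MonoidHom.noncommCoprod_range _ _ _,
        range_subtype, range_subtype]
      exact hj
    have hab' : (a : Cfsg.SU 4 F q) * b = t ^ j := hab
    have hT := acts_zpow hF ht j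
    have hTd : ∀ k, tf (2 : Fin 4) 0 ε k ^ j = if k = 0 then ε ^ j else if k = 2 then (ε⁻¹) ^ j else 1 := by
      intro k
      fin_cases k <;> simp [tf]
    have haA : Acts (a : Cfsg.SU 4 F q) 1 (fun k => if k = 0 then ε ^ j else 1) := by
      have hsingle : ∀ k : Fin 4, suToLin 4 F q a (Pi.single k 1) =
          (if k = 0 then ε ^ j else 1) • Pi.single k (1 : F) := by
        intro k
        by_cases hk : k = 0 ∨ k = 1
        · have h1 := hT.single k
          rw [← hab', map_mul, LinearEquiv.mul_apply, mem_FixE.1 b.2 k (by simpa using hk), hTd,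
            Equiv.Perm.one_apply] at h1
          rcases hk with rfl | rfl <;> simpa using h1
        · push Not at hk
          rw [mem_FixE.1 a.2 k (by revert hk; fin_cases k <;> simp), if_neg hk.1, one_smul]
      intro v k
      have hlin : suToLin 4 F q a v = ∑ l, v l • suToLin 4 F q a (Pi.single l 1) := by
        conv_lhs => rw [← Finset.univ_sum_single v]
        rw [map_sum]
        refine Finset.sum_congr rfl fun l _ => ?_
        rw [← map_smul]
        congr 1
        funext i; simp [Pi.single_apply]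
      rw [hlin]
      simp only [Finset.sum_apply, hsingle, Pi.smul_apply, smul_eq_mul, Pi.single_apply, Equiv.Perm.one_apply]
      rw [Finset.sum_eq_single k (fun l _ hl => by simp [Ne.symm hl]) (by simp), if_pos rfl]
      ring
    have h := haA.prod_eq
    simpa [Fin.prod_univ_four] using h
  have htz' : ∀ j : ℤ, t ^ j ∈ H₁ ⊔ H₂ → t ^ j = 1 := fun j hj => by
    refine (acts_zpow hF ht j).unique (Acts.one.of_eq rfl fun k => ?_)
    fin_cases k <;> simp [tf, htz j hj]
  refine noStem_of_dihedral H₁ H₂ H₃ t w (noStem_of_equiv e hN2) (abCop_of_equiv e hA2)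
    (noStem_of_equiv e₂ hN2) (abCop_of_equiv e₂ hA2) (noStem_of_equiv e₃ hN2) (abCop_of_equiv e₃ hA2)
    hdisj hcomm (htfix _) (htfix _) ht3 htz' hw₁ hw₂ hw₃ hwt (not_dvd_index_of ?_ hG hB)
  rw [← sup_assoc, ← hcard12]
  have h1 : Nat.card ↥(H₁ ⊔ H₂) * (q + 1) ∣ Nat.card ↥(H₁ ⊔ H₂ ⊔ zpowers t) := by
    refine dvd_card_sup_zpowers _ (fun x hx => ?_) fun j hj => ?_
    · have hle : H₁ ⊔ H₂ ≤ (H₁ ⊔ H₂).comap (MulAut.conj t).toMonoidHom :=
        sup_le (fun h hh => mem_sup_left (htfix _ h hh)) (fun h hh => mem_sup_right (htfix _ h hh))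
      exact hle hx
    · exact Int.natCast_dvd_natCast.1 (hεj j (htz j (by rw [zpow_natCast]; exact hj)))
  refine (mul_dvd_mul_right h1 2).trans (dvd_card_sup_zpowers _ (fun x hx => ?_) fun j hj => ?_)
  · have hle : H₁ ⊔ H₂ ⊔ zpowers t ≤ (H₁ ⊔ H₂ ⊔ zpowers t).comap (MulAut.conj w).toMonoidHom := by
      refine sup_le (sup_le (fun h hh => ?_) (fun h hh => ?_)) (zpowers_le.2 ?_)
      · exact mem_sup_left (mem_sup_right (hw₁ h hh))
      · exact mem_sup_left (mem_sup_left (hw₂ h hh))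
      · refine mem_comap.2 ?_
        show w * t * w⁻¹ ∈ H₁ ⊔ H₂ ⊔ zpowers t
        rw [hwt]; exact mem_sup_right (inv_mem (mem_zpowers t))
    exact hle hx
  · -- `w` moves the first plane
    by_contra hodd
    have hw2 : w * w = 1 := ((hw.mul hw).of_eq (show π * π = 1 by rw [hπ]; decide)
      (fun _ => one_mul 1)).unique Acts.one
    have hwM : w ∈ H₁ ⊔ H₂ ⊔ zpowers t := by
      obtain ⟨k, rfl⟩ : Odd j := Nat.not_even_iff_odd.1 fun h => hodd (even_iff_two_dvd.1 h)
      rwa [pow_succ, pow_mul, pow_two, hw2, one_pow, one_mul] at hj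
    let W : Submodule F (Fin 4 → F) := LinearMap.ker (LinearMap.proj (2 : Fin 4)) ⊓ LinearMap.ker (LinearMap.proj (3 : Fin 4))
    let Q : Subgroup (Cfsg.SU 4 F q) :=
      { carrier := {g | ∀ v, v ∈ W ↔ suToLin 4 F q g v ∈ W}
        one_mem' := fun v => by rw [map_one]; rfl
        mul_mem' := fun {a b} ha hb v => by rw [map_mul, LinearEquiv.mul_apply, ← ha, ← hb]
        inv_mem' := fun {a} ha v => by
          rw [ha (suToLin 4 F q a⁻¹ v), ← LinearEquiv.mul_apply, ← map_mul, mul_inv_cancel, map_one]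
          rfl }
    have hMQ : H₁ ⊔ H₂ ⊔ zpowers t ≤ Q := by
      have hW : ∀ v, v ∈ W ↔ v 2 = 0 ∧ v 3 = 0 := fun v => Iff.rfl
      refine sup_le (sup_le (fun g hg v => ?_) (fun g hg v => ?_)) (zpowers_le.2 fun v => ?_)
      · rw [hW, hW, coord_fixE hF hg (by simp) v, coord_fixE hF hg (by simp) v]
      · have hsub : ∀ g ∈ H₂, ∀ v ∈ W, suToLin 4 F q g v = v := fun g hg v hv => by
          rw [hW] at hv
          rw [← Finset.univ_sum_single v, map_sum]
          refine Finset.sum_congr rfl fun k _ => ?_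
          rw [show Pi.single k (v k) = v k • Pi.single k (1 : F) by funext l; simp [Pi.single_apply], map_smul]
          fin_cases k
          · rw [mem_FixE.1 hg _ (by simp)]
          · rw [mem_FixE.1 hg _ (by simp)]
          · simp [hv.1]
          · simp [hv.2]
        refine ⟨fun hv => by rw [hsub g hg v hv]; exact hv, fun hv => ?_⟩
        have h1 := hsub g⁻¹ (inv_mem hg) _ hv
        rw [← LinearEquiv.mul_apply, ← map_mul, inv_mul_cancel, map_one] at h1
        change v = suToLin 4 F q g v at h1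
        rwa [h1]
      · have h2 := ht v 2
        have h3 := ht v 3
        simp [tf] at h2 h3
        rw [hW, hW, h2, h3]
        simp [hε0]
    have h1 : (Pi.single 0 1 : Fin 4 → F) ∈ W := ⟨by simp, by simp⟩
    have h2 := ((hMQ hwM) _).1 h1
    rw [hw.single, hπ0.1] at h2
    simpa using h2.1

end Cfsg.Lib.UnitMult.Cross
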