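import Cfsg.Agent.Lib.UnitMult.StepStab
import Cfsg.Agent.Lib.UnitMult.CrossTools

/-!
# Monomial subgroups of `SU`

The diagonal torus, monomial elements, and the absence of stem extensions of odd prime order
dividing `q + 1` when a monomial subgroup has coprime index.
-/

set_option autoImplicit false

namespace Cfsg.Lib.UnitMult.Cross

open Subgroup Cfsg.Lib.Linear Cfsg.Lib.Linear.Herm
open Cfsg.Lib.Chev.TwMult (NoStemPrime)
open Cfsg.Lib.UnitMult.Step (suToLin_form)
open scoped Matrix commutatorElement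

universe u

variable {F : Type u} [Field F] [Fintype F] {q n : ℕ}

/-- `g` maps the `i`-th unit vector to `d i` times the `π i`-th one. -/
def Acts (g : Cfsg.SU n F q) (π : Equiv.Perm (Fin n)) (d : Fin n → F) : Prop :=
  ∀ v i, suToLin n F q g v (π i) = d i * v i

omit [Fintype F] in
theorem Acts.mul {g h : Cfsg.SU n F q} {π ρ : Equiv.Perm (Fin n)} {d e : Fin n → F} (hg : Acts g π d)
    (hh : Acts h ρ e) : Acts (g * h) (π * ρ) (fun i => d (ρ i) * e i) := fun v i => by
  rw [map_mul, LinearEquiv.mul_apply, Equiv.Perm.mul_apply, hg, hh, mul_assoc]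

omit [Fintype F] in
theorem Acts.one : Acts (1 : Cfsg.SU n F q) 1 (fun _ => 1) := fun v i => by
  rw [map_one, one_mul]; rfl

theorem Acts.unique {g h : Cfsg.SU n F q} {π : Equiv.Perm (Fin n)} {d : Fin n → F} (hg : Acts g π d)
    (hh : Acts h π d) : g = h := suToLin_injective n (LinearEquiv.ext fun v => funext fun i => by
  have h1 := hg v (π.symm i)
  have h2 := hh v (π.symm i)
  rw [Equiv.apply_symm_apply] at h1 h2
  rw [h1, h2])

omit [Fintype F] in
theorem Acts.of_eq {g : Cfsg.SU n F q} {π π' : Equiv.Perm (Fin n)} {d d' : Fin n → F} (hg : Acts g π d)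
    (hπ : π = π') (hd : ∀ i, d i = d' i) : Acts g π' d' := fun v i => by rw [← hπ, hg, hd]

omit [Fintype F] in
theorem Acts.single {g : Cfsg.SU n F q} {π : Equiv.Perm (Fin n)} {d : Fin n → F} (hg : Acts g π d)
    (i : Fin n) : suToLin n F q g (Pi.single i 1) = d i • Pi.single (π i) 1 := funext fun j => by
  obtain ⟨l, rfl⟩ := π.surjective j
  rw [hg, Pi.smul_apply, smul_eq_mul]
  by_cases h : l = i
  · subst h; simp
  · simp [h]

omit [Fintype F] in
theorem Acts.ne_zero {g : Cfsg.SU n F q} {π : Equiv.Perm (Fin n)} {d : Fin n → F} (hg : Acts g π d)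
    (i : Fin n) : d i ≠ 0 := fun h => by
  have h1 : suToLin n F q g (Pi.single i 1) = 0 := by rw [hg.single, h, zero_smul]
  simpa using congrFun ((LinearEquiv.map_eq_zero_iff _).1 h1) i

omit [Fintype F] in
theorem Acts.perm_eq {g : Cfsg.SU n F q} {π ρ : Equiv.Perm (Fin n)} {d e : Fin n → F} (hg : Acts g π d)
    (hg' : Acts g ρ e) : π = ρ := Equiv.ext fun i => by
  by_contra h
  have h1 := hg.single i
  rw [hg'.single i] at h1
  have h2 := congrFun h1 (π i)
  simp [Pi.single_apply, h, eq_comm (a := (0 : F))] at h2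
  exact hg.ne_zero i h2

theorem Acts.norm_one (hF : Fintype.card F = q ^ 2) {g : Cfsg.SU n F q} {π : Equiv.Perm (Fin n)}
    {d : Fin n → F} (hg : Acts g π d) (i : Fin n) : d i ^ (q + 1) = 1 := by
  have h := suToLin_form hF g (Pi.single i 1) (Pi.single i 1)
  rw [hg.single, hB_single_right, map_smul, LinearMap.map_smulₛₗ, LinearMap.smul_apply, hB_single_right,
    smul_eq_mul, smul_eq_mul, frob_apply] at h
  simp only [Pi.single_eq_same, one_pow, mul_one] at h
  rw [pow_succ', h]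

omit [Fintype F] in
theorem Acts.prod_eq {g : Cfsg.SU n F q} {d : Fin n → F} (hg : Acts g 1 d) : ∏ i, d i = 1 := by
  have hM : (g : Matrix.SpecialLinearGroup (Fin n) F).1 = Matrix.diagonal d :=
    Matrix.ext_of_mulVec_single fun i => by
      show suToLin n F q g (Pi.single i 1) = _
      rw [hg.single, Matrix.mulVec_single_one]
      funext j
      simp [Pi.single_apply, Matrix.diagonal, Equiv.Perm.one_apply, eq_comm]
      split_ifs with h
      · rw [h]
      · rfl
  rw [← Matrix.det_diagonal, ← hM]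
  exact (g : Matrix.SpecialLinearGroup (Fin n) F).2

theorem exists_mono (hF : Fintype.card F = q ^ 2) (π : Equiv.Perm (Fin n)) (d : Fin n → F)
    (hd : ∀ i, d i ^ (q + 1) = 1) (hdet : ((Equiv.Perm.sign π : ℤ) : F) * ∏ i, d i = 1) :
    ∃ g : Cfsg.SU n F q, Acts g π d := by
  let M : Matrix (Fin n) (Fin n) F := (Matrix.diagonal d).submatrix π.symm id
  have hM : ∀ v i, (M *ᵥ v) (π i) = d i * v i := fun v i => by
    simp [M, Matrix.mulVec, dotProduct, Matrix.diagonal, Finset.sum_ite_eq]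
  have hdetM : M.det = 1 := by
    rw [show M = (Matrix.diagonal d).submatrix π.symm id from rfl, Matrix.det_permute, Equiv.Perm.sign_symm,
      Matrix.det_diagonal, hdet]
  refine ⟨⟨⟨M, hdetM⟩, fun u v => ?_⟩, hM⟩
  show Cfsg.hermForm n F q (M *ᵥ u) (M *ᵥ v) = Cfsg.hermForm n F q u v
  rw [Cfsg.hermForm, ← Equiv.sum_comp π]
  refine Finset.sum_congr rfl fun i _ => ?_
  rw [hM, hM, mul_pow]
  calc d i * u i * (d i ^ q * v i ^ q) = d i ^ (q + 1) * (u i * v i ^ q) := by ring
    _ = _ := by rw [hd, one_mul]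

/-- The diagonal torus. -/
def torus (n : ℕ) (F : Type u) [Field F] (q : ℕ) : Subgroup (Cfsg.SU n F q) where
  carrier := {g | ∃ d, Acts g 1 d}
  one_mem' := ⟨_, Acts.one⟩
  mul_mem' := by rintro g h ⟨d, hd⟩ ⟨e, he⟩; exact ⟨_, (hd.mul he).of_eq (mul_one 1) fun _ => rfl⟩
  inv_mem' := by
    rintro g ⟨d, hd⟩
    refine ⟨fun i => (d i)⁻¹, fun v i => ?_⟩
    have h := hd (suToLin n F q g⁻¹ v) i
    rw [← LinearEquiv.mul_apply, ← map_mul, mul_inv_cancel, map_one] at h
    change v i = d i * suToLin n F q g⁻¹ v i at h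
    rw [h, inv_mul_cancel_left₀ (hd.ne_zero i)]
    rfl

/-- The entries of a generator of the torus. -/
noncomputable def tf (l i : Fin n) (u : F) : Fin n → F :=
  fun k => (Pi.mulSingle i u : Fin n → F) k * (Pi.mulSingle l u⁻¹ : Fin n → F) k

omit [Fintype F] in
theorem prod_tf (l i : Fin n) {u : F} (hu : u ≠ 0) : ∏ k, tf l i u k = 1 := by
  simp [tf, Finset.prod_mul_distrib, hu]

omit [Fintype F] in
theorem tf_norm (l i : Fin n) {u : F} (hu : u ^ (q + 1) = 1) (k : Fin n) : tf l i u k ^ (q + 1) = 1 := by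
  simp only [tf, Pi.mulSingle_apply]
  split_ifs <;> simp [mul_pow, hu, inv_pow]

theorem exists_tf (hF : Fintype.card F = q ^ 2) (l i : Fin n) {u : F} (hu : u ^ (q + 1) = 1) :
    ∃ g : Cfsg.SU n F q, Acts g 1 (tf l i u) := by
  refine exists_mono hF 1 _ (tf_norm l i hu) ?_
  rw [prod_tf l i (fun h => by rw [h, zero_pow (by omega)] at hu; exact zero_ne_one hu)]
  simp

theorem torus_eq_closure (hF : Fintype.card F = q ^ 2) (l : Fin n) :
    torus n F q = Subgroup.closure {g | ∃ i u, Acts g 1 (tf l i u)} := by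
  classical
  refine le_antisymm ?_ ((Subgroup.closure_le _).2 fun g ⟨i, u, h⟩ => ⟨_, h⟩)
  rintro g ⟨d, hd⟩
  suffices h : ∀ s : Finset (Fin n), ∃ h ∈ Subgroup.closure {g : Cfsg.SU n F q | ∃ i u, Acts g 1 (tf l i u)},
      Acts h 1 (fun k => ∏ i ∈ s, tf l i (d i) k) by
    obtain ⟨h, hh, hA⟩ := h Finset.univ
    have hk : ∀ k, ∏ i, tf l i (d i) k = d k := fun k => by
      simp only [tf, Finset.prod_mul_distrib, Pi.mulSingle_apply, Finset.prod_ite_eq, Finset.mem_univ, if_true]
      by_cases hkl : k = l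
      · simp [hkl, Finset.prod_inv_distrib, hd.prod_eq]
      · simp [hkl]
    rwa [hd.unique (hA.of_eq rfl hk)]
  intro s
  induction s using Finset.induction_on with
  | empty => exact ⟨1, one_mem _, Acts.one.of_eq rfl fun k => by simp⟩
  | insert a s ha ih =>
    obtain ⟨h, hh, hA⟩ := ih
    obtain ⟨g', hg'⟩ := exists_tf hF l a (hd.norm_one hF a)
    exact ⟨g' * h, mul_mem (Subgroup.subset_closure ⟨a, _, hg'⟩) hh,
      (hg'.mul hA).of_eq (mul_one 1) fun k => by simp [Finset.prod_insert ha]⟩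

theorem card_torus_dvd (hF : Fintype.card F = q ^ 2) (m : ℕ) :
    (q + 1) ^ m ∣ Nat.card (torus (m + 1) F q) := by
  classical
  let N1 := (powMonoidHom (q + 1) : Fˣ →* Fˣ).ker
  have hN : ∀ x : N1, ((x.1 : Fˣ) : F) ^ (q + 1) = 1 := fun x => by
    have := congrArg Units.val (MonoidHom.mem_ker.1 x.2)
    simpa using this
  let D : (Fin m → N1) → Fin (m + 1) → F := fun x =>
    Fin.snoc (fun i => ((x i).1 : F)) (∏ i, ((x i).1 : F))⁻¹
  have hex : ∀ x, ∃ g : Cfsg.SU (m + 1) F q, Acts g 1 (D x) := fun x => by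
    refine exists_mono hF 1 _ (fun i => ?_) ?_
    · induction i using Fin.lastCases with
      | last => simp [D, inv_pow, ← Finset.prod_pow, hN]
      | cast j => simp [D, hN]
    · have hne : ∏ i, ((x i).1 : F) ≠ 0 := Finset.prod_ne_zero_iff.2 fun i _ => Units.ne_zero _
      simp [D, Fin.prod_univ_castSucc, mul_inv_cancel₀ hne]
  choose g hg using hex
  let f : (Fin m → N1) →* Cfsg.SU (m + 1) F q := MonoidHom.mk' g fun x y =>
    ((hg (x * y)).unique (((hg x).mul (hg y)).of_eq (mul_one 1) fun i => by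
      induction i using Fin.lastCases with
      | last => simp [D, Finset.prod_mul_distrib, mul_inv, mul_comm]
      | cast j => simp [D]))
  have hinj : Function.Injective f := fun x y e => funext fun i => by
    have h1 := (hg x).single i.castSucc
    rw [show g x = g y from e, (hg y).single] at h1
    have h2 := congrFun h1 i.castSucc
    simp [D] at h2
    exact Subtype.ext (Units.ext h2.symm)
  have hle : f.range ≤ torus (m + 1) F q := by rintro _ ⟨x, rfl⟩; exact ⟨_, hg x⟩
  refine dvd_trans (dvd_of_eq ?_) (card_dvd_of_le hle)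
  rw [← Nat.card_congr (MonoidHom.ofInjective hinj).toEquiv, Nat.card_fun, card_norm_one hF, Nat.card_fin]

variable (hF : Fintype.card F = q ^ 2)
include hF

/-- A monomial transposition. -/
theorem exists_swap {i l : Fin n} (h : i ≠ l) :
    ∃ g : Cfsg.SU n F q, Acts g (Equiv.swap i l) (Pi.mulSingle l (-1)) := by
  refine exists_mono hF _ _ (fun k => ?_) ?_
  · simp only [Pi.mulSingle_apply]
    split_ifs
    · rw [pow_succ, ← frob_apply hF, map_neg, map_one, neg_mul_neg, one_mul]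
    · rw [one_pow]
  · rw [Equiv.Perm.sign_swap h, Fintype.prod_pi_mulSingle']
    simp

/-- Conjugation of a diagonal element by a monomial one. -/
theorem Acts.conj_diag {g s : Cfsg.SU n F q} {π : Equiv.Perm (Fin n)} {d e : Fin n → F} (hg : Acts g 1 d)
    (hs : Acts s π e) {h : Cfsg.SU n F q} {d' : Fin n → F} (hh : Acts h 1 d')
    (hd : ∀ i, d' (π i) = d i) : s * g * s⁻¹ = h := by
  rw [mul_inv_eq_iff_eq_mul]
  exact ((hs.mul hg).of_eq (mul_one π) fun _ => rfl).unique (((hh.mul hs).of_eq (one_mul π) fun i => by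
    show d' (π i) * e i = e i * d i
    rw [hd, mul_comm]).of_eq rfl fun i => by rw [Equiv.Perm.one_apply])

section Lifts

variable {Γ : Type u} [Group Γ] {r : ℕ} [hr : Fact r.Prime] {σ : Γ →* Cfsg.SU n F q}
  (hs : Function.Surjective σ) (hc : σ.ker ≤ center Γ) (hcard : Nat.card σ.ker = r) (hr2 : r ≠ 2)
include hs hc hcard hr2

omit hF hs hc in
theorem eq_one_of_inv {z : Γ} (hz : z ∈ σ.ker) (h : z = z⁻¹) : z = 1 :=
  ker_eq_one hcard hz ((Nat.coprime_primes hr.out Nat.prime_two).2 hr2)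
    (by rw [pow_two]; nth_rw 2 [h]; rw [mul_inv_cancel])

omit hr2 in
/-- Lifts of the torus elements attached to one coordinate commute. -/
theorem comm_same {l i : Fin n} {u v : F} {A B : Γ} (hA : Acts (σ A) 1 (tf l i u))
    (hB : Acts (σ B) 1 (tf l i v)) (hu : u ^ (q + 1) = 1) (hv : v ^ (q + 1) = 1) : Commute A B := by
  classical
  let N1 := (powMonoidHom (q + 1) : Fˣ →* Fˣ).ker
  have hN : ∀ x : N1, ((x.1 : Fˣ) : F) ^ (q + 1) = 1 := fun x => by
    have := congrArg Units.val (MonoidHom.mem_ker.1 x.2)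
    simpa using this
  choose g hg using fun x : N1 => exists_tf (q := q) hF l i (hN x)
  let f : N1 →* Cfsg.SU n F q := MonoidHom.mk' g fun x y =>
    (hg (x * y)).unique (((hg x).mul (hg y)).of_eq (mul_one 1) fun k => by
      simp only [Equiv.Perm.one_apply, tf, Pi.mulSingle_apply, Subgroup.coe_mul, Units.val_mul]
      split_ifs <;> simp [mul_inv, mul_comm] <;> field_simp)
  let E := f.range.comap σ
  have hmem : ∀ (w : F) (C : Γ), w ^ (q + 1) = 1 → Acts (σ C) 1 (tf l i w) → C ∈ E := by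
    intro w C hw hC
    have hw0 : w ≠ 0 := fun h => by rw [h, zero_pow (by omega)] at hw; exact zero_ne_one hw
    refine ⟨⟨Units.mk0 w hw0, ?_⟩, ((hg _).unique hC)⟩
    rw [MonoidHom.mem_ker]
    exact Units.ext (by simpa using hw)
  let τ : ↥E →* ↥f.range := (σ.comp E.subtype).codRestrict f.range fun y => y.2
  have hk : τ.ker ≤ center ↥E := fun y hy => mem_center_iff.2 fun x =>
    Subtype.ext (mem_center_iff.1 (hc (congrArg Subtype.val hy)) x)
  haveI : IsCyclic ↥f.range := isCyclic_of_surjective f.rangeRestrict f.rangeRestrict_surjective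
  have hcomm := MonoidHom.isMulCommutative_of_isCyclic_of_ker_le_center τ hk
  exact congrArg Subtype.val (hcomm.is_comm.comm ⟨A, hmem u A hu hA⟩ ⟨B, hmem v B hv hB⟩)

/-- Lifts of the torus commute. -/
theorem torus_comm (l : Fin n) : ∀ a ∈ (torus n F q).comap σ, ∀ b ∈ (torus n F q).comap σ, Commute a b := by
  classical
  have hgen : ∀ i j u v (A B : Γ), Acts (σ A) 1 (tf l i u) → Acts (σ B) 1 (tf l j v) → Commute A B := by
    intro i j u v A B hA hB
    have hu0 : i = l ∨ u ^ (q + 1) = 1 := by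
      by_cases hi : i = l
      · exact Or.inl hi
      · right; have := hA.norm_one hF i; simpa [tf, hi, Ne.symm hi] using this
    have hv0 : j = l ∨ v ^ (q + 1) = 1 := by
      by_cases hi : j = l
      · exact Or.inl hi
      · right; have := hB.norm_one hF j; simpa [tf, hi, Ne.symm hi] using this
    have htriv : ∀ (A : Γ) (u : F), Acts (σ A) 1 (tf l l u) → ∀ x : Γ, Commute A x := fun A u hA x => by
      have hker : A ∈ σ.ker := by
        refine MonoidHom.mem_ker.2 (hA.unique (Acts.one.of_eq rfl fun k => ?_))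
        by_cases hu : u = 0
        · have := hA.ne_zero l; simp [tf, hu] at this
        · simp only [tf, Pi.mulSingle_apply]; split_ifs <;> simp [hu]
      exact (mem_center_iff.1 (hc hker) x).symm
    rcases eq_or_ne i l with hi | hi
    · exact htriv A u (hi ▸ hA) B
    rcases eq_or_ne j l with hj | hj
    · exact (htriv B v (hj ▸ hB) A).symm
    have hu := hu0.resolve_left hi
    have hv := hv0.resolve_left hj
    rcases eq_or_ne i j with hij | hij
    · exact comm_same hF hs hc hcard hA (hij.symm ▸ hB) hu hv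
    obtain ⟨s, hs'⟩ := exists_swap (q := q) hF hi
    obtain ⟨S, rfl⟩ := hs s
    have hv' : v⁻¹ ^ (q + 1) = 1 := by rw [inv_pow, hv, inv_one]
    obtain ⟨c, hc'⟩ := exists_tf (q := q) hF l i hv'
    obtain ⟨C, rfl⟩ := hs c
    have hAi : Acts (σ A⁻¹) 1 (tf l i u⁻¹) := by
      rw [map_inv]
      obtain ⟨a', ha'⟩ := exists_tf (q := q) hF l i (u := u⁻¹) (by rw [inv_pow, hu, inv_one])
      rw [inv_eq_of_mul_eq_one_right ((hA.mul ha').unique (Acts.one.of_eq (mul_one 1).symm fun k => ?_))]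
      · exact ha'
      · have hu1 : u ≠ 0 := fun h => by rw [h, zero_pow (by omega)] at hu; exact zero_ne_one hu
        simp only [Equiv.Perm.one_apply, tf, Pi.mulSingle_apply]
        split_ifs <;> simp [hu1]
    have e1 : σ (S * A * S⁻¹) = σ A⁻¹ := by
      rw [map_mul, map_mul, map_inv σ S]
      refine hA.conj_diag hF hs' hAi fun k => ?_
      simp only [tf, Pi.mulSingle_apply, Equiv.swap_apply_def]
      split_ifs <;> simp_all
    have e2 : σ (S * B * S⁻¹) = σ (B * C) := by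
      rw [map_mul, map_mul, map_inv, map_mul]
      refine hB.conj_diag hF hs' ((hB.mul hc').of_eq (mul_one 1) fun _ => rfl) fun k => ?_
      simp only [tf, Pi.mulSingle_apply, Equiv.swap_apply_def, Equiv.Perm.one_apply]
      have hv1 : v⁻¹ * v = 1 := inv_mul_cancel₀ fun h => by
        rw [h, zero_pow (by omega)] at hv; exact zero_ne_one hv
      split_ifs <;> simp_all
    have hCA : Commute A⁻¹ C := comm_same hF hs hc hcard hAi hc' (by rw [inv_pow, hu, inv_one]) hv'
    have hz : ⁅A, B⁆ ∈ σ.ker := by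
      rw [MonoidHom.mem_ker, map_commutatorElement, commutatorElement_eq_one_iff_mul_comm]
      exact ((hA.mul hB).of_eq rfl fun k => by simp [mul_comm]).unique (hB.mul hA)
    have hS : S * ⁅A, B⁆ * S⁻¹ = ⁅A, B⁆ := by
      rw [mem_center_iff.1 (hc hz) S, mul_inv_cancel_right]
    obtain ⟨k₁, hk₁, e1'⟩ : ∃ k ∈ σ.ker, S * A * S⁻¹ = A⁻¹ * k :=
      ⟨(A⁻¹)⁻¹ * (S * A * S⁻¹), by rw [MonoidHom.mem_ker, map_mul, map_inv, e1, inv_mul_cancel],
        (mul_inv_cancel_left _ _).symm⟩
    obtain ⟨k₂, hk₂, e2'⟩ : ∃ k ∈ σ.ker, S * B * S⁻¹ = B * C * k :=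
      ⟨(B * C)⁻¹ * (S * B * S⁻¹), by rw [MonoidHom.mem_ker, map_mul, map_inv, e2, inv_mul_cancel],
        (mul_inv_cancel_left _ _).symm⟩
    have h3 : ⁅A, B⁆ = ⁅A, B⁆⁻¹ := by
      calc ⁅A, B⁆ = S * ⁅A, B⁆ * S⁻¹ := hS.symm
        _ = ⁅S * A * S⁻¹, S * B * S⁻¹⁆ := by simp only [commutatorElement_def]; group
        _ = ⁅A⁻¹, B * C⁆ := by rw [e1', e2', Cfsg.Lib.Chev.comm_mul_central (hc hk₁) (hc hk₂)]
        _ = ⁅A⁻¹, B⁆ * (B * ⁅A⁻¹, C⁆ * B⁻¹) := by simp only [commutatorElement_def]; group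
        _ = A⁻¹ * ⁅A, B⁆⁻¹ * A⁻¹⁻¹ := by
          rw [commutatorElement_eq_one_iff_mul_comm.2 hCA.eq]; simp only [commutatorElement_def]; group
        _ = ⁅A, B⁆⁻¹ := by rw [mem_center_iff.1 (hc (inv_mem hz)) A⁻¹, mul_inv_cancel_right]
    exact commutatorElement_eq_one_iff_mul_comm.1 (eq_one_of_inv hcard hr2 hz h3)
  have hE : (torus n F q).comap σ =
      Subgroup.closure ({A : Γ | ∃ i u, Acts (σ A) 1 (tf l i u)} ∪ σ.ker) := by
    rw [torus_eq_closure hF l, ← comap_closure_eq]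
    congr 2
    ext g
    exact ⟨fun hg => by obtain ⟨A, rfl⟩ := hs g; exact ⟨A, hg, rfl⟩, by rintro ⟨A, hA, rfl⟩; exact hA⟩
  intro a ha b hb
  haveI : Finite Γ ∨ True := Or.inr trivial
  have h1 : (torus n F q).comap σ ≤ centralizer ({A : Γ | ∃ i u, Acts (σ A) 1 (tf l i u)} ∪ σ.ker : Set Γ) := by
    rw [hE, Subgroup.closure_le]
    rintro x hx
    refine mem_centralizer_iff.2 fun y hy => ?_
    rcases hy with ⟨j, v, hy⟩ | hy
    · rcases hx with ⟨i, u, hx⟩ | hx
      · exact (hgen j i v u y x hy hx).eq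
      · exact mem_center_iff.1 (hc hx) y
    · exact (mem_center_iff.1 (hc hy) x).symm
  have h2 : (torus n F q).comap σ ≤ centralizer ((torus n F q).comap σ : Set Γ) := by
    conv_lhs => rw [hE]
    rw [Subgroup.closure_le]
    exact fun x hx => mem_centralizer_iff.2 fun y hy => (mem_centralizer_iff.1 (h1 hy) x hx).symm
  exact mem_centralizer_iff.1 (h2 hb) a ha

end Lifts

/-- The torus has coprime index: no stem extension of odd prime order. -/
theorem noStem_of_torus {r : ℕ} [Fact r.Prime] (hr2 : r ≠ 2) (l : Fin n)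
    (hidx : ¬ r ∣ (torus n F q).index) : NoStemPrime r ↥(Cfsg.SU n F q) := by
  intro Γ _ _ σ hs hc hcard
  refine not_le_of_meet hs hc hcard _ hidx ?_
  have h := torus_comm hF hs hc hcard hr2 l
  rw [(commutator_eq_bot_iff_le_centralizer (H₁ := (torus n F q).comap σ) (H₂ := (torus n F q).comap σ)).2
    fun a ha => mem_centralizer_iff.2 fun b hb => (h b hb a ha).eq, bot_inf_eq]

/-- The torus extended by a permutation inverted by a monomial element has coprime index. -/
theorem noStem_of_mono {r : ℕ} [Fact r.Prime] (hr2 : r ≠ 2) (l : Fin n) {c s : Cfsg.SU n F q}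
    {π ρ : Equiv.Perm (Fin n)} {e : Fin n → F} (hcA : Acts c π fun _ => 1) (hsA : Acts s ρ e)
    (he : ∀ i, e (π i) = e i) (hconj : ρ * π = π⁻¹ * ρ) (horb : ∀ i, ∃ k : ℕ, ρ i = (π ^ k) i)
    (hidx : ¬ r ∣ (torus n F q ⊔ zpowers c).index) : NoStemPrime r ↥(Cfsg.SU n F q) := by
  intro Γ _ _ σ hs hc hcard
  refine not_le_of_meet hs hc hcard _ hidx ?_
  obtain ⟨C, rfl⟩ := hs c
  obtain ⟨S, rfl⟩ := hs s
  set E := (torus n F q).comap σ with hE
  have hab := torus_comm hF hs hc hcard hr2 l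
  have hnorm : ∀ x ∈ E, C * x * C⁻¹ ∈ E := fun x hx => by
    obtain ⟨d, hd⟩ := (hx : σ x ∈ torus n F q)
    obtain ⟨h, hh⟩ := exists_mono hF 1 (fun i => d (π.symm i)) (fun i => hd.norm_one hF _) (by
      rw [Equiv.Perm.sign_one, Equiv.prod_comp π.symm d, hd.prod_eq]; simp)
    show σ (C * x * C⁻¹) ∈ torus n F q
    rw [map_mul, map_mul, map_inv, hd.conj_diag hF hcA hh fun i => by simp]
    exact ⟨_, hh⟩
  let ψ : ↥E →* Γ := MonoidHom.mk' (fun x => ⁅C, (x : Γ)⁆) fun x y => by
    have h1 : Commute ((C * (y : Γ) * C⁻¹)) (x : Γ)⁻¹ := hab _ (hnorm _ y.2) _ (inv_mem x.2)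
    have h2 : Commute ((x : Γ)⁻¹) (y : Γ)⁻¹ := hab _ (inv_mem x.2) _ (inv_mem y.2)
    simp only [commutatorElement_def, Subgroup.coe_mul, mul_inv_rev]
    calc C * ((x : Γ) * y) * C⁻¹ * ((y : Γ)⁻¹ * (x : Γ)⁻¹)
        = C * x * C⁻¹ * (C * y * C⁻¹) * ((y : Γ)⁻¹ * (x : Γ)⁻¹) := by group
      _ = C * x * C⁻¹ * ((C * y * C⁻¹) * (x : Γ)⁻¹) * (y : Γ)⁻¹ := by rw [← h2.eq]; group
      _ = C * x * C⁻¹ * (x : Γ)⁻¹ * (C * y * C⁻¹ * (y : Γ)⁻¹) := by rw [h1.eq]; group
  set N := ψ.range with hN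
  have hNE : N ≤ E := by
    rintro _ ⟨x, rfl⟩
    exact mul_mem (hnorm _ x.2) (inv_mem x.2)
  have hEc : (torus n F q ⊔ zpowers (σ C)).comap σ = Subgroup.closure (((E : Set Γ) ∪ {C}) ∪ σ.ker) := by
    rw [← comap_closure_eq, ← MonoidHom.map_closure, Subgroup.closure_union, closure_eq,
      ← zpowers_eq_closure, Subgroup.map_sup, MonoidHom.map_zpowers, hE,
      map_comap_eq_self_of_surjective hs]
  rw [hEc]
  have hmeet : N ⊓ σ.ker = ⊥ := eq_bot_iff.2 fun z ⟨hz, hzk⟩ => by
    obtain ⟨⟨x, hx⟩, rfl⟩ := hz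
    have hzk' : ⁅C, x⁆ ∈ σ.ker := hzk
    obtain ⟨d, hd⟩ := (hx : σ x ∈ torus n F q)
    have hcomm : σ C * σ x = σ x * σ C := by
      rw [← commutatorElement_eq_one_iff_mul_comm, ← map_commutatorElement]; exact hzk'
    have hdπ : ∀ i, d (π i) = d i := fun i => by
      have h1 := congrArg (fun g => suToLin n F q g (Pi.single i 1) (π i)) hcomm
      have h2 := (hcA.mul hd) (Pi.single i 1) i
      have h3 := (hd.mul hcA) (Pi.single i 1) i
      simp only [mul_one, one_mul, Equiv.Perm.one_apply, Pi.single_eq_same] at h1 h2 h3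
      rw [h2, h3] at h1
      exact h1.symm
    have hdk : ∀ (k : ℕ) i, d ((π ^ k) i) = d i := fun k => by
      induction k with
      | zero => intro i; rfl
      | succ k ih => intro i; rw [pow_succ', Equiv.Perm.mul_apply, hdπ, ih]
    have e1 : σ (S * x * S⁻¹) = σ x := by
      rw [map_mul, map_mul, map_inv]
      exact hd.conj_diag hF hsA hd fun i => by
        obtain ⟨k, hk⟩ := horb i
        rw [hk, hdk]
    have e2 : σ (S * C * S⁻¹) = σ C⁻¹ := by
      rw [map_mul, map_mul, map_inv, map_inv, mul_inv_eq_iff_eq_mul, eq_inv_mul_iff_mul_eq]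
      exact ((hcA.mul (hsA.mul hcA)).of_eq (by rw [hconj, mul_inv_cancel_left]) fun i => by
        show 1 * (e (π i) * 1) = e i
        rw [one_mul, mul_one, he]).unique hsA
    obtain ⟨k₁, hk₁, e1'⟩ : ∃ k ∈ σ.ker, S * x * S⁻¹ = x * k :=
      ⟨x⁻¹ * (S * x * S⁻¹), by rw [MonoidHom.mem_ker, map_mul, map_inv, e1, inv_mul_cancel],
        (mul_inv_cancel_left _ _).symm⟩
    obtain ⟨k₂, hk₂, e2'⟩ : ∃ k ∈ σ.ker, S * C * S⁻¹ = C⁻¹ * k :=
      ⟨(C⁻¹)⁻¹ * (S * C * S⁻¹), by rw [MonoidHom.mem_ker, map_mul, map_inv, e2, inv_mul_cancel],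
        (mul_inv_cancel_left _ _).symm⟩
    have h3 : ⁅C, x⁆ = ⁅C, x⁆⁻¹ := by
      calc ⁅C, x⁆ = S * ⁅C, x⁆ * S⁻¹ := by rw [mem_center_iff.1 (hc hzk') S, mul_inv_cancel_right]
        _ = ⁅S * C * S⁻¹, S * x * S⁻¹⁆ := by simp only [commutatorElement_def]; group
        _ = C⁻¹ * ⁅C, x⁆⁻¹ * C⁻¹⁻¹ := by
          rw [e1', e2', Cfsg.Lib.Chev.comm_mul_central (hc hk₂) (hc hk₁)]
          simp only [commutatorElement_def]; group
        _ = ⁅C, x⁆⁻¹ := by rw [mem_center_iff.1 (hc (inv_mem hzk')) C⁻¹, mul_inv_cancel_right]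
    exact Subgroup.mem_bot.2 (eq_one_of_inv hcard hr2 hzk' h3)
  refine le_bot_iff.1 ((inf_le_inf_right _ (commutator_closure_le (N := N) ?_ ?_)).trans (le_of_eq hmeet))
  · rintro s ((hsE | hsC) | hsk) z hz
    · rw [(hab s hsE z (hNE hz)).eq, mul_inv_cancel_right]; exact hz
    · rw [Set.mem_singleton_iff.1 hsC]
      obtain ⟨⟨x, hx⟩, rfl⟩ := hz
      refine ⟨⟨C * x * C⁻¹, hnorm x hx⟩, ?_⟩
      show ⁅C, C * x * C⁻¹⁆ = C * ⁅C, x⁆ * C⁻¹
      simp only [commutatorElement_def]; group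
    · rw [conj_central hc hsk]; exact hz
  · rintro s ((hsE | hsC) | hsk) u ((huE | huC) | huk)
    all_goals try (rw [(commutatorElement_central hc hsk u).1]; exact one_mem _)
    all_goals try (rw [(commutatorElement_central hc huk s).2]; exact one_mem _)
    · rw [commutatorElement_eq_one_iff_mul_comm.2 (hab s hsE u huE).eq]; exact one_mem _
    · rw [Set.mem_singleton_iff.1 huC, ← commutatorElement_inv]; exact inv_mem ⟨⟨s, hsE⟩, rfl⟩
    · rw [Set.mem_singleton_iff.1 hsC]; exact ⟨⟨u, huE⟩, rfl⟩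
    · rw [Set.mem_singleton_iff.1 hsC, Set.mem_singleton_iff.1 huC, commutatorElement_self]; exact one_mem _

omit hF in
theorem dvd_card_mono {r : ℕ} [hr : Fact r.Prime] {c : Cfsg.SU n F q} {π : Equiv.Perm (Fin n)}
    (hcA : Acts c π fun _ => 1) (hπ : π ^ r = 1) (hπ1 : π ≠ 1) :
    Nat.card (torus n F q) * r ∣ Nat.card ↥(torus n F q ⊔ zpowers c) := by
  set H := torus n F q ⊔ zpowers c
  set T := (torus n F q).subgroupOf H with hT
  have hle : torus n F q ≤ H := le_sup_left
  haveI : T.Normal := by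
    refine ⟨fun x hx g => ?_⟩
    have key : ∀ g ∈ H, ∀ x ∈ torus n F q, g * x * g⁻¹ ∈ torus n F q := by
      intro g hg
      have hH : H ≤ normalizer (torus n F q : Set _) := by
        refine sup_le le_normalizer (zpowers_le.2 (mem_normalizer_iff.2 fun x => ?_))
        constructor
        · rintro ⟨d, hd⟩
          refine ⟨fun i => d (π.symm i), fun v i => ?_⟩
          obtain ⟨j, rfl⟩ := π.surjective i
          have h2 := ((hcA.mul hd) (suToLin n F q c⁻¹ v)) j
          have h3 := hcA (suToLin n F q c⁻¹ v) j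
          rw [← LinearEquiv.mul_apply, ← map_mul, mul_inv_cancel, map_one] at h3
          change v (π j) = 1 * suToLin n F q c⁻¹ v j at h3
          rw [mul_one, ← LinearEquiv.mul_apply, ← map_mul] at h2
          simp only [one_mul] at h2
          rw [Equiv.Perm.one_apply, h2, h3, one_mul]
          simp
        · rintro ⟨d, hd⟩
          refine ⟨fun i => d (π i), fun v i => ?_⟩
          have h2 := hd (suToLin n F q c v) (π i)
          rw [← LinearEquiv.mul_apply, ← map_mul, inv_mul_cancel_right, map_mul, LinearEquiv.mul_apply,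
            Equiv.Perm.one_apply, hcA, hcA, one_mul, one_mul] at h2
          exact h2
      exact fun x hx => (mem_normalizer_iff.1 (hH hg) x).1 hx
    exact key g.1 g.2 x.1 hx
  have hcH : c ∈ H := mem_sup_right (mem_zpowers c)
  have hpow : ∀ k : ℕ, Acts (c ^ k) (π ^ k) fun _ => 1 := fun k => by
    induction k with
    | zero => simpa using Acts.one (q := q)
    | succ k ih => rw [pow_succ, pow_succ]; exact (ih.mul hcA).of_eq rfl fun _ => one_mul 1
  have hord : orderOf (QuotientGroup.mk' T ⟨c, hcH⟩) = r := by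
    refine orderOf_eq_prime ?_ ?_
    · rw [← map_pow, QuotientGroup.mk'_apply, QuotientGroup.eq_one_iff]
      exact ⟨fun _ => 1, (hpow r).of_eq hπ fun _ => rfl⟩
    · rw [QuotientGroup.mk'_apply, ne_eq, QuotientGroup.eq_one_iff]
      rintro ⟨d, hd⟩
      exact hπ1 (hcA.perm_eq hd)
  rw [card_eq_card_quotient_mul_card_subgroup T, ← Nat.card_congr (subgroupOfEquivOfLe hle).toEquiv,
    mul_comm (Nat.card _) r]
  exact mul_dvd_mul_right (hord ▸ orderOf_dvd_natCard _) _

end Cfsg.Lib.UnitMult.Cross
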