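import Cfsg.Agent.Lib.Chev.TwMult.Layers

/-!
Layers of a filtered group given by coordinates: each coordinate is additive on the left and on the right along
the elements whose higher coordinates vanish, so the layers are central.
-/

set_option autoImplicit false

namespace Cfsg.Lib.UnitMult

open Cfsg.Lib.Chev.TwMult
open scoped commutatorElement

universe u

variable {K : Type*} [Field K] {G : Type u} [Group G]

/-- A subgroup with coordinates, additive along the elements whose higher coordinates vanish. -/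
structure Coord (K : Type*) [Field K] (G : Type u) [Group G] where
  U : Subgroup G
  N : ℕ
  f : ℕ → G → K
  sep : ∀ g ∈ U, (∀ i < N, f i g = 0) → g = 1
  addl : ∀ j < N, ∀ v ∈ U, (∀ i, j < i → i < N → f i v = 0) → ∀ g ∈ U, f j (v * g) = f j v + f j g
  addr : ∀ j < N, ∀ v ∈ U, (∀ i, j < i → i < N → f i v = 0) → ∀ g ∈ U, f j (g * v) = f j g + f j v

namespace Coord

variable (C : Coord K G)

theorem f_one {j : ℕ} (hj : j < C.N) : C.f j 1 = 0 := by
  suffices h : ∀ k i, C.N - k ≤ i → i < C.N → C.f i 1 = 0 from h C.N j (by omega) hj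
  intro k
  induction k with
  | zero => intro i h1 h2; omega
  | succ k ih =>
    intro i h1 h2
    have h := C.addl i h2 1 (one_mem _) (fun l hl hl' => ih l (by omega) hl') 1 (one_mem _)
    rw [mul_one, left_eq_add] at h
    exact h

/-- The elements whose coordinates from `j` on vanish. -/
def V (j : ℕ) : Subgroup G where
  carrier := {g | g ∈ C.U ∧ ∀ i, j ≤ i → i < C.N → C.f i g = 0}
  one_mem' := ⟨one_mem _, fun i _ h => C.f_one h⟩
  mul_mem' := by
    rintro a b ⟨ha, ha'⟩ ⟨hb, hb'⟩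
    refine ⟨mul_mem ha hb, fun i h1 h2 => ?_⟩
    rw [C.addl i h2 a ha (fun l hl => ha' l (by omega)) b hb, ha' i h1 h2, hb' i h1 h2, add_zero]
  inv_mem' := by
    rintro a ⟨ha, ha'⟩
    refine ⟨inv_mem ha, fun i h1 h2 => ?_⟩
    have h := C.addl i h2 a ha (fun l hl => ha' l (by omega)) a⁻¹ (inv_mem ha)
    rw [mul_inv_cancel, C.f_one h2, ha' i h1 h2, zero_add] at h
    exact h.symm

theorem mem_V {j : ℕ} {g : G} : g ∈ C.V j ↔ g ∈ C.U ∧ ∀ i, j ≤ i → i < C.N → C.f i g = 0 := Iff.rfl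

theorem V_mono {j k : ℕ} (h : j ≤ k) : C.V j ≤ C.V k :=
  fun _ hg => ⟨hg.1, fun i hi => hg.2 i (h.trans hi)⟩

theorem V_top : C.V C.N = C.U :=
  le_antisymm (fun _ hg => hg.1) fun _ hg => ⟨hg, fun i h1 h2 => by omega⟩

theorem V_zero : C.V 0 = ⊥ :=
  eq_bot_iff.2 fun g hg => Subgroup.mem_bot.2 (C.sep g hg.1 fun i hi => hg.2 i (Nat.zero_le i) hi)

theorem lt_mem {j : ℕ} {g : G} (hg : g ∈ C.V (j + 1)) : ∀ i, j < i → i < C.N → C.f i g = 0 :=
  fun i hi => hg.2 i hi

theorem mem_V_of_succ {j : ℕ} {g : G} (hg : g ∈ C.V (j + 1)) (h : C.f j g = 0) : g ∈ C.V j :=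
  ⟨hg.1, fun i hi hi' => by
    rcases eq_or_lt_of_le hi with rfl | hlt
    exacts [h, hg.2 i hlt hi']⟩

theorem central {k : ℕ} (hk : k < C.N) {g h : G} (hg : g ∈ C.U) (hh : h ∈ C.V (k + 1)) : ⁅g, h⁆ ∈ C.V k := by
  have hgh : g * h ∈ C.U := mul_mem hg hh.1
  have hhg : h * g ∈ C.U := mul_mem hh.1 hg
  have hw : ⁅g, h⁆ = g * h * (h * g)⁻¹ := by rw [commutatorElement_def]; group
  rw [hw]
  set w := g * h * (h * g)⁻¹ with hwdef
  have hwU : w ∈ C.U := mul_mem hgh (inv_mem hhg)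
  suffices H : ∀ m i, C.N - m ≤ i → k ≤ i → i < C.N → C.f i w = 0 from
    ⟨hwU, fun i h1 h2 => H C.N i (by omega) h1 h2⟩
  intro m
  induction m with
  | zero => intro i h1 _ h3; omega
  | succ m ih =>
    intro i h1 h2 h3
    have hv : ∀ l, i < l → l < C.N → C.f l h = 0 := fun l hl hl' => hh.2 l (by omega) hl'
    have e := C.addl i h3 w hwU (fun l hl hl' => ih l (by omega) (by omega) hl') (h * g) hhg
    rw [hwdef, inv_mul_cancel_right, ← hwdef, C.addr i h3 h hh.1 hv g hg, C.addl i h3 h hh.1 hv g hg,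
      add_comm (C.f i g)] at e
    exact left_eq_add.1 (e.trans (add_comm _ _))

/-- Elements covering the layers, moved by a commuting family with scalar weights. -/
structure Cover (C : Coord K G) where
  X : ℕ → K → G
  φ : ℕ → K → K
  ι : Type*
  t : ι → G
  lam : ι → ℕ → K
  φ_add : ∀ j < C.N, ∀ a b, φ j (a + b) = φ j a + φ j b
  X_mem : ∀ j < C.N, ∀ a, X j a ∈ C.V (j + 1)
  X_f : ∀ j < C.N, ∀ a, C.f j (X j a) = φ j a
  cover : ∀ j < C.N, ∀ g ∈ C.V (j + 1), ∃ a, φ j a = C.f j g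
  φ_lam : ∀ i, ∀ j < C.N, ∀ a, φ j (lam i j * a) = lam i j * φ j a
  comm : ∀ i i', Commute (t i) (t i')
  conj : ∀ i, ∀ j < C.N, ∀ g ∈ C.V (j + 1), t i * g * (t i)⁻¹ ∈ C.V (j + 1) ∧
    C.f j (t i * g * (t i)⁻¹) = lam i j * C.f j g
  moved : ∀ j < C.N, ∃ i, lam i j ≠ 1

namespace Cover

variable {C} (D : Cover C)

theorem quot_mem {j : ℕ} (hj : j < C.N) {a b : G} (ha : a ∈ C.V (j + 1)) (hb : b ∈ C.V (j + 1))
    (h : C.f j a = C.f j b) : a⁻¹ * b ∈ C.V j := by
  refine C.mem_V_of_succ (mul_mem (inv_mem ha) hb) ?_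
  have e := C.addl j hj a ha.1 (C.lt_mem ha) (a⁻¹ * b) (mul_mem (inv_mem ha.1) hb.1)
  rw [mul_inv_cancel_left, ← h] at e
  exact left_eq_add.1 e

theorem span_eq : ∀ j ≤ C.N, spanBelow D.X j = C.V j := by
  intro j
  induction j with
  | zero =>
    intro _
    rw [C.V_zero, spanBelow, show {g : G | ∃ k < 0, ∃ a, D.X k a = g} = ∅ from
      Set.eq_empty_iff_forall_notMem.2 fun g ⟨k, hk, _⟩ => absurd hk (Nat.not_lt_zero _), Subgroup.closure_empty]
  | succ j ih =>
    intro hj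
    refine le_antisymm ((Subgroup.closure_le _).2 ?_) fun g hg => ?_
    · rintro _ ⟨k, hk, a, rfl⟩
      exact C.V_mono hk (D.X_mem k (by omega) a)
    · obtain ⟨a, ha⟩ := D.cover j hj g hg
      have h := quot_mem hj (D.X_mem j hj a) hg ((D.X_f j hj a).trans ha)
      rw [← ih (by omega)] at h
      rw [show g = D.X j a * ((D.X j a)⁻¹ * g) by group]
      exact mul_mem (mem_spanBelow (Nat.lt_succ_self j) a) (spanBelow_mono (Nat.le_succ j) h)

/-- The chain of layers. -/
def chain : LayerChain K G where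
  N := C.N
  X := D.X
  ι := D.ι
  t := D.t
  lam := D.lam
  add := fun j hj a b => by
    rw [D.span_eq j hj.le]
    refine quot_mem hj (mul_mem (D.X_mem j hj a) (D.X_mem j hj b)) (D.X_mem j hj _) ?_
    rw [C.addl j hj _ (D.X_mem j hj a).1 (C.lt_mem (D.X_mem j hj a)) _ (D.X_mem j hj b).1, D.X_f j hj, D.X_f j hj,
      D.X_f j hj, D.φ_add j hj]
  comm := D.comm
  conj := fun i j hj a => by
    rw [D.span_eq j hj.le]
    obtain ⟨h1, h2⟩ := D.conj i j hj _ (D.X_mem j hj a)
    refine quot_mem hj (D.X_mem j hj _) h1 ?_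
    rw [h2, D.X_f j hj, D.X_f j hj, D.φ_lam i j hj]
  moved := D.moved
  closed := fun j hj k hk a b => by
    rw [D.span_eq k (by omega)]
    exact C.central (by omega) (D.X_mem j hj a).1 (D.X_mem k (by omega) b)
  inj := fun j hj i a hne h => by
    rw [D.span_eq j hj.le] at h ⊢
    refine C.mem_V_of_succ (D.X_mem j hj _) ?_
    rw [D.X_f j hj]
    have h0 := h.2 j le_rfl hj
    rw [D.X_f j hj] at h0
    set b := a / (D.lam i j - 1) with hb
    have e1 : D.φ j (D.lam i j * b) = D.φ j a + D.φ j b := by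
      rw [← D.φ_add j hj, hb]
      congr 1
      field_simp [sub_ne_zero.2 hne]
      ring
    rw [D.φ_lam i j hj, h0, zero_add] at e1
    exact (mul_eq_zero.1 (show (D.lam i j - 1) * D.φ j b = 0 by linear_combination e1)).resolve_left
      (sub_ne_zero.2 hne)

theorem card_V [Finite G] : ∀ j ≤ C.N, Nat.card (C.V j) = ∏ i ∈ Finset.range j, Nat.card (Set.range (D.φ i)) := by
  intro j
  induction j with
  | zero => intro _; rw [C.V_zero]; simp
  | succ j ih =>
    intro hj
    let h : C.V (j + 1) →* Multiplicative K := MonoidHom.mk' (fun g => Multiplicative.ofAdd (C.f j g)) fun a b => by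
      rw [← ofAdd_add, Subgroup.coe_mul, C.addl j hj a a.2.1 (C.lt_mem a.2) b b.2.1]
    have hker : h.ker = (C.V j).subgroupOf (C.V (j + 1)) := by
      ext g
      rw [MonoidHom.mem_ker, Subgroup.mem_subgroupOf]
      exact ⟨fun e => C.mem_V_of_succ g.2 (ofAdd_eq_one.1 e), fun e => ofAdd_eq_one.2 (e.2 j le_rfl hj)⟩
    have hrange : (h.range : Set (Multiplicative K)) = Multiplicative.ofAdd '' Set.range (D.φ j) := by
      ext y
      constructor
      · rintro ⟨g, rfl⟩
        obtain ⟨a, ha⟩ := D.cover j hj g g.2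
        exact ⟨_, ⟨a, rfl⟩, by rw [ha]; rfl⟩
      · rintro ⟨_, ⟨a, rfl⟩, rfl⟩
        exact ⟨⟨D.X j a, D.X_mem j hj a⟩, congrArg Multiplicative.ofAdd (D.X_f j hj a)⟩
    rw [Finset.prod_range_succ, ← ih (by omega), ← Subgroup.card_mul_index h.ker, Subgroup.index_ker, hker,
      Nat.card_congr (Subgroup.subgroupOfEquivOfLe (C.V_mono (Nat.le_succ j))).toEquiv]
    congr 1
    rw [← SetLike.coe_sort_coe, hrange, Nat.card_image_of_injective Multiplicative.ofAdd.injective]

end Cover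

end Coord

end Cfsg.Lib.UnitMult
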