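import Cfsg.Agent.Lib.UnitMult.Three

/-!
No stem extension of `SU n` (`n = 3, 4, 5`) has a kernel of order equal to the characteristic.
-/

set_option autoImplicit false
set_option linter.unusedSectionVars false

namespace Cfsg.Lib.UnitMult

open Cfsg.Lib.Linear.SUDegree Cfsg.Lib.Linear.Herm Cfsg.Lib.Chev.MultW Cfsg.Lib.Chev.TwMult

universe u

variable {F : Type u} [Field F] [Fintype F] {q : ℕ} (hF : Fintype.card F = q ^ 2) (p : ℕ) [Fact p.Prime] [CharP F p]
include hF

theorem q_pow : ∃ f, 0 < f ∧ q = p ^ f := by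
  obtain ⟨m, -, hm⟩ := FiniteField.card F p
  rw [hF] at hm
  obtain ⟨f, -, hf⟩ := (Nat.dvd_prime_pow (Fact.out : p.Prime)).1 (hm ▸ dvd_pow_self q two_ne_zero)
  refine ⟨f, Nat.pos_of_ne_zero fun h => ?_, hf⟩
  rw [h, pow_zero] at hf
  have := two_le_q hF
  omega

/-- A `p`-subgroup of the full order is a Sylow subgroup. -/
theorem exists_sylow {n : ℕ} (hn : 1 ≤ n) (U : Subgroup (Cfsg.SU n F q))
    (hU : Nat.card U = q ^ (n * (n - 1) / 2)) : ∃ P : Sylow p (Cfsg.SU n F q), (P : Subgroup (Cfsg.SU n F q)) = U := by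
  haveI : Finite (Cfsg.SU n F q) := inferInstance
  obtain ⟨f, hf0, hf⟩ := q_pow hF p
  have hp := (Fact.out : p.Prime)
  have hpU : IsPGroup p U := IsPGroup.of_card (n := f * (n * (n - 1) / 2)) (by rw [hU, pow_mul, ← hf])
  obtain ⟨P, hP⟩ := hpU.exists_le_sylow
  refine ⟨P, le_antisymm ?_ hP⟩
  have h := card_SU hF hn
  rw [card_GU hF n, ← Subgroup.card_mul_index U, hU, mul_left_comm] at h
  have hidx : U.index ∣ ∏ i ∈ Finset.range n, (if Even i then q ^ (i + 1) + 1 else q ^ (i + 1) - 1) :=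
    ⟨q + 1, by rw [mul_comm U.index]; exact (Nat.eq_of_mul_eq_mul_left (pow_pos (by rw [hf]; exact pow_pos hp.pos f) _) h).symm⟩
  have hpq : p ∣ q := hf ▸ dvd_pow_self p hf0.ne'
  have hnd : ¬ p ∣ ∏ i ∈ Finset.range n, (if Even i then q ^ (i + 1) + 1 else q ^ (i + 1) - 1) := by
    intro hd
    obtain ⟨i, -, hi⟩ := (Nat.prime_iff.1 hp).exists_mem_finset_dvd hd
    have hqi : p ∣ q ^ (i + 1) := hpq.trans (dvd_pow_self q (Nat.succ_ne_zero i))
    split_ifs at hi
    · exact hp.one_lt.ne' (Nat.dvd_one.1 ((Nat.dvd_add_right hqi).1 hi))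
    · have h1 : 0 < q ^ (i + 1) := pow_pos (by rw [hf]; exact pow_pos hp.pos f) _
      refine hp.one_lt.ne' (Nat.dvd_one.1 ?_)
      have := Nat.dvd_sub hqi hi
      rwa [Nat.sub_sub_self h1] at this
  obtain ⟨k, hk⟩ := IsPGroup.iff_card.1 P.isPGroup'
  have hle : Nat.card (P : Subgroup (Cfsg.SU n F q)) ≤ Nat.card U := by
    have hrel := Subgroup.relIndex_mul_index hP
    obtain ⟨l, hl⟩ : ∃ l, U.relIndex (P : Subgroup (Cfsg.SU n F q)) = p ^ l := by
      obtain ⟨l, -, hl⟩ := (Nat.dvd_prime_pow hp).1 (hk ▸ Subgroup.relIndex_dvd_card U (P : Subgroup (Cfsg.SU n F q)))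
      exact ⟨l, hl⟩
    have hl0 : l = 0 := by
      by_contra h0
      exact hnd (((hl.symm ▸ dvd_pow_self p h0 : p ∣ U.relIndex _)).trans
        ((Dvd.intro _ hrel).trans hidx))
    rw [hl0, pow_zero, Subgroup.relIndex_eq_one] at hl
    exact Subgroup.card_le_of_le hl
  exact (Subgroup.eq_of_le_of_card_ge hP hle).ge

/-- The defining characteristic part. -/
theorem no_stem_char {n : ℕ} (hn : n = 3 ∨ n = 4 ∨ n = 5) (hq : 3 ≤ q) (h4 : n = 4 → 4 ≤ q) (Γ : Type u) [Group Γ]
    [Finite Γ] (ρ : Γ →* Cfsg.SU n F q) (hs : Function.Surjective ρ) (hc : ρ.ker ≤ Subgroup.center Γ)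
    (hcard : Nat.card ρ.ker = p) : ¬ ρ.ker ≤ commutator Γ := by
  classical
  have hne := frob_ne_id hF
  have hσσ := frob_frob hF
  obtain ⟨δ, hδ0, hδ⟩ := exists_trace_zero hne hσσ
  obtain ⟨τ, hτ⟩ := exists_trace_one hF
  have hq2 : Nat.card F = q ^ 2 := by rw [Nat.card_eq_fintype_card, hF]
  rcases hn with rfl | hn
  · obtain ⟨Φ, hΦ⟩ := exists_model (m := 1) (ε := 1) hF (n := 3) rfl
    let P : Trio F (Cfsg.SU 3 F q) := ⟨frob hF, hσσ, τ, hτ, δ, hδ0, hδ, Φ, hΦ⟩
    let L := P.layers (P.moved hF rfl hq)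
    have hU : Nat.card P.sub = q ^ (3 * (3 - 1) / 2) := by
      show Nat.card P.coord.U = _
      rw [← P.coord.V_top, L.card_V P.coord.N le_rfl]
      show ∏ i ∈ Finset.range 2, Nat.card (Set.range (P.phi i)) = _
      rw [Finset.prod_range_succ, Finset.prod_range_one]
      show Nat.card (Set.range fun a => P.phi 0 a) * Nat.card (Set.range fun a => P.phi 1 a) = _
      simp only [Trio.phi]
      rw [card_trace_zero hF hδ0 hδ, Set.range_id', Nat.card_congr (Equiv.Set.univ F), hq2, ← pow_succ']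
    obtain ⟨S, hS⟩ := exists_sylow hF p (by norm_num) P.sub hU
    refine LayerChain.not_le L.chain hs hc p (fun j hj i hi hji => P.pairs hF rfl hq p hs hc j hj i hi hji) hcard S ?_
    show (S : Subgroup _) ≤ spanBelow L.X P.coord.N
    rw [L.span_eq _ le_rfl, P.coord.V_top, hS]
    exact le_refl _
  · obtain ⟨ε, hε, hnε⟩ : ∃ ε, ε ≤ 1 ∧ n = 2 + 2 + ε := ⟨n - 4, by omega, by omega⟩
    obtain ⟨Φ, hΦ⟩ := exists_model (m := 2) (ε := ε) hF hnε
    let P : Four F ε (Cfsg.SU n F q) := ⟨frob hF, hσσ, hε, τ, hτ, δ, hδ0, hδ, Φ, hΦ⟩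
    have he : ε = 0 → 4 ≤ q := fun h => h4 (by omega)
    let L := P.layers (P.moved hF rfl hq he)
    have hU : Nat.card P.sub = q ^ (n * (n - 1) / 2) := by
      show Nat.card P.coord.U = _
      rw [← P.coord.V_top, L.card_V P.coord.N le_rfl]
      show ∏ i ∈ Finset.range 6, Nat.card (Set.range (P.phi i)) = _
      simp only [Finset.prod_range_succ, Finset.prod_range_zero, one_mul]
      show Nat.card (Set.range fun a => P.phi 0 a) * Nat.card (Set.range fun a => P.phi 1 a) *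
        Nat.card (Set.range fun a => P.phi 2 a) * Nat.card (Set.range fun a => P.phi 3 a) *
        Nat.card (Set.range fun a => P.phi 4 a) * Nat.card (Set.range fun a => P.phi 5 a) = _
      simp only [Four.phi]
      rw [card_trace_zero hF hδ0 hδ, Set.range_id', Nat.card_congr (Equiv.Set.univ F), hq2]
      rcases Nat.le_one_iff_eq_zero_or_eq_one.1 hε with rfl | rfl
      · rw [hnε]
        simp only [Nat.cast_zero, zero_mul, Set.range_const, Nat.card_unique]
        norm_num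
        ring
      · rw [hnε]
        simp only [Nat.cast_one, one_mul, Set.range_id', Nat.card_congr (Equiv.Set.univ F), hq2]
        norm_num
        ring
    obtain ⟨S, hS⟩ := exists_sylow hF p (by omega) P.sub hU
    refine LayerChain.not_le L.chain hs hc p (fun j hj i hi hji => P.pairs hF rfl hq he p hs hc j hj i hi hji) hcard S ?_
    show (S : Subgroup _) ≤ spanBelow L.X P.coord.N
    rw [L.span_eq _ le_rfl, P.coord.V_top, hS]
    exact le_refl _

end Cfsg.Lib.UnitMult
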