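import Cfsg.Agent.Lib.UnitMult.Torus

/-!
Separation of the layers in dimensions four and five, and the defining characteristic part of the multiplier.
-/

set_option autoImplicit false
set_option linter.unusedSectionVars false

namespace Cfsg.Lib.UnitMult

open Matrix Cfsg.Lib.Linear.SUDegree Cfsg.Lib.Linear.Herm Cfsg.Lib.Chev.MultW Cfsg.Lib.Chev.TwMult

universe u

variable {F : Type*} [Field F] [Fintype F] {q : ℕ}

section Units

variable (hF : Fintype.card F = q ^ 2)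
include hF

theorem sub_pow_eq_one {x : F} (hx : x ≠ 0) : (x * frob hF x) ^ (q - 1) = 1 := by
  have hq := two_le_q hF
  rw [frob_apply, ← pow_succ', ← pow_mul]
  have e : (q + 1) * (q - 1) = Fintype.card F - 1 := by rw [hF, ← Nat.sq_sub_sq, one_pow]
  rw [e, FiniteField.pow_card_sub_one_eq_one x hx]

/-- What a generator gives. -/
theorem gen_facts (hq : 3 ≤ q) {g : F} (hg : orderOf g = q ^ 2 - 1) :
    g ≠ 0 ∧ g ^ (q - 1) ≠ 1 ∧ g⁻¹ ^ (q - 1) ≠ 1 ∧ q + 1 < orderOf g⁻¹ ∧ q + 1 < orderOf g ∧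
      g * frob hF g ≠ 1 ∧ (4 ≤ q → (g * frob hF g) ^ 2 ≠ 1 ∧ q + 1 < orderOf (g ^ 2)) := by
  have hsq : q + 1 < q ^ 2 - 1 := by
    have : q * 3 ≤ q * q := Nat.mul_le_mul_left q hq
    rw [pow_two]; omega
  have hlt : ∀ k, 0 < k → k < q ^ 2 - 1 → g ^ k ≠ 1 := fun k hk hk' e => by
    have := Nat.le_of_dvd hk (orderOf_dvd_of_pow_eq_one e)
    omega
  have h0 : g ≠ 0 := fun e => by
    have h := pow_orderOf_eq_one g
    rw [hg, e, zero_pow (by omega)] at h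
    exact zero_ne_one h
  refine ⟨h0, hlt _ (by omega) (by omega), ?_, by
    have e1 : g⁻¹ = ((Units.mk0 g h0)⁻¹ : Fˣ) := by simp
    rw [e1, orderOf_units, orderOf_inv, ← orderOf_units, Units.val_mk0, hg]; exact hsq, by omega, ?_, fun h4 => ?_⟩
  · rw [inv_pow]
    exact inv_ne_one.2 (hlt _ (by omega) (by omega))
  · rw [frob_apply, ← pow_succ']
    exact hlt _ (by omega) hsq
  · have hsq4 : 2 * (q + 1) < q ^ 2 - 1 := by
      have : q * 4 ≤ q * q := Nat.mul_le_mul_left q h4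
      rw [pow_two]; omega
    refine ⟨?_, ?_⟩
    · rw [frob_apply, ← pow_succ', ← pow_mul]
      exact hlt _ (by omega) (by omega)
    · rw [orderOf_pow' g two_ne_zero, hg]
      have h2 : Nat.gcd (q ^ 2 - 1) 2 ≤ 2 := Nat.le_of_dvd two_pos (Nat.gcd_dvd_right _ _)
      rw [Nat.lt_div_iff_mul_lt' (Nat.gcd_dvd_left _ _)]
      calc Nat.gcd (q ^ 2 - 1) 2 * (q + 1) ≤ 2 * (q + 1) := Nat.mul_le_mul_right _ h2
        _ < _ := hsq4

end Units

namespace Four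

variable {ε : ℕ} {G : Type u} [Group G] (P : Four F ε G) (hF : Fintype.card F = q ^ 2) (hP : P.σ = frob hF)
  (hq : 3 ≤ q) (hε : ε = 0 → 4 ≤ q) (p : ℕ) [Fact p.Prime] [CharP F p]
include hF hP hq hε

omit hq hε in
theorem mk_tix (a b : Fˣ) (h : P.σ ((a : F) * b) = (a : F) * b) : ∃ i : P.TIx, i.1 = (a, b) :=
  ⟨⟨(a, b), fun _ => h⟩, rfl⟩

omit hq hε in
theorem wt_val (i : P.TIx) {a b : Fˣ} (h : i.1 = (a, b)) : P.wt i 0 = (a : F) * P.σ a ∧
    P.wt i 1 = (a : F) * P.σ b ∧ P.wt i 3 = (b : F) * P.σ b ∧ P.wt i 4 = (a : F) / b ∧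
    (P.σ ((a : F) * b) = (a : F) * b → P.wt i 2 = a ∧ P.wt i 5 = b) := by
  simp only [wt, mu, h]
  refine ⟨trivial, trivial, trivial, trivial, fun e => ?_⟩
  rw [e, div_self (mul_ne_zero a.ne_zero b.ne_zero), map_one, one_mul, one_mul]
  exact ⟨rfl, rfl⟩

theorem moved : ∀ j < 6, ∃ i, P.wt i j ≠ 1 := by
  obtain ⟨g, hg⟩ := exists_gen hF
  obtain ⟨h0, h1, h1', -, -, hN, h4⟩ := gen_facts hF hq hg
  have hσi : P.σ ((g : F) * ((g⁻¹ : Fˣ) : F)) = (g : F) * ((g⁻¹ : Fˣ) : F) := by simp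
  obtain ⟨i, hi⟩ := P.mk_tix hF hP g g⁻¹ hσi
  obtain ⟨e0, e1, e3, e4, e25⟩ := P.wt_val hF hP i hi
  intro j hj
  refine ⟨i, ?_⟩
  interval_cases j
  · rw [e0, hP]; exact hN
  · rw [e1, hP, frob_apply, Units.val_inv_eq_inv_val, inv_pow, ← div_eq_mul_inv, ne_eq,
      div_eq_one_iff_eq (pow_ne_zero _ h0)]
    intro e
    refine h1 (mul_left_cancel₀ h0 ?_)
    rw [← pow_succ', show q - 1 + 1 = q by omega, mul_one, ← e]
  · rw [(e25 hσi).1]; exact fun e => h1 (by rw [e, one_pow])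
  · rw [e3, hP, Units.val_inv_eq_inv_val, map_inv₀, ← mul_inv]; exact inv_ne_one.2 hN
  · rw [e4, Units.val_inv_eq_inv_val, div_inv_eq_mul, ← pow_two]
    intro e
    have := Nat.le_of_dvd two_pos (orderOf_dvd_of_pow_eq_one e)
    rw [hg] at this
    have : q * 3 ≤ q * q := Nat.mul_le_mul_left q hq
    rw [pow_two] at *
    omega
  · rw [(e25 hσi).2, Units.val_inv_eq_inv_val]; exact fun e => h1' (by rw [e, one_pow])

/-- Every pair of layers is separated or has commuting lifts. -/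
theorem pairs [Finite G] {Γ : Type u} [Group Γ] {ρ : Γ →* G} (hs : Function.Surjective ρ)
    (hc : ρ.ker ≤ Subgroup.center Γ) : ∀ j < 6, ∀ i < 6, j ≤ i →
      (∃ e, P.wt e j ≠ 0 ∧ ∀ k : ℕ, P.wt e i ^ p ^ k * P.wt e j ≠ 1) ∨ ∀ a b, LComm ρ (P.rt i a) (P.rt j b) := by
  obtain ⟨g, hg⟩ := exists_gen hF
  obtain ⟨h0, h1, h1', ho', ho, hN, h4⟩ := gen_facts hF hq hg
  have hσ2 := P.σσ
  have h0σ : P.σ (g : F) ≠ 0 := (map_ne_zero P.σ).2 h0
  set c : Fˣ := g * Units.map P.σ.toMonoidHom g with hc'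
  have hcv : (c : F) = (g : F) * P.σ g := rfl
  have hσc : P.σ (c : F) = c := by rw [hcv, map_mul, hσ2, mul_comm]
  have hc1 : (c : F) ≠ 1 := by rw [hcv, hP]; exact hN
  have hc2 : 4 ≤ q → (c : F) ^ 2 ≠ 1 := fun h => by rw [hcv, hP]; exact (h4 h).1
  have hcne := c.ne_zero
  obtain ⟨t1, ht1⟩ := P.mk_tix hF hP 1 c (by simp [hσc])
  obtain ⟨t2, ht2⟩ := P.mk_tix hF hP c 1 (by simp [hσc])
  obtain ⟨t3, ht3⟩ := P.mk_tix hF hP g g⁻¹ (by simp)
  obtain ⟨a0, a1, a3, a4, a25⟩ := P.wt_val hF hP t1 ht1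
  obtain ⟨b0, b1, b3, b4, b25⟩ := P.wt_val hF hP t2 ht2
  obtain ⟨d0, d1, d3, d4, d25⟩ := P.wt_val hF hP t3 ht3
  obtain ⟨a2, a5⟩ := a25 (by simp [hσc])
  obtain ⟨b2, b5⟩ := b25 (by simp [hσc])
  obtain ⟨d2, d5⟩ := d25 (by simp)
  simp only [Units.val_one, map_one, one_mul, mul_one, div_one, hσc, Units.val_inv_eq_inv_val] at a0 a1 a2 a3 a4 a5 b0 b1 b2 b3 b4 b5 d0 d1 d2 d3 d4 d5
  have hci : (c : F)⁻¹ ≠ 1 := inv_ne_one.2 hc1
  have key : ∀ j i, (∃ e, Sep p (P.wt e i) (P.wt e j)) →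
      ((∃ e, P.wt e j ≠ 0 ∧ ∀ k : ℕ, P.wt e i ^ p ^ k * P.wt e j ≠ 1) ∨ ∀ a b, LComm ρ (P.rt i a) (P.rt j b)) :=
    fun j i ⟨e, h⟩ => Or.inl ⟨e, h.1, h.2⟩
  intro j hj i hi hji
  by_cases hx : ε = 0 ∧ (i = 2 ∨ i = 5 ∨ j = 2 ∨ j = 5)
  · refine Or.inr fun a b => ?_
    obtain ⟨he, h | h | h | h⟩ := hx
    · exact lcomm_symm (P.lcomm_col hc he (Or.inl h) _ a)
    · exact lcomm_symm (P.lcomm_col hc he (Or.inr h) _ a)
    · exact P.lcomm_col hc he (Or.inl h) _ b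
    · exact P.lcomm_col hc he (Or.inr h) _ b
  have hε1 : (i = 2 ∨ i = 5 ∨ j = 2 ∨ j = 5) → ε = 1 := fun h => by
    rcases Nat.le_one_iff_eq_zero_or_eq_one.1 P.le with he | he
    · exact absurd ⟨he, h⟩ hx
    · exact he
  interval_cases j <;> interval_cases i
  · exact Or.inr (P.lcomm_zero hs hc)
  · exact key _ _ ⟨t1, sep_one_right a0 (a1 ▸ hc1)⟩
  · refine key _ _ ⟨t3, sep_sub_right (q := q) ?_ ?_ ?_⟩
    · rw [d0, hP]; exact sub_pow_eq_one hF h0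
    · rw [d0]; exact mul_ne_zero h0 h0σ
    · rw [d2]; exact h1
  · -- the two long roots
    rcases Nat.le_one_iff_eq_zero_or_eq_one.1 P.le with he | he
    · refine key _ _ ⟨t1, sep_one_right a0 ?_⟩
      rw [a3, ← pow_two]; exact hc2 (hε he)
    · obtain ⟨t, ht⟩ : ∃ i : P.TIx, i.1 = (1, g) := ⟨⟨(1, g), fun h => by omega⟩, rfl⟩
      obtain ⟨e0, -, e3, -, -⟩ := P.wt_val hF hP t ht
      refine key _ _ ⟨t, sep_one_right (by rw [e0]; simp) ?_⟩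
      rw [e3, hP]; exact hN
  · exact key _ _ ⟨t1, sep_one_right a0 (by rw [a4, one_div]; exact hci)⟩
  · exact key _ _ ⟨t1, sep_one_right a0 (a5 ▸ hc1)⟩
  · -- the sum root with itself
    rcases Nat.le_one_iff_eq_zero_or_eq_one.1 P.le with he | he
    · obtain ⟨t, ht⟩ := P.mk_tix hF hP (g * c) g⁻¹ (by
        push_cast
        rw [mul_comm (g : F), mul_assoc, mul_inv_cancel₀ h0, mul_one, hσc])
      obtain ⟨-, e1, -, -, -⟩ := P.wt_val hF hP t ht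
      have hw : P.wt t 1 = (g : F) ^ 2 := by
        rw [e1, Units.val_mul, hcv, Units.val_inv_eq_inv_val, map_inv₀]
        field_simp
      refine key _ _ ⟨t, ?_⟩
      rw [hw]
      exact sep_self hF (pow_ne_zero _ h0) (h4 (hε he)).2
    · obtain ⟨t, ht⟩ : ∃ i : P.TIx, i.1 = (g, 1) := ⟨⟨(g, 1), fun h => by omega⟩, rfl⟩
      obtain ⟨-, e1, -, -, -⟩ := P.wt_val hF hP t ht
      have hw : P.wt t 1 = (g : F) := by rw [e1]; simp
      refine key _ _ ⟨t, ?_⟩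
      rw [hw]
      exact sep_self hF h0 ho
  · exact key _ _ ⟨t1, sep_one_left a2 (a1 ▸ hc1) (a1 ▸ hcne)⟩
  · exact key _ _ ⟨t2, sep_one_left b3 (b1 ▸ hc1) (b1 ▸ hcne)⟩
  · -- the sum and the difference
    rcases Nat.le_one_iff_eq_zero_or_eq_one.1 P.le with he | he
    · obtain ⟨t, ht⟩ := P.mk_tix hF hP c c (by rw [map_mul, hσc])
      obtain ⟨-, e1, -, e4, -⟩ := P.wt_val hF hP t ht
      refine key _ _ ⟨t, sep_one_left (by rw [e4, div_self hcne]) ?_ ?_⟩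
      · rw [e1, hσc, ← pow_two]; exact hc2 (hε he)
      · rw [e1, hσc]; exact mul_ne_zero hcne hcne
    · obtain ⟨t, ht⟩ : ∃ i : P.TIx, i.1 = (g, g) := ⟨⟨(g, g), fun h => by omega⟩, rfl⟩
      obtain ⟨-, e1, -, e4, -⟩ := P.wt_val hF hP t ht
      refine key _ _ ⟨t, sep_one_left (by rw [e4, div_self h0]) ?_ ?_⟩
      · rw [e1, hP]; exact hN
      · rw [e1]; exact mul_ne_zero h0 h0σ
  · exact key _ _ ⟨t2, sep_one_left b5 (b1 ▸ hc1) (b1 ▸ hcne)⟩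
  · refine key _ _ ⟨t3, ?_⟩
    rw [d2]; exact sep_self hF h0 ho
  · exact key _ _ ⟨t2, sep_one_left b3 (b2 ▸ hc1) (b2 ▸ hcne)⟩
  · exact key _ _ ⟨t1, sep_one_right a2 (by rw [a4, one_div]; exact hci)⟩
  · exact key _ _ ⟨t1, sep_one_right a2 (a5 ▸ hc1)⟩
  · exact Or.inr (P.lcomm_three hs hc)
  · exact key _ _ ⟨t2, sep_one_right b3 (b4 ▸ hc1)⟩
  · refine key _ _ ⟨t3, sep_sub_right (q := q) ?_ ?_ ?_⟩
    · rw [d3, hP]; exact sub_pow_eq_one hF (inv_ne_zero h0)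
    · rw [d3]; exact mul_ne_zero (inv_ne_zero h0) ((map_ne_zero P.σ).2 (inv_ne_zero h0))
    · rw [d5]; exact h1'
  · -- the difference root with itself
    rcases Nat.le_one_iff_eq_zero_or_eq_one.1 P.le with he | he
    · refine key _ _ ⟨t3, ?_⟩
      rw [d4, div_inv_eq_mul, ← pow_two]
      exact sep_self hF (pow_ne_zero _ h0) (h4 (hε he)).2
    · obtain ⟨t, ht⟩ : ∃ i : P.TIx, i.1 = (g, 1) := ⟨⟨(g, 1), fun h => by omega⟩, rfl⟩
      obtain ⟨-, -, -, e4, -⟩ := P.wt_val hF hP t ht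
      have hw : P.wt t 4 = (g : F) := by rw [e4]; simp
      refine key _ _ ⟨t, ?_⟩
      rw [hw]
      exact sep_self hF h0 ho
  · exact key _ _ ⟨t2, sep_one_left b5 (b4 ▸ hc1) (b4 ▸ hcne)⟩
  · refine key _ _ ⟨t3, ?_⟩
    rw [d5]; exact sep_self hF (inv_ne_zero h0) ho'

end Four

end Cfsg.Lib.UnitMult
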