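import Cfsg.Agent.Lib.UnitMult.Frame

/-!
The layers of a Sylow subgroup in the defining characteristic, dimensions four and five.
-/

set_option autoImplicit false
set_option linter.unusedSectionVars false

namespace Cfsg.Lib.UnitMult

open Matrix Cfsg.Lib.Linear.SUDegree

universe u

variable {F : Type*} [Field F] {ε : ℕ}

/-- The parameters of the construction in dimensions four and five. -/
structure Four (F : Type*) [Field F] (ε : ℕ) (G : Type u) [Group G] where
  σ : F →+* F
  σσ : ∀ a, σ (σ a) = a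
  le : ε ≤ 1
  τ : F
  hτ : τ + σ τ = 1
  δ : F
  δ0 : δ ≠ 0
  hδ : δ + σ δ = 0
  Φ : modelSub σ 2 ε →* G
  inj : Function.Injective Φ

namespace Four

variable {G : Type u} [Group G] (P : Four F ε G)

open scoped Classical in
/-- The element with given parameters. -/
noncomputable def el (c : F) (H : Matrix (Fin 2) (Fin 2) F) (X : Matrix (Fin 2) (Fin ε) F) : G :=
  if h : Rel P.σ H X then P.Φ ⟨uni P.σ c H X, uni_mem P.σσ h c⟩ else 1

theorem el_eq {c : F} {H : Matrix (Fin 2) (Fin 2) F} {X : Matrix (Fin 2) (Fin ε) F} (h : Rel P.σ H X) :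
    P.el c H X = P.Φ ⟨uni P.σ c H X, uni_mem P.σσ h c⟩ := dif_pos h

theorem rel_zero : Rel P.σ (0 : Matrix (Fin 2) (Fin 2) F) (0 : Matrix (Fin 2) (Fin ε) F) := by
  simp [Rel, st_zero]

theorem el_zero : P.el 0 0 0 = 1 := by
  rw [P.el_eq P.rel_zero, ← map_one P.Φ]
  exact congrArg P.Φ (Subtype.ext uni_zero)

theorem rel_mul {c : F} {H H' : Matrix (Fin 2) (Fin 2) F} {X X' : Matrix (Fin 2) (Fin ε) F} (h : Rel P.σ H X)
    (h' : Rel P.σ H' X') :
    Rel P.σ (H + lev c * H' * st P.σ (lev c) - X * st P.σ (lev c * X')) (X + lev c * X') := by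
  have h2 := h'.conj P.σσ (lev c) (μ := 1) (by rw [map_one, mul_one])
  rw [map_one, one_smul] at h2
  exact h.mul P.σσ h2

theorem el_mul {c c' : F} {H H' : Matrix (Fin 2) (Fin 2) F} {X X' : Matrix (Fin 2) (Fin ε) F} (h : Rel P.σ H X)
    (h' : Rel P.σ H' X') :
    P.el c H X * P.el c' H' X' =
      P.el (c + c') (H + lev c * H' * st P.σ (lev c) - X * st P.σ (lev c * X')) (X + lev c * X') := by
  rw [P.el_eq h, P.el_eq h', P.el_eq (P.rel_mul h h'), ← map_mul]
  exact congrArg P.Φ (Subtype.ext (uni_mul P.σσ c c' H H' X X'))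

/-- The unipotent subgroup. -/
noncomputable def sub [Finite G] : Subgroup G :=
  let M : Submonoid G :=
    { carrier := {g | ∃ c H X, Rel P.σ H X ∧ g = P.el c H X}
      one_mem' := ⟨0, 0, 0, P.rel_zero, P.el_zero.symm⟩
      mul_mem' := by
        rintro _ _ ⟨c, H, X, h, rfl⟩ ⟨c', H', X', h', rfl⟩
        exact ⟨_, _, _, P.rel_mul h h', P.el_mul h h'⟩ }
  { M with
    inv_mem' := fun {g} hg => by
      have hord := orderOf_pos g
      have e : g⁻¹ = g ^ (orderOf g - 1) :=
        inv_eq_of_mul_eq_one_right (by rw [← pow_succ', Nat.sub_add_cancel hord, pow_orderOf_eq_one])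
      rw [e]
      exact M.pow_mem hg _ }

theorem mem_sub [Finite G] {g : G} : g ∈ P.sub ↔ ∃ c H X, Rel P.σ H X ∧ g = P.el c H X := Iff.rfl

open scoped Classical in
/-- The coordinates of a group element. -/
noncomputable def f (j : ℕ) (g : G) : F :=
  mco P.σ (Function.invFun P.Φ g : modelSub P.σ 2 ε).1 j

theorem f_el {c : F} {H : Matrix (Fin 2) (Fin 2) F} {X : Matrix (Fin 2) (Fin ε) F} (h : Rel P.σ H X) (j : ℕ) :
    P.f j (P.el c H X) = co c H X j := by
  rw [f, P.el_eq h, Function.leftInverse_invFun P.inj _, mco_uni]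

theorem lev_apply (c : F) : lev c 0 0 = 1 ∧ lev c 0 1 = c ∧ lev c 1 0 = 0 ∧ lev c 1 1 = 1 := by simp [lev]

theorem co_mul (c c' : F) (H H' : Matrix (Fin 2) (Fin 2) F) (X X' : Matrix (Fin 2) (Fin ε) F) (j : ℕ) :
    co (c + c') (H + lev c * H' * st P.σ (lev c) - X * st P.σ (lev c * X')) (X + lev c * X') j =
      match j with
      | 0 => H 0 0 + (H' 0 0 + c * H' 1 0 + (H' 0 1 + c * H' 1 1) * P.σ c) -
          xs X 0 * P.σ (xs X' 0 + c * xs X' 1)
      | 1 => H 0 1 + (H' 0 1 + c * H' 1 1) - xs X 0 * P.σ (xs X' 1)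
      | 2 => xs X 0 + (xs X' 0 + c * xs X' 1)
      | 3 => H 1 1 + H' 1 1 - xs X 1 * P.σ (xs X' 1)
      | 4 => c + c'
      | 5 => xs X 1 + xs X' 1
      | _ => 0 := by
  have hx0 : xs (lev c * X') 0 = xs X' 0 + c * xs X' 1 := by
    simp [xs, Matrix.mul_apply, Fin.sum_univ_two, lev, Finset.sum_add_distrib, Finset.mul_sum]
  have hx1 : xs (lev c * X') 1 = xs X' 1 := by
    simp [xs, Matrix.mul_apply, Fin.sum_univ_two, lev]
  have hadd : ∀ (Y Z : Matrix (Fin 2) (Fin ε) F) (i : Fin 2), xs (Y + Z) i = xs Y i + xs Z i := fun Y Z i => by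
    simp [xs, Finset.sum_add_distrib]
  have hC : (lev c * H' * st P.σ (lev c)) 0 0 = H' 0 0 + c * H' 1 0 + (H' 0 1 + c * H' 1 1) * P.σ c ∧
      (lev c * H' * st P.σ (lev c)) 0 1 = H' 0 1 + c * H' 1 1 ∧
      (lev c * H' * st P.σ (lev c)) 1 1 = H' 1 1 := by
    simp [Matrix.mul_apply, Matrix.vecMul, dotProduct, Fin.sum_univ_two, lev, st]
  rcases j with _ | _ | _ | _ | _ | _ | j <;>
    simp only [co, Matrix.sub_apply, Matrix.add_apply, hadd, hx0, hx1, hC.1, hC.2.1, hC.2.2, mul_st_apply P.le]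

theorem co_one_zero {H : Matrix (Fin 2) (Fin 2) F} {X : Matrix (Fin 2) (Fin ε) F} (h : Rel P.σ H X) :
    H 1 0 = -P.σ (H 0 1) - xs X 1 * P.σ (xs X 0) := by
  have e := congrFun (congrFun h 1) 0
  simp only [Matrix.add_apply, Matrix.zero_apply, mul_st_apply P.le] at e
  simp only [st, Matrix.transpose_apply, Matrix.map_apply] at e
  linear_combination e

theorem co_trace {H : Matrix (Fin 2) (Fin 2) F} {X : Matrix (Fin 2) (Fin ε) F} (h : Rel P.σ H X) (i : Fin 2) :
    H i i + P.σ (H i i) + xs X i * P.σ (xs X i) = 0 := by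
  have e := congrFun (congrFun h i) i
  simp only [Matrix.add_apply, Matrix.zero_apply, mul_st_apply P.le] at e
  simpa only [st, Matrix.transpose_apply, Matrix.map_apply] using e

/-- The coordinates on the unipotent subgroup. -/
noncomputable def coord [Finite G] : Coord F G where
  U := P.sub
  N := 6
  f := P.f
  sep := by
    rintro _ ⟨c, H, X, h, rfl⟩ hz
    have z : ∀ i < 6, co c H X i = 0 := fun i hi => by rw [← P.f_el h]; exact hz i hi
    have x0 : xs X 0 = 0 := z 2 (by norm_num)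
    have x1 : xs X 1 = 0 := z 5 (by norm_num)
    have hX : X = 0 := by
      ext i e
      rw [row_eq P.le X i e]
      fin_cases i <;> simp [x0, x1]
    have hc : c = 0 := z 4 (by norm_num)
    have h00 : H 0 0 = 0 := z 0 (by norm_num)
    have h01 : H 0 1 = 0 := z 1 (by norm_num)
    have h11 : H 1 1 = 0 := z 3 (by norm_num)
    have hH : H = 0 := by
      ext i j
      fin_cases i <;> fin_cases j
      · exact h00
      · exact h01
      · simp [P.co_one_zero h, h01, x0]
      · exact h11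
    rw [hc, hH, hX, P.el_zero]
  addl := by
    rintro j hj _ ⟨c, H, X, h, rfl⟩ hz _ ⟨c', H', X', h', rfl⟩
    have z : ∀ i, j < i → i < 6 → co c H X i = 0 := fun i h1 h2 => by rw [← P.f_el h]; exact hz i h1 h2
    rw [P.el_mul h h', P.f_el (P.rel_mul h h'), P.f_el h, P.f_el h', P.co_mul]
    interval_cases j
    · have c0 : c = 0 := z 4 (by norm_num) (by norm_num)
      have a0 : xs X 0 = 0 := z 2 (by norm_num) (by norm_num)
      simp [co, c0, a0]
    · have c0 : c = 0 := z 4 (by norm_num) (by norm_num)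
      have a0 : xs X 0 = 0 := z 2 (by norm_num) (by norm_num)
      simp [co, c0, a0]
    · have c0 : c = 0 := z 4 (by norm_num) (by norm_num)
      simp [co, c0]
    · have a1 : xs X 1 = 0 := z 5 (by norm_num) (by norm_num)
      simp [co, a1]
    · simp [co]
    · simp [co]
  addr := by
    rintro j hj _ ⟨c', H', X', h', rfl⟩ hz _ ⟨c, H, X, h, rfl⟩
    have z : ∀ i, j < i → i < 6 → co c' H' X' i = 0 := fun i h1 h2 => by rw [← P.f_el h']; exact hz i h1 h2
    rw [P.el_mul h h', P.f_el (P.rel_mul h h'), P.f_el h, P.f_el h', P.co_mul]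
    interval_cases j
    · have b1 : H' 0 1 = 0 := z 1 (by norm_num) (by norm_num)
      have b3 : H' 1 1 = 0 := z 3 (by norm_num) (by norm_num)
      have a0 : xs X' 0 = 0 := z 2 (by norm_num) (by norm_num)
      have a1 : xs X' 1 = 0 := z 5 (by norm_num) (by norm_num)
      have b2 : H' 1 0 = 0 := by simp [P.co_one_zero h', b1, a1]
      simp [co, b1, b2, b3, a0, a1]
    · have b3 : H' 1 1 = 0 := z 3 (by norm_num) (by norm_num)
      have a1 : xs X' 1 = 0 := z 5 (by norm_num) (by norm_num)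
      simp [co, b3, a1]
    · have a1 : xs X' 1 = 0 := z 5 (by norm_num) (by norm_num)
      simp [co, a1]
    · have a1 : xs X' 1 = 0 := z 5 (by norm_num) (by norm_num)
      simp [co, a1]
    · simp [co]
    · simp [co]

/-- A column with one entry. -/
def col (i : Fin 2) (a : F) : Matrix (Fin 2) (Fin ε) F := Matrix.of fun r _ => if r = i then a else 0

theorem xs_col (i r : Fin 2) (a : F) : xs (col (ε := ε) i a) r = if r = i then (ε : F) * a else 0 := by
  rcases eq_or_ne r i with h | h <;> simp [xs, col, h]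

/-- The parameters of a root element. -/
def param : ℕ → F → F × Matrix (Fin 2) (Fin 2) F × Matrix (Fin 2) (Fin ε) F
  | 0, a => (0, !![P.δ * (a + P.σ a), 0; 0, 0], 0)
  | 1, a => (0, !![0, a; -P.σ a, 0], 0)
  | 2, a => (0, -P.τ • (col (ε := ε) 0 a * st P.σ (col (ε := ε) 0 a)), col (ε := ε) 0 a)
  | 3, a => (0, !![0, 0; 0, P.δ * (a + P.σ a)], 0)
  | 4, a => (a, 0, 0)
  | 5, a => (0, -P.τ • (col (ε := ε) 1 a * st P.σ (col (ε := ε) 1 a)), col (ε := ε) 1 a)
  | _, _ => (0, 0, 0)

theorem rel_col (i : Fin 2) (a : F) : Rel P.σ (-P.τ • (col (ε := ε) i a * st P.σ (col (ε := ε) i a))) (col (ε := ε) i a) := by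
  rw [Rel, st_smul, st_mul, st_st P.σσ, ← add_smul]
  conv_lhs => rw [← one_smul F (col (ε := ε) i a * st P.σ (col i a))]
  rw [smul_smul, ← add_smul, mul_one, show -P.τ + P.σ (-P.τ) + 1 = 0 by rw [map_neg]; linear_combination -P.hτ,
    zero_smul]

theorem rel_param (j : ℕ) (a : F) : Rel P.σ (P.param j a).2.1 (P.param j a).2.2 := by
  rcases j with _ | _ | _ | _ | _ | _ | j
  · ext i k
    fin_cases i <;> fin_cases k <;> simp [param, st, P.σσ]
    linear_combination (a + P.σ a) * P.hδ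
  · ext i k
    fin_cases i <;> fin_cases k <;> simp [param, st, P.σσ]
  · exact P.rel_col 0 a
  · ext i k
    fin_cases i <;> fin_cases k <;> simp [param, st, P.σσ]
    linear_combination (a + P.σ a) * P.hδ
  · exact P.rel_zero
  · exact P.rel_col 1 a
  · exact P.rel_zero

/-- The root elements. -/
noncomputable def rt (j : ℕ) (a : F) : G := P.el (P.param j a).1 (P.param j a).2.1 (P.param j a).2.2

/-- The additive maps onto the layers. -/
def phi : ℕ → F → F
  | 0, a | 3, a => P.δ * (a + P.σ a)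
  | 2, a | 5, a => (ε : F) * a
  | _, a => a

theorem co_param {j : ℕ} (hj : j < 6) (a : F) :
    co (P.param j a).1 (P.param j a).2.1 (P.param j a).2.2 j = P.phi j a ∧
      ∀ i, j < i → i < 6 → co (P.param j a).1 (P.param j a).2.1 (P.param j a).2.2 i = 0 := by
  have hz : ∀ r, xs (0 : Matrix (Fin 2) (Fin ε) F) r = 0 := fun r => by simp [xs]
  interval_cases j <;> refine ⟨?_, fun i h1 h2 => ?_⟩ <;> try interval_cases i
  all_goals simp [param, co, phi, hz, xs_col, mul_st_apply P.le]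

theorem trace_surj {y : F} (hy : y + P.σ y = 0) : ∃ a, P.δ * (a + P.σ a) = y := by
  have hd := P.δ0
  have hσd : P.σ P.δ = -P.δ := by linear_combination P.hδ
  refine ⟨P.τ * (y / P.δ), ?_⟩
  rw [map_mul, map_div₀, hσd, show P.σ y = -y by linear_combination hy, neg_div_neg_eq, ← add_mul, P.hτ, one_mul,
    mul_div_cancel₀ _ hd]

theorem cover_phi [Finite G] {j : ℕ} (hj : j < 6) (g : G) (hg : g ∈ P.coord.V (j + 1)) :
    ∃ a, P.phi j a = P.f j g := by
  obtain ⟨⟨c, H, X, h, rfl⟩, hz⟩ := hg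
  have z : ∀ i, j < i → i < 6 → co c H X i = 0 := fun i h1 h2 => by rw [← P.f_el h]; exact hz i h1 h2
  rw [P.f_el h]
  have hx : ∀ r, ∃ a : F, (ε : F) * a = xs X r := fun r => by
    rcases Nat.le_one_iff_eq_zero_or_eq_one.1 P.le with rfl | rfl
    · exact ⟨0, by simp [xs]⟩
    · exact ⟨xs X r, by simp⟩
  interval_cases j
  · obtain ⟨a, ha⟩ := P.trace_surj (y := H 0 0) (by
      have a0 : xs X 0 = 0 := z 2 (by norm_num) (by norm_num)
      simpa [a0] using P.co_trace h 0)
    exact ⟨a, ha⟩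
  · exact ⟨H 0 1, rfl⟩
  · exact hx 0
  · obtain ⟨a, ha⟩ := P.trace_surj (y := H 1 1) (by
      have a1 : xs X 1 = 0 := z 5 (by norm_num) (by norm_num)
      simpa [a1] using P.co_trace h 1)
    exact ⟨a, ha⟩
  · exact ⟨c, rfl⟩
  · exact hx 1

end Four

end Cfsg.Lib.UnitMult
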