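import Cfsg.Agent.Lib.Linear.PSUSimple
import Cfsg.Agent.Lib.Linear.HermParabolic

/-!
# Vectors of norm one and transitivity for the induction on the dimension of `SU`

Common perpendicular vectors of norm one for three or four given vectors, short chains of such
vectors, and transitivity of `SU` on vectors of norm one with prescribed fixed vectors.
-/

set_option autoImplicit false

namespace Cfsg.Lib.UnitMult.Step

open Module Cfsg.Lib.Linear Cfsg.Lib.Linear.Herm
open scoped Matrix

variable {F : Type*} [Field F] [Fintype F] {q n : ℕ} (hF : Fintype.card F = q ^ 2)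

/-- The vectors perpendicular to a tuple. -/
noncomputable def perpT {k : ℕ} (s : Fin k → (Fin n → F)) : Submodule F (Fin n → F) :=
  LinearMap.ker (LinearMap.pi fun i => hB hF n (s i))

theorem mem_perpT {k : ℕ} {s : Fin k → (Fin n → F)} {v : Fin n → F} :
    v ∈ perpT hF s ↔ ∀ i, hB hF n (s i) v = 0 := by
  simp [perpT, LinearMap.mem_ker, funext_iff]

theorem le_finrank_perpT {k : ℕ} (s : Fin k → (Fin n → F)) :
    n ≤ finrank F (perpT hF s) + k := by
  have h := LinearMap.finrank_range_add_finrank_ker (LinearMap.pi fun i => hB hF n (s i))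
  have h' := Submodule.finrank_le (LinearMap.range (LinearMap.pi fun i => hB hF n (s i)))
  rw [finrank_fin_fun] at h h'
  rw [perpT]
  omega

/-- The Gram matrix of a tuple is non-singular. -/
def GramInj {j : ℕ} (t : Fin j → (Fin n → F)) : Prop :=
  ∀ c : Fin j → F, (∀ i, ∑ l, c l * hB hF n (t i) (t l) = 0) → c = 0

/-- A subspace of a span perpendicular to a tuple of that span with non-singular Gram matrix is small. -/
theorem finrank_le_sub {k j : ℕ} {s : Fin k → (Fin n → F)} {t : Fin j → (Fin n → F)}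
    (ht : ∀ l, t l ∈ Submodule.span F (Set.range s)) (hg : GramInj hF t)
    {S : Submodule F (Fin n → F)} (hS : S ≤ Submodule.span F (Set.range s))
    (hSt : ∀ z ∈ S, ∀ l, hB hF n (t l) z = 0) : finrank F S + j ≤ k := by
  set M := Submodule.span F (Set.range s)
  let Ψ : (S × (Fin j → F)) →ₗ[F] M :=
    ((S.subtype).coprod (Fintype.linearCombination F t)).codRestrict M fun p => by
      simp only [LinearMap.coprod_apply, Submodule.subtype_apply, Fintype.linearCombination_apply]
      exact M.add_mem (hS p.1.2) (M.sum_mem fun l _ => M.smul_mem _ (ht l))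
  have hinj : Function.Injective Ψ := (injective_iff_map_eq_zero Ψ).2 fun p hp => by
    have h : (p.1 : Fin n → F) + ∑ l, p.2 l • t l = 0 := by
      simpa [Ψ, Fintype.linearCombination_apply, Subtype.ext_iff] using hp
    have hc : p.2 = 0 := hg _ fun i => by
      have := congrArg (hB hF n (t i)) h
      rw [map_add, hSt _ p.1.2 i, map_sum, map_zero, zero_add] at this
      simpa [map_smul, smul_eq_mul] using this
    rw [hc] at h
    exact Prod.ext (Subtype.ext (by simpa using h)) hc
  have h1 := LinearMap.finrank_le_finrank_of_injective hinj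
  rw [Module.finrank_prod, finrank_fin_fun] at h1
  have h2 : finrank F M ≤ k := (finrank_range_le_card s).trans (le_of_eq (Fintype.card_fin k))
  omega

theorem self_fix (v : Fin n → F) : frob hF (hB hF n v v) = hB hF n v v := (hB_isSymm hF n).eq v v

theorem swap0 {x y : Fin n → F} (h : hB hF n x y = 0) : hB hF n y x = 0 :=
  (hB_isSymm hF n).isRefl _ _ h

/-- An anisotropic vector can be scaled to norm one. -/
theorem exists_scale {v : Fin n → F} (hv : hB hF n v v ≠ 0) :
    ∃ c : F, c ≠ 0 ∧ hB hF n (c • v) (c • v) = 1 := by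
  obtain ⟨c, hc⟩ := exists_norm_fixed (frob_ne_id hF) (frob_frob hF) (inv_ne_zero hv)
    (by rw [map_inv₀, self_fix hF v])
  refine ⟨c, fun h => inv_ne_zero hv (by rw [← hc, h, mul_zero]), ?_⟩
  rw [map_smul, LinearMap.map_smulₛₗ, LinearMap.smul_apply, smul_eq_mul, smul_eq_mul,
    ← mul_assoc, mul_comm c, hc, inv_mul_cancel₀ hv]

/-- Without a perpendicular vector of norm one, the perpendicular lies in the span. -/
theorem perpT_le_span {k : ℕ} {s : Fin k → (Fin n → F)}
    (h : ¬ ∃ w, hB hF n w w = 1 ∧ ∀ i, hB hF n (s i) w = 0) :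
    perpT hF s ≤ Submodule.span F (Set.range s) := by
  have hiso : ∀ z ∈ perpT hF s, hB hF n z z = 0 := fun z hz => by
    by_contra hzz
    obtain ⟨c, -, hc⟩ := exists_scale hF hzz
    exact h ⟨c • z, hc, fun i => by rw [map_smul, (mem_perpT hF).1 hz i, smul_zero]⟩
  intro z hz
  by_contra hzM
  obtain ⟨u, hu, hzu⟩ := exists_perp_ne_zero (frob_frob hF) (hB_isSymm hF n)
    (hB_nondegenerate hF n) _ hzM
  have hu' : u ∈ perpT hF s := (mem_perpT hF).2 fun i => hu _ (Submodule.subset_span ⟨i, rfl⟩)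
  obtain ⟨c, hc⟩ : ∃ c : F, frob hF c ≠ c := by
    by_contra h'; push Not at h'; exact frob_ne_id hF (RingHom.ext h')
  have h1 := hiso _ ((perpT hF s).add_mem hz hu')
  have h2 := hiso _ ((perpT hF s).add_mem ((perpT hF s).smul_mem c hz) hu')
  simp only [map_add, LinearMap.add_apply, map_smul, LinearMap.map_smulₛₗ, LinearMap.smul_apply,
    smul_eq_mul, RingHom.id_apply, hiso z hz, hiso u hu', mul_zero, add_zero, zero_add] at h1 h2
  have h3 : (frob hF c - c) * hB hF n z u = 0 := by linear_combination h2 - c * h1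
  exact hzu ((mul_eq_zero.1 h3).resolve_left (sub_ne_zero.2 hc))

/-- A common perpendicular vector of norm one. -/
theorem exists_common {k j : ℕ} (s : Fin k → (Fin n → F)) (t : Fin j → (Fin n → F))
    (ht : ∀ l, t l ∈ Submodule.span F (Set.range s)) (hg : GramInj hF t) (h : 2 * k < n + j) :
    ∃ w, hB hF n w w = 1 ∧ ∀ i, hB hF n (s i) w = 0 := by
  by_contra hc
  have h1 := finrank_le_sub hF ht hg (perpT_le_span hF hc) fun z hz l => by
    have : Submodule.span F (Set.range s) ≤ LinearMap.ker ((hB hF n).flip z) := by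
      rw [Submodule.span_le]
      rintro _ ⟨i, rfl⟩
      exact (mem_perpT hF).1 hz i
    exact this (ht l)
  have h2 := le_finrank_perpT hF s
  omega

theorem gram_one {a : Fin n → F} (ha : hB hF n a a = 1) : GramInj hF ![a] := fun c hc => by
  have := hc 0
  simp [ha] at this
  exact funext fun i => by fin_cases i; simpa using this

theorem gram_two {a u : Fin n → F} (ha : hB hF n a a = 1) (hu : hB hF n u u = 1)
    (hau : hB hF n a u = 0) : GramInj hF ![a, u] := fun c hc => by
  have h0 := hc 0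
  have h1 := hc 1
  simp [Fin.sum_univ_two, ha, hu, hau, swap0 hF hau] at h0 h1
  exact funext fun i => by fin_cases i <;> simp [h0, h1]

theorem gram_three {a u v : Fin n → F} (ha : hB hF n a a = 1) (hu : hB hF n u u = 1)
    (hv : hB hF n v v = 1) (hau : hB hF n a u = 0) (hav : hB hF n a v = 0)
    (huv : frob hF (hB hF n u v) * hB hF n u v ≠ 1) : GramInj hF ![a, u, v] := fun c hc => by
  have h0 := hc 0
  have h1 := hc 1
  have h2 := hc 2
  simp [Fin.sum_univ_three, ha, hu, hv, hau, hav, swap0 hF hau, swap0 hF hav,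
    ← (hB_isSymm hF n).eq u v] at h0 h1 h2
  have h3 : c 2 * (1 - frob hF (hB hF n u v) * hB hF n u v) = 0 := by
    linear_combination h2 - frob hF (hB hF n u v) * h1
  have hc2 : c 2 = 0 := (mul_eq_zero.1 h3).resolve_right (sub_ne_zero.2 (Ne.symm huv))
  rw [hc2, zero_mul, add_zero] at h1
  exact funext fun i => by fin_cases i <;> simp [h0, h1, hc2]

/-- Three vectors, the first of norm one, have a common perpendicular of norm one. -/
theorem exists_common_three (hn : 6 ≤ n) {a : Fin n → F} (ha : hB hF n a a = 1)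
    (b x : Fin n → F) :
    ∃ w, hB hF n w w = 1 ∧ hB hF n w a = 0 ∧ hB hF n w b = 0 ∧ hB hF n w x = 0 := by
  obtain ⟨w, hw, h⟩ := exists_common hF ![a, b, x] ![a]
    (fun l => Submodule.subset_span ⟨0, by fin_cases l; rfl⟩) (gram_one hF ha) (by omega)
  exact ⟨w, hw, swap0 hF (h 0), swap0 hF (h 1), swap0 hF (h 2)⟩

/-- Two perpendiculars of `a` and `b` whose product has norm different from one, or any two in
dimension at least seven, have a common perpendicular of norm one perpendicular to `a` and `b`. -/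
theorem exists_common_four (hn : 6 ≤ n) {a b u v : Fin n → F} (ha : hB hF n a a = 1)
    (hu : hB hF n u u = 1) (hv : hB hF n v v = 1) (hua : hB hF n u a = 0) (hva : hB hF n v a = 0)
    (h : 7 ≤ n ∨ frob hF (hB hF n u v) * hB hF n u v ≠ 1) :
    ∃ w, hB hF n w w = 1 ∧ hB hF n w a = 0 ∧ hB hF n w b = 0 ∧ hB hF n w u = 0 ∧
      hB hF n w v = 0 := by
  obtain ⟨w, hw, h'⟩ : ∃ w, hB hF n w w = 1 ∧ ∀ i, hB hF n (![a, b, u, v] i) w = 0 := by
    rcases h with h | h
    · refine exists_common hF _ ![a, u] (fun l => ?_) (gram_two hF ha hu (swap0 hF hua)) (by omega)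
      exact Submodule.subset_span ⟨![0, 2] l, by fin_cases l <;> rfl⟩
    · refine exists_common hF _ ![a, u, v] (fun l => ?_)
        (gram_three hF ha hu hv (swap0 hF hua) (swap0 hF hva) h) (by omega)
      exact Submodule.subset_span ⟨![0, 2, 3] l, by fin_cases l <;> rfl⟩
  exact ⟨w, hw, swap0 hF (h' 0), swap0 hF (h' 1), swap0 hF (h' 2), swap0 hF (h' 3)⟩

theorem exists_fixed_ne (hq : 3 ≤ q) (m : F) : ∃ s : F, frob hF s = s ∧ s ≠ 0 ∧ s ≠ m := by
  classical
  by_contra hno
  push Not at hno
  have : Nat.card {a : F // a ^ q = a} ≤ 2 := by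
    rw [Nat.card_eq_fintype_card, Fintype.card_subtype]
    refine (Finset.card_le_card (t := {0, m}) fun a ha => ?_).trans Finset.card_le_two
    simp only [Finset.mem_filter, Finset.mem_univ, true_and] at ha
    by_cases h0 : a = 0
    · simp [h0]
    · simp [hno a (by rw [frob_apply, ha]) h0]
  rw [Herm.card_fixed hF] at this
  omega

/-- In dimension six a perpendicular vector of norm one with product of norm different from one. -/
theorem exists_move (hn : n = 6) (hq : 3 ≤ q) {a b u u' : Fin n → F} (ha : hB hF n a a = 1)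
    (hu : hB hF n u u = 1) (hua : hB hF n u a = 0)
    (hno : ¬ ∃ w, hB hF n w w = 1 ∧ ∀ i, hB hF n (![a, b, u, u'] i) w = 0) :
    ∃ v, hB hF n v v = 1 ∧ hB hF n v a = 0 ∧ hB hF n v b = 0 ∧ hB hF n v u = 0 ∧
      frob hF (hB hF n v u') * hB hF n v u' ≠ 1 := by
  set K := perpT hF ![a, b, u, u']
  have hK : ∀ z ∈ K, hB hF n a z = 0 ∧ hB hF n b z = 0 ∧ hB hF n u z = 0 ∧ hB hF n u' z = 0 :=
    fun z hz => ⟨(mem_perpT hF).1 hz 0, (mem_perpT hF).1 hz 1, (mem_perpT hF).1 hz 2,
      (mem_perpT hF).1 hz 3⟩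
  obtain ⟨z, hz, hzM⟩ : ∃ z ∈ K, z ∉ Submodule.span F (Set.range ![a, b, u]) := by
    by_contra hc
    push Not at hc
    have h1 := finrank_le_sub hF (s := ![a, b, u]) (t := ![a, u])
      (fun l => Submodule.subset_span ⟨![0, 2] l, by fin_cases l <;> rfl⟩)
      (gram_two hF ha hu (swap0 hF hua)) (S := K) (fun z hz => hc z hz)
      (fun z hz l => by fin_cases l; exacts [(hK z hz).1, (hK z hz).2.2.1])
    have h2 := le_finrank_perpT hF ![a, b, u, u']
    change n ≤ finrank F K + 4 at h2
    omega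
  have hzz : hB hF n z z = 0 := by
    by_contra hzz
    obtain ⟨c, -, hc⟩ := exists_scale hF hzz
    exact hno ⟨c • z, hc, fun i => by rw [map_smul, (mem_perpT hF).1 hz i, smul_zero]⟩
  obtain ⟨y, hy, hzy⟩ := exists_perp_ne_zero (frob_frob hF) (hB_isSymm hF n)
    (hB_nondegenerate hF n) _ hzM
  obtain ⟨hza, hzb, hzu, hzu'⟩ := hK z hz
  have hyz : hB hF n y z ≠ 0 := fun h => hzy (swap0 hF h)
  set T : F → (Fin n → F) := fun t => y + t • z
  have hT : ∀ t x, hB hF n x z = 0 → hB hF n x (T t) = hB hF n x y := fun t x h => by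
    show hB hF n x (y + t • z) = _
    rw [map_add, map_smul, h, smul_zero, add_zero]
  have hN : ∀ t, hB hF n (T t) (T t) = hB hF n y y + (t * hB hF n y z + frob hF (t * hB hF n y z)) :=
    fun t => by
      show hB hF n (y + t • z) (y + t • z) = _
      simp only [map_add, map_smul, LinearMap.map_smulₛₗ, LinearMap.add_apply, LinearMap.smul_apply,
        smul_eq_mul, RingHom.id_apply, hzz, ← (hB_isSymm hF n).eq y z, map_mul]
      ring
  obtain ⟨s, hs, hs0, hsm⟩ := exists_fixed_ne hF hq (frob hF (hB hF n u' y) * hB hF n u' y)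
  obtain ⟨r, hr⟩ := exists_trace_eq (frob_ne_id hF) (frob_frob hF) (a := s - hB hF n y y)
    (by rw [map_sub, hs, self_fix hF y])
  set t := r / hB hF n y z
  have hnorm : hB hF n (T t) (T t) = s := by
    rw [hN, show t * hB hF n y z = r from div_mul_cancel₀ r hyz, hr, add_sub_cancel]
  obtain ⟨c, hc0, hc⟩ := exists_scale hF (v := T t) (by rw [hnorm]; exact hs0)
  have hcs : frob hF c * c * s = 1 := by
    rw [← hc, ← hnorm]
    simp only [map_smul, LinearMap.map_smulₛₗ, LinearMap.smul_apply, smul_eq_mul, RingHom.id_apply]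
    ring
  have hperp : ∀ x, hB hF n x z = 0 → hB hF n x y = 0 → hB hF n (c • T t) x = 0 := fun x h1 h2 => by
    apply swap0 hF
    rw [map_smul, hT t x h1, h2, smul_zero]
  refine ⟨c • T t, hc, hperp a hza (hy a (Submodule.subset_span ⟨0, rfl⟩)),
    hperp b hzb (hy b (Submodule.subset_span ⟨1, rfl⟩)),
    hperp u hzu (hy u (Submodule.subset_span ⟨2, rfl⟩)), ?_⟩
  intro h
  apply hsm
  rw [← (hB_isSymm hF n).eq u' (c • T t), map_smul, hT t u' hzu', smul_eq_mul, frob_frob,
    map_mul] at h
  linear_combination (frob hF (hB hF n u' y) * hB hF n u' y) * hcs - s * h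

/-- Transitivity of `SU` with prescribed fixed vectors. -/
theorem exists_su (hn : 4 ≤ n) (X : Submodule F (Fin n → F)) {a b u : Fin n → F} (ha : a ∉ X)
    (hb : b ∉ X) (h : ∀ x ∈ X, hB hF n x a = hB hF n x b) (hab : hB hF n a a = hB hF n b b)
    (hu : hB hF n u u = 1) (huX : ∀ x ∈ X, hB hF n u x = 0) (hub : hB hF n u b = 0) :
    ∃ g : Cfsg.SU n F q, suToLin n F q g a = b ∧ ∀ x ∈ X, suToLin n F q g x = x := by
  have C := bigSpace hF hn
  obtain ⟨t, ⟨hti, htX⟩, hta⟩ := exists_map (frob_ne_id hF) (frob_frob hF) (hB_isSymm hF n)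
    (hB_nondegenerate hF n) X ha hb h hab
  have hd := Big.det_norm C hti
  set d : F := (LinearEquiv.det t : F) with hdd
  have hd0 : d ≠ 0 := Units.ne_zero _
  have hl : (d⁻¹ - 1) + frob hF (d⁻¹ - 1) + frob hF (d⁻¹ - 1) * (d⁻¹ - 1) * hB hF n u u = 0 := by
    rw [hu, mul_one, map_sub, map_one, map_inv₀]
    have h' : (frob hF d)⁻¹ * d⁻¹ = 1 := by rw [← mul_inv, hd, inv_one]
    linear_combination h'
  set r := qrefl (B := hB hF n) u (d⁻¹ - 1) hl
  have hrfix : ∀ x, hB hF n u x = 0 → r x = x := fun x hx => by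
    rw [qrefl_apply, hx, mul_zero, zero_smul, add_zero]
  have hmem : r * t ∈ (suToLin n F q).range := by
    rw [suToLin_range hF (Or.inl hn), Big.mem_tv C]
    refine ⟨mul_mem (qrefl_mem_iso (hB_isSymm hF n) _ _ _) hti, Units.ext ?_⟩
    rw [map_mul, Units.val_mul, Herm.det_qrefl, hu, mul_one, add_sub_cancel, ← hdd,
      inv_mul_cancel₀ hd0, Units.val_one]
  obtain ⟨g, hg⟩ := hmem
  exact ⟨g, by rw [hg, LinearEquiv.mul_apply, hta, hrfix b hub],
    fun x hx => by rw [hg, LinearEquiv.mul_apply, htX x hx, hrfix x (huX x hx)]⟩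

end Cfsg.Lib.UnitMult.Step
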