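import Cfsg.Agent.Lib.UnitMult.StepForm

/-!
# Stabilisers of vectors of norm one in `SU`

The stabiliser of a vector of norm one is `SU` of the dimension one less; stabilisers of one or
two perpendicular such vectors are perfect.
-/

set_option autoImplicit false

namespace Cfsg.Lib.UnitMult.Step

open Module Cfsg.Lib.Linear Cfsg.Lib.Linear.Herm
open scoped Matrix

variable {F : Type*} [Field F] [Fintype F] {q n m : ℕ}

/-- The elements of `SU` fixing a set of vectors. -/
def Fix (n : ℕ) (F : Type*) [Field F] (q : ℕ) (s : Set (Fin n → F)) : Subgroup (Cfsg.SU n F q) where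
  carrier := {g | ∀ x ∈ s, suToLin n F q g x = x}
  one_mem' := fun x _ => by rw [map_one]; rfl
  mul_mem' := fun {g h} hg hh x hx => by rw [map_mul, LinearEquiv.mul_apply, hh x hx, hg x hx]
  inv_mem' := fun {g} hg x hx => by
    nth_rw 1 [← hg x hx]
    rw [← LinearEquiv.mul_apply, ← map_mul, inv_mul_cancel, map_one]; rfl

omit [Fintype F] in
theorem mem_Fix {s : Set (Fin n → F)} {g : Cfsg.SU n F q} :
    g ∈ Fix n F q s ↔ ∀ x ∈ s, suToLin n F q g x = x := Iff.rfl

omit [Fintype F] in
theorem fix_mono {s t : Set (Fin n → F)} (h : s ⊆ t) : Fix n F q t ≤ Fix n F q s :=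
  fun _ hg x hx => hg x (h hx)

theorem suToLin_form (hF : Fintype.card F = q ^ 2) (g : Cfsg.SU n F q) (x y : Fin n → F) :
    hB hF n (suToLin n F q g x) (suToLin n F q g y) = hB hF n x y := g.2 y x

theorem su_perfect (hF : Fintype.card F = q ^ 2) (hn : 4 ≤ n) :
    commutator (Cfsg.SU n F q) = ⊤ := by
  have C := bigSpace hF hn
  have hran := suToLin_range hF (n := n) (Or.inl hn)
  refine Subgroup.map_injective (suToLin_injective (q := q) n) ?_
  rw [commutator_def, Subgroup.map_commutator, ← MonoidHom.range_eq_map, hran]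
  exact le_antisymm (by
    rw [Subgroup.commutator_le]
    exact fun a ha b hb => mul_mem (mul_mem (mul_mem ha hb) (inv_mem ha)) (inv_mem hb))
    (Big.tv_le_commutator C)


/-- The block matrix with an additional `1` in the last place. -/
def embMat (A : Matrix (Fin m) (Fin m) F) : Matrix (Fin (m + 1)) (Fin (m + 1)) F :=
  Matrix.reindex finSumFinEquiv finSumFinEquiv (Matrix.fromBlocks A 0 0 (1 : Matrix (Fin 1) (Fin 1) F))

omit [Fintype F] in
theorem embMat_mulVec (A : Matrix (Fin m) (Fin m) F) (v : Fin (m + 1) → F) :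
    embMat A *ᵥ v = Fin.snoc (A *ᵥ Fin.init v) (v (Fin.last m)) := by
  rw [embMat, Matrix.reindex_apply, Matrix.submatrix_mulVec_equiv, Matrix.fromBlocks_mulVec]
  funext i
  refine Fin.lastCases ?_ (fun j => ?_) i
  · simp only [Function.comp_apply, Fin.snoc_last]
    rw [show finSumFinEquiv.symm (Fin.last m) = Sum.inr (0 : Fin 1) from finSumFinEquiv.injective (by simp [Fin.last, Fin.ext_iff])]
    simp
    rfl
  · simp only [Function.comp_apply, Fin.snoc_castSucc]
    rw [show finSumFinEquiv.symm j.castSucc = Sum.inl j from finSumFinEquiv.injective (by simp [Fin.ext_iff])]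
    simp
    rfl

omit [Fintype F] in
theorem hermForm_snoc (x y : Fin m → F) (c d : F) :
    Cfsg.hermForm (m + 1) F q (Fin.snoc x c) (Fin.snoc y d) =
      Cfsg.hermForm m F q x y + c * d ^ q := by
  simp [Cfsg.hermForm, Fin.sum_univ_castSucc]

/-- The embedding of `SU m` as the stabiliser of the last coordinate vector. -/
def embSU (m : ℕ) (F : Type*) [Field F] (q : ℕ) : Cfsg.SU m F q →* Cfsg.SU (m + 1) F q where
  toFun g := ⟨⟨embMat (g : Matrix.SpecialLinearGroup (Fin m) F).1, by
      rw [embMat, Matrix.det_reindex_self, Matrix.det_fromBlocks_zero₂₁, Matrix.det_one, mul_one]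
      exact (g : Matrix.SpecialLinearGroup (Fin m) F).2⟩, fun u v => by
    show Cfsg.hermForm (m + 1) F q (embMat _ *ᵥ u) (embMat _ *ᵥ v) = _
    rw [embMat_mulVec, embMat_mulVec, hermForm_snoc]
    conv_rhs => rw [← Fin.snoc_init_self u, ← Fin.snoc_init_self v, hermForm_snoc]
    exact congrArg (· + _) (g.2 _ _)⟩
  map_one' := Subtype.ext (Subtype.ext (by
    show embMat (1 : Matrix (Fin m) (Fin m) F) = 1
    rw [embMat, Matrix.fromBlocks_one]
    simp))
  map_mul' g h := Subtype.ext (Subtype.ext (by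
    show embMat (_ * _) = embMat _ * embMat _
    simp only [embMat, Matrix.reindex_apply, Matrix.submatrix_mul_equiv, Matrix.fromBlocks_multiply]
    simp))

omit [Fintype F] in
theorem embSU_apply (g : Cfsg.SU m F q) (x : Fin m → F) (c : F) :
    suToLin (m + 1) F q (embSU m F q g) (Fin.snoc x c) = Fin.snoc (suToLin m F q g x) c := by
  show embMat _ *ᵥ _ = _
  rw [embMat_mulVec, Fin.init_snoc, Fin.snoc_last]
  rfl

omit [Fintype F] in
theorem init_snoc' (x : Fin m → F) (c : F) : Fin.init (Fin.snoc x c : Fin (m + 1) → F) = x :=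
  by simp

theorem embSU_injective : Function.Injective (embSU m F q) := fun g h e =>
  suToLin_injective m (LinearEquiv.ext fun x => by
    have h1 := embSU_apply g x (0 : F)
    rw [e, embSU_apply] at h1
    simpa using (congrArg Fin.init h1).symm)

/-- The last coordinate vector. -/
def eLast (m : ℕ) (F : Type*) [Field F] : Fin (m + 1) → F := Fin.snoc 0 1

theorem form_eLast (hF : Fintype.card F = q ^ 2) (v : Fin (m + 1) → F) :
    hB hF (m + 1) (eLast m F) v = v (Fin.last m) := by
  rw [hB_apply, eLast, ← Fin.snoc_init_self v, hermForm_snoc, one_pow, mul_one, Fin.snoc_last]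
  have hq := two_le_q hF
  simp [Cfsg.hermForm, zero_pow (by omega : q ≠ 0)]

theorem embSU_range (hF : Fintype.card F = q ^ 2) :
    (embSU m F q).range = Fix (m + 1) F q {eLast m F} := by
  refine le_antisymm ?_ fun g hg => ?_
  · rintro _ ⟨g, rfl⟩ x hx
    rw [Set.mem_singleton_iff.1 hx, eLast, embSU_apply, map_zero]
  have hgl : suToLin (m + 1) F q g (eLast m F) = eLast m F := hg _ rfl
  set G := (g : Matrix.SpecialLinearGroup (Fin (m + 1)) F).1
  have hlast : ∀ v, (suToLin (m + 1) F q g v) (Fin.last m) = v (Fin.last m) := fun v => by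
    rw [← form_eLast hF (suToLin (m + 1) F q g v), ← form_eLast hF v]
    conv_lhs => rw [← hgl]
    exact suToLin_form hF g _ _
  let A : Matrix (Fin m) (Fin m) F := G.submatrix Fin.castSucc Fin.castSucc
  have hA : ∀ x : Fin m → F, A *ᵥ x = Fin.init (suToLin (m + 1) F q g (Fin.snoc x 0)) := fun x => by
    funext i
    show ∑ j, G i.castSucc j.castSucc * x j = (G *ᵥ Fin.snoc x 0) i.castSucc
    simp [Matrix.mulVec, dotProduct, Fin.sum_univ_castSucc]
  have hv : ∀ v, suToLin (m + 1) F q g v = embMat A *ᵥ v := fun v => by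
    rw [embMat_mulVec, hA]
    have hsplit : v = Fin.snoc (Fin.init v) 0 + v (Fin.last m) • eLast m F := by
      funext i
      refine Fin.lastCases ?_ (fun j => ?_) i <;> simp [eLast, Fin.init]
    conv_lhs => rw [hsplit, map_add, map_smul, hgl]
    funext i
    refine Fin.lastCases ?_ (fun j => ?_) i
    · simp [eLast, hlast]
    · simp [eLast, Fin.init]
  have hGA : embMat A = G := by
    refine Matrix.ext_of_mulVec_single fun i => ?_
    rw [← hv]; rfl
  have hdet : A.det = 1 := by
    have h := (g : Matrix.SpecialLinearGroup (Fin (m + 1)) F).2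
    change G.det = 1 at h
    rwa [← hGA, embMat, Matrix.det_reindex_self, Matrix.det_fromBlocks_zero₂₁, Matrix.det_one,
      mul_one] at h
  have hmem : (⟨A, hdet⟩ : Matrix.SpecialLinearGroup (Fin m) F) ∈ Cfsg.SU m F q := fun u v => by
    show Cfsg.hermForm m F q (A *ᵥ u) (A *ᵥ v) = _
    have h := g.2 (Fin.snoc u 0) (Fin.snoc v 0)
    change Cfsg.hermForm (m + 1) F q (suToLin (m + 1) F q g _) (suToLin (m + 1) F q g _) = _ at h
    rw [hv, hv, embMat_mulVec, embMat_mulVec, hermForm_snoc, hermForm_snoc, Fin.init_snoc,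
      Fin.init_snoc, Fin.snoc_last, Fin.snoc_last] at h
    simpa using h
  exact ⟨⟨⟨A, hdet⟩, hmem⟩, Subtype.ext (Subtype.ext hGA)⟩

/-- The stabiliser of a vector of norm one is `SU` of dimension one less, and the action on the
perpendicular is the natural one. -/
theorem exists_stab_equiv (hF : Fintype.card F = q ^ 2) (hm : 3 ≤ m) {a : Fin (m + 1) → F}
    (ha : hB hF (m + 1) a a = 1) :
    ∃ φ : Cfsg.SU m F q →* Cfsg.SU (m + 1) F q, Function.Injective φ ∧
      φ.range = Fix (m + 1) F q {a} ∧ ∀ w, hB hF (m + 1) a w = 0 →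
        ∃ w' : Fin m → F, hB hF m w' w' = hB hF (m + 1) w w ∧
          ∀ h, (suToLin (m + 1) F q (φ h) w = w ↔ suToLin m F q h w' = w') := by
  have hee : hB hF (m + 1) (eLast m F) (eLast m F) = 1 := by
    rw [form_eLast, eLast, Fin.snoc_last]
  obtain ⟨u, hu, hau⟩ := exists_common hF ![a] ![a]
    (fun l => Submodule.subset_span ⟨l, rfl⟩) (gram_one hF ha) (by omega)
  have hua := swap0 hF (hau 0)
  have hne : ∀ v, hB hF (m + 1) v v = 1 → v ∉ (⊥ : Submodule F (Fin (m + 1) → F)) := fun v hv h => by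
    rw [(Submodule.mem_bot F).1 h] at hv; simp at hv
  obtain ⟨g, hga, -⟩ := exists_su hF (by omega) ⊥ (hne _ hee) (hne _ ha)
    (fun x hx => by rw [(Submodule.mem_bot F).1 hx]; simp) (hee.trans ha.symm) hu
    (fun x hx => by rw [(Submodule.mem_bot F).1 hx, map_zero]) hua
  have hgi : ∀ v, suToLin (m + 1) F q g⁻¹ (suToLin (m + 1) F q g v) = v := fun v => by
    rw [← LinearEquiv.mul_apply, ← map_mul, inv_mul_cancel, map_one]; rfl
  have hgi' : ∀ v, suToLin (m + 1) F q g (suToLin (m + 1) F q g⁻¹ v) = v := fun v => by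
    rw [← LinearEquiv.mul_apply, ← map_mul, mul_inv_cancel, map_one]; rfl
  have hga' : suToLin (m + 1) F q g⁻¹ a = eLast m F := by rw [← hga, hgi]
  refine ⟨(MulAut.conj g).toMonoidHom.comp (embSU m F q),
    (MulAut.conj g).injective.comp embSU_injective, ?_, fun w hw => ?_⟩
  · rw [MonoidHom.range_comp, embSU_range hF]
    refine le_antisymm ?_ fun h hh => ?_
    · rintro _ ⟨h, hh, rfl⟩ x hx
      rw [Set.mem_singleton_iff.1 hx]
      show suToLin (m + 1) F q (g * h * g⁻¹) a = a
      rw [map_mul, map_mul, LinearEquiv.mul_apply, LinearEquiv.mul_apply, hga', hh _ rfl, hga]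
    · refine ⟨g⁻¹ * h * g, fun x hx => ?_, by simp [mul_assoc]⟩
      rw [Set.mem_singleton_iff.1 hx, map_mul, map_mul, LinearEquiv.mul_apply, LinearEquiv.mul_apply,
        hga, hh _ rfl, hga']
  set w₀ := suToLin (m + 1) F q g⁻¹ w
  have hw0 : w₀ (Fin.last m) = 0 := by
    rw [← form_eLast hF w₀, ← hga', suToLin_form, hw]
  have hsn : w₀ = Fin.snoc (Fin.init w₀) 0 := by rw [← hw0, Fin.snoc_init_self]
  have hq := two_le_q hF
  refine ⟨Fin.init w₀, ?_, fun h => ?_⟩
  · rw [← suToLin_form hF g⁻¹ w w]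
    show _ = hB hF (m + 1) w₀ w₀
    conv_rhs => rw [hsn, hB_apply, hermForm_snoc, zero_mul, add_zero]
    rfl
  show suToLin (m + 1) F q (g * embSU m F q h * g⁻¹) w = w ↔ _
  rw [map_mul, map_mul, LinearEquiv.mul_apply, LinearEquiv.mul_apply]
  show suToLin (m + 1) F q g (suToLin (m + 1) F q (embSU m F q h) w₀) = w ↔ _
  conv_lhs => rw [hsn, embSU_apply]
  constructor
  · intro e
    have e2 := congrArg (suToLin (m + 1) F q g⁻¹) e
    rw [hgi] at e2
    change Fin.snoc (suToLin m F q h (Fin.init w₀)) 0 = w₀ at e2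
    rw [← init_snoc' (suToLin m F q h (Fin.init w₀)) (0 : F), e2]
  · intro e
    rw [e, ← hsn]
    exact hgi' w

/-- Stabilisers of one vector of norm one are perfect. -/
theorem fix_one_perfect (hF : Fintype.card F = q ^ 2) (hm : 4 ≤ m) {a : Fin (m + 1) → F}
    (ha : hB hF (m + 1) a a = 1) :
    ⁅Fix (m + 1) F q {a}, Fix (m + 1) F q {a}⁆ = Fix (m + 1) F q {a} := by
  obtain ⟨φ, -, hr, -⟩ := exists_stab_equiv hF (by omega) ha
  rw [← hr, MonoidHom.range_eq_map, ← Subgroup.map_commutator, ← commutator_def,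
    su_perfect hF (by omega)]

/-- Stabilisers of two perpendicular vectors of norm one are perfect. -/
theorem fix_two_perfect (hF : Fintype.card F = q ^ 2) (hn : 6 ≤ n) {a w : Fin n → F}
    (ha : hB hF n a a = 1) (hw : hB hF n w w = 1) (haw : hB hF n a w = 0) :
    ⁅Fix n F q {a, w}, Fix n F q {a, w}⁆ = Fix n F q {a, w} := by
  obtain ⟨m, rfl⟩ : ∃ m, n = m + 1 := ⟨n - 1, by omega⟩
  obtain ⟨φ, -, hr, hφ⟩ := exists_stab_equiv hF (by omega) ha
  obtain ⟨w', hw', hiff⟩ := hφ w haw
  have heq : (Fix m F q {w'}).map φ = Fix (m + 1) F q {a, w} := by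
    refine le_antisymm ?_ fun g hg => ?_
    · rintro _ ⟨h, hh, rfl⟩ x hx
      rcases hx with hx | hx <;> rw [hx]
      · exact (show φ h ∈ Fix (m + 1) F q {a} from hr ▸ ⟨h, rfl⟩) _ rfl
      · exact (hiff h).2 (hh _ rfl)
    · obtain ⟨h, rfl⟩ : g ∈ φ.range := hr.symm ▸ fix_mono (by simp) hg
      exact ⟨h, fun x hx => by
        rw [Set.mem_singleton_iff.1 hx]; exact (hiff h).1 (hg w (by simp)), rfl⟩
  obtain ⟨l, rfl⟩ : ∃ l, m = l + 1 := ⟨m - 1, by omega⟩
  rw [← heq, ← Subgroup.map_commutator, fix_one_perfect hF (by omega) (hw'.trans hw)]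

end Cfsg.Lib.UnitMult.Step
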