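import Cfsg.Agent.Lib.UnitMult.Pairs

/-!
Dimension three: root elements, torus and separation of the two layers.
-/

set_option autoImplicit false
set_option linter.unusedSectionVars false

namespace Cfsg.Lib.UnitMult

open Matrix Cfsg.Lib.Linear.SUDegree Cfsg.Lib.Linear.Herm Cfsg.Lib.Chev.MultW
open scoped commutatorElement

universe u

/-- The parameters of the construction in dimension three. -/
structure Trio (F : Type*) [Field F] (G : Type u) [Group G] where
  σ : F →+* F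
  σσ : ∀ a, σ (σ a) = a
  τ : F
  hτ : τ + σ τ = 1
  δ : F
  δ0 : δ ≠ 0
  hδ : δ + σ δ = 0
  Φ : modelSub σ 1 1 →* G
  inj : Function.Injective Φ

namespace Trio

variable {F : Type*} [Field F] {G : Type u} [Group G] (P : Trio F G)

/-- The relation on a pair of scalars. -/
def Ok (h x : F) : Prop := h + P.σ h + x * P.σ x = 0

/-- A scalar as a matrix. -/
def sc (a : F) : Matrix (Fin 1) (Fin 1) F := Matrix.of fun _ _ => a

theorem rel_iff {h x : F} : Rel P.σ (sc h) (sc x) ↔ P.Ok h x := by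
  constructor
  · intro e
    have := congrFun (congrFun e 0) 0
    simpa [Ok, sc, st, Matrix.mul_apply] using this
  · intro e
    unfold Ok at e
    ext i j
    simpa [sc, st, Matrix.mul_apply] using e

open scoped Classical in
/-- The element with given parameters. -/
noncomputable def el (h x : F) : G :=
  if e : Rel P.σ (sc h) (sc x) then P.Φ ⟨uMat P.σ (sc h) (sc x), uMat_mem P.σσ e⟩ else 1

theorem el_eq {h x : F} (e : P.Ok h x) :
    P.el h x = P.Φ ⟨uMat P.σ (sc h) (sc x), uMat_mem P.σσ (P.rel_iff.2 e)⟩ := dif_pos (P.rel_iff.2 e)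

theorem ok_zero : P.Ok 0 0 := by simp [Ok]

theorem el_zero : P.el 0 0 = 1 := by
  rw [P.el_eq P.ok_zero, ← map_one P.Φ]
  refine congrArg P.Φ (Subtype.ext ?_)
  have e : sc (0 : F) = 0 := by ext; rfl
  show uMat P.σ (sc 0) (sc 0) = 1
  rw [e, uMat_zero]

theorem ok_mul {h x h' x' : F} (e : P.Ok h x) (e' : P.Ok h' x') : P.Ok (h + h' - x * P.σ x') (x + x') := by
  unfold Ok at *
  simp only [map_add, map_sub, map_mul, P.σσ]
  linear_combination e + e'

theorem el_mul {h x h' x' : F} (e : P.Ok h x) (e' : P.Ok h' x') :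
    P.el h x * P.el h' x' = P.el (h + h' - x * P.σ x') (x + x') := by
  rw [P.el_eq e, P.el_eq e', P.el_eq (P.ok_mul e e'), ← map_mul]
  refine congrArg P.Φ (Subtype.ext ?_)
  show uMat P.σ _ _ * uMat P.σ _ _ = _
  rw [uMat_mul]
  congr 1
  ext i j
  simp [sc, st, Matrix.mul_apply]

/-- The unipotent subgroup. -/
noncomputable def sub [Finite G] : Subgroup G :=
  let M : Submonoid G :=
    { carrier := {g | ∃ h x, P.Ok h x ∧ g = P.el h x}
      one_mem' := ⟨0, 0, P.ok_zero, P.el_zero.symm⟩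
      mul_mem' := by
        rintro _ _ ⟨h, x, e, rfl⟩ ⟨h', x', e', rfl⟩
        exact ⟨_, _, P.ok_mul e e', P.el_mul e e'⟩ }
  { M with
    inv_mem' := fun {g} hg => by
      have hord := orderOf_pos g
      have e : g⁻¹ = g ^ (orderOf g - 1) :=
        inv_eq_of_mul_eq_one_right (by rw [← pow_succ', Nat.sub_add_cancel hord, pow_orderOf_eq_one])
      rw [e]
      exact M.pow_mem hg _ }

open scoped Classical in
/-- The coordinates of a group element. -/
noncomputable def f : ℕ → G → F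
  | 0, g => (Function.invFun P.Φ g : modelSub P.σ 1 1).1 (Sum.inl (Sum.inl 0)) (Sum.inl (Sum.inr 0))
  | _, g => (Function.invFun P.Φ g : modelSub P.σ 1 1).1 (Sum.inl (Sum.inl 0)) (Sum.inr 0)

theorem f_el {h x : F} (e : P.Ok h x) : P.f 0 (P.el h x) = h ∧ P.f 1 (P.el h x) = x := by
  simp only [f, P.el_eq e, Function.leftInverse_invFun P.inj _]
  simp [uMat, sc]

/-- The coordinates on the unipotent subgroup. -/
noncomputable def coord [Finite G] : Coord F G where
  U := P.sub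
  N := 2
  f := P.f
  sep := by
    rintro _ ⟨h, x, e, rfl⟩ hz
    have h0 := hz 0 (by norm_num)
    have x0 := hz 1 (by norm_num)
    rw [(P.f_el e).1] at h0
    rw [(P.f_el e).2] at x0
    rw [h0, x0, P.el_zero]
  addl := by
    rintro j hj _ ⟨h, x, e, rfl⟩ hz _ ⟨h', x', e', rfl⟩
    rw [P.el_mul e e']
    interval_cases j
    · rw [(P.f_el (P.ok_mul e e')).1, (P.f_el e).1, (P.f_el e').1]
      have x0 := hz 1 (by norm_num) (by norm_num)
      rw [(P.f_el e).2] at x0
      simp [x0]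
    · rw [(P.f_el (P.ok_mul e e')).2, (P.f_el e).2, (P.f_el e').2]
  addr := by
    rintro j hj _ ⟨h', x', e', rfl⟩ hz _ ⟨h, x, e, rfl⟩
    rw [P.el_mul e e']
    interval_cases j
    · rw [(P.f_el (P.ok_mul e e')).1, (P.f_el e).1, (P.f_el e').1]
      have x0 := hz 1 (by norm_num) (by norm_num)
      rw [(P.f_el e').2] at x0
      simp [x0]
    · rw [(P.f_el (P.ok_mul e e')).2, (P.f_el e).2, (P.f_el e').2]

/-- The root elements. -/
noncomputable def rt : ℕ → F → G
  | 0, a => P.el (P.δ * (a + P.σ a)) 0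
  | _, a => P.el (-P.τ * (a * P.σ a)) a

/-- The additive maps onto the layers. -/
def phi : ℕ → F → F
  | 0, a => P.δ * (a + P.σ a)
  | _, a => a

theorem ok_long (a : F) : P.Ok (P.δ * (a + P.σ a)) 0 := by
  unfold Ok
  rw [map_mul, map_add, P.σσ]
  linear_combination (a + P.σ a) * P.hδ

theorem ok_short (a : F) : P.Ok (-P.τ * (a * P.σ a)) a := by
  unfold Ok
  simp only [map_mul, map_neg, P.σσ]
  linear_combination -(a * P.σ a) * P.hτ

/-- The middle scalar and torus. -/
noncomputable def tor (a : Fˣ) : G :=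
  P.Φ ⟨lMat P.σ (sc (a : F)) (sc (a : F)⁻¹) (P.σ a / a), lMat_mem P.σσ
    (by ext i j; fin_cases i; fin_cases j; simp [sc, Matrix.mul_apply])
    (by
      rw [map_div₀, P.σσ, div_mul_div_comm, mul_comm, div_self]
      exact mul_ne_zero ((map_ne_zero P.σ).2 a.ne_zero) a.ne_zero)
    (by
      have h0 := a.ne_zero
      have h1 : P.σ (a : F) ≠ 0 := (map_ne_zero P.σ).2 h0
      simp [sc, Matrix.det_fin_one]
      field_simp)⟩

/-- The weights. -/
def wt (a : Fˣ) : ℕ → F
  | 0 => (a : F) * P.σ a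
  | _ => (a : F) ^ 2 / P.σ a

theorem tor_comm (a b : Fˣ) : Commute (P.tor a) (P.tor b) := by
  show _ = _
  rw [tor, tor, ← map_mul, ← map_mul]
  refine congrArg P.Φ (Subtype.ext ?_)
  show lMat P.σ _ _ _ * lMat P.σ _ _ _ = lMat P.σ _ _ _ * lMat P.σ _ _ _
  rw [lMat_mul_lMat, lMat_mul_lMat]
  congr 1
  · ext i j; simp [sc, Matrix.mul_apply, mul_comm]
  · ext i j; simp [sc, Matrix.mul_apply, mul_comm]
  · exact mul_comm _ _

theorem ok_tor (a : Fˣ) {h x : F} (e : P.Ok h x) : P.Ok (P.wt a 0 * h) (P.wt a 1 * x) := by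
  unfold Ok at *
  have h0 := a.ne_zero
  have h1 : P.σ (a : F) ≠ 0 := (map_ne_zero P.σ).2 h0
  simp only [wt, map_mul, map_div₀, map_pow, P.σσ]
  field_simp
  linear_combination (a : F) * P.σ a * e

theorem tor_el (a : Fˣ) {h x : F} (e : P.Ok h x) :
    P.tor a * P.el h x * (P.tor a)⁻¹ = P.el (P.wt a 0 * h) (P.wt a 1 * x) := by
  rw [mul_inv_eq_iff_eq_mul, P.el_eq e, P.el_eq (P.ok_tor a e), tor, ← map_mul, ← map_mul]
  refine congrArg P.Φ (Subtype.ext ?_)
  show lMat P.σ _ _ _ * uMat P.σ _ _ = uMat P.σ _ _ * lMat P.σ _ _ _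
  have h0 := a.ne_zero
  have h1 : P.σ (a : F) ≠ 0 := (map_ne_zero P.σ).2 h0
  rw [lMat_mul_uMat' (by ext i j; fin_cases i; fin_cases j; simp [sc, Matrix.mul_apply])
    (by rw [map_div₀, P.σσ, div_mul_div_comm, mul_comm, div_self]; exact mul_ne_zero h1 h0) P.σσ]
  congr 1
  have e1 : sc (a : F) * sc h * st P.σ (sc (a : F)) = sc (P.wt a 0 * h) := by
    ext i j
    simp [sc, st, wt, Matrix.mul_apply]
    ring
  have e2 : P.σ (P.σ (a : F) / a) • (sc (a : F) * sc x) = sc (P.wt a 1 * x) := by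
    ext i j
    simp [sc, wt, Matrix.mul_apply, P.σσ]
    field_simp
  rw [e1, e2]

theorem phi_lam (a : Fˣ) {j : ℕ} (hj : j < 2) (b : F) : P.phi j (P.wt a j * b) = P.wt a j * P.phi j b := by
  interval_cases j <;> simp [phi, wt, P.σσ] <;> ring

theorem trace_surj {y : F} (hy : y + P.σ y = 0) : ∃ a, P.δ * (a + P.σ a) = y := by
  have hσd : P.σ P.δ = -P.δ := by linear_combination P.hδ
  refine ⟨P.τ * (y / P.δ), ?_⟩
  rw [map_mul, map_div₀, hσd, show P.σ y = -y by linear_combination hy, neg_div_neg_eq, ← add_mul, P.hτ, one_mul,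
    mul_div_cancel₀ _ P.δ0]

/-- The cover of the layers. -/
noncomputable def layers [Finite G] (hmov : ∀ j < 2, ∃ a, P.wt a j ≠ 1) : Coord.Cover P.coord where
  X := P.rt
  φ := P.phi
  ι := Fˣ
  t := P.tor
  lam := P.wt
  φ_add := fun j hj a b => by
    change j < 2 at hj
    interval_cases j <;> simp [phi]
    ring
  X_mem := fun j hj a => by
    change j < 2 at hj
    interval_cases j
    · refine ⟨⟨_, _, P.ok_long a, rfl⟩, fun i h1 h2 => ?_⟩
      change i < 2 at h2
      obtain rfl : i = 1 := by omega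
      exact (P.f_el (P.ok_long a)).2
    · exact ⟨⟨_, _, P.ok_short a, rfl⟩, fun i h1 h2 => absurd h2 (by change ¬ i < 2; omega)⟩
  X_f := fun j hj a => by
    change j < 2 at hj
    interval_cases j
    · exact (P.f_el (P.ok_long a)).1
    · exact (P.f_el (P.ok_short a)).2
  cover := fun j hj g hg => by
    change j < 2 at hj
    obtain ⟨⟨h, x, e, rfl⟩, hz⟩ := hg
    interval_cases j
    · have x0 : P.f 1 (P.el h x) = 0 := hz 1 le_rfl (show 1 < 2 by norm_num)
      rw [(P.f_el e).2] at x0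
      subst x0
      obtain ⟨a, ha⟩ := P.trace_surj (y := h) (by simpa [Ok] using e)
      exact ⟨a, ha.trans (P.f_el e).1.symm⟩
    · exact ⟨x, (P.f_el e).2.symm⟩
  φ_lam := fun a j hj b => P.phi_lam a hj b
  comm := P.tor_comm
  conj := fun a j hj g hg => by
    change j < 2 at hj
    obtain ⟨⟨h, x, e, rfl⟩, hz⟩ := hg
    rw [P.tor_el a e]
    refine ⟨⟨⟨_, _, P.ok_tor a e, rfl⟩, fun i h1 h2 => ?_⟩, ?_⟩
    · change i < 2 at h2
      have h3 : P.f i (P.el h x) = 0 := hz i h1 h2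
      show P.f i _ = 0
      interval_cases i
      · rw [(P.f_el e).1] at h3; rw [(P.f_el (P.ok_tor a e)).1, h3, mul_zero]
      · rw [(P.f_el e).2] at h3; rw [(P.f_el (P.ok_tor a e)).2, h3, mul_zero]
    · show P.f j _ = P.wt a j * P.f j _
      interval_cases j
      · rw [(P.f_el e).1, (P.f_el (P.ok_tor a e)).1]
      · rw [(P.f_el e).2, (P.f_el (P.ok_tor a e)).2]
  moved := hmov

theorem lcomm_zero {Γ : Type u} [Group Γ] {ρ : Γ →* G} (hs : Function.Surjective ρ)
    (hc : ρ.ker ≤ Subgroup.center Γ) (a b : F) : LComm ρ (P.rt 0 a) (P.rt 0 b) := by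
  show LComm ρ (P.el (P.δ * (a + P.σ a)) 0) (P.el (P.δ * (b + P.σ b)) 0)
  have oy := P.ok_long a
  have oz := P.ok_long b
  set y := P.δ * (a + P.σ a)
  set z := P.δ * (b + P.σ b)
  have hy : P.σ y = -y := by
    simp [Ok] at oy
    linear_combination oy
  have o1 := P.ok_short 1
  have ox := P.ok_short (-(P.τ * y))
  have hcm : ∀ {h x : F}, P.Ok h x → P.el h x * P.el z 0 = P.el z 0 * P.el h x := fun {h x} e => by
    rw [P.el_mul e oz, P.el_mul oz e, map_zero, mul_zero, zero_mul, sub_zero, sub_zero, add_zero, zero_add, add_comm h]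
  have e : ⁅P.el (-P.τ * (-(P.τ * y) * P.σ (-(P.τ * y)))) (-(P.τ * y)), P.el (-P.τ * (1 * P.σ 1)) 1⁆ = P.el y 0 := by
    rw [commutatorElement_def, mul_inv_eq_iff_eq_mul, mul_inv_eq_iff_eq_mul, P.el_mul ox o1, P.el_mul oy o1,
      P.el_mul (P.ok_mul oy o1) ox]
    simp only [map_one, map_neg, map_mul, hy]
    congr 1
    · linear_combination y * P.hτ
    · ring
  rw [← e]
  exact lcomm_commutator hs hc (hcm ox) (hcm o1)

section Finite

variable [Fintype F] {q : ℕ} (hF : Fintype.card F = q ^ 2) (hP : P.σ = frob hF) (hq : 3 ≤ q)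
include hF hP hq

theorem short_facts {g : Fˣ} (hg : orderOf (g : F) = q ^ 2 - 1) : q + 1 < orderOf (P.wt g 1) ∧
    P.wt g 1 ≠ 0 ∧ P.wt g 1 ^ (q - 1) ≠ 1 := by
  have h0 := g.ne_zero
  have h1 : P.σ (g : F) ≠ 0 := (map_ne_zero P.σ).2 h0
  set w := P.wt g 1 with hw
  have hw0 : w ≠ 0 := div_ne_zero (pow_ne_zero _ h0) h1
  have hdiv : ∀ o, w ^ o = 1 → q ^ 2 - 1 ∣ (q - 2) * o := fun o ho => by
    rw [← hg]
    apply orderOf_dvd_of_pow_eq_one
    simp only [hw, wt, div_pow, hP, frob_apply, ← pow_mul] at ho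
    rw [div_eq_one_iff_eq (pow_ne_zero _ h0), show q * o = 2 * o + (q - 2) * o by
      rw [← add_mul, Nat.add_sub_cancel' (by omega : 2 ≤ q)], pow_add] at ho
    exact (mul_left_cancel₀ (pow_ne_zero _ h0) ((mul_one _).trans ho)).symm
  have hN : 3 * (q + 1) < 3 * (q ^ 2 - 1) := by
    have : q * 3 ≤ q * q := Nat.mul_le_mul_left q hq
    rw [pow_two]; omega
  have hbig : ∀ o, 0 < o → w ^ o = 1 → q + 1 < o := by
    intro o ho hwo
    have hd := hdiv o hwo
    have hlt : q ^ 2 - 1 ≤ (q - 2) * o := Nat.le_of_dvd (Nat.mul_pos (by omega) ho) hd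
    rcases Nat.lt_or_ge q 5 with h | h
    · interval_cases q
      · norm_num at hlt ⊢; omega
      · norm_num at hlt ⊢; omega
    · have h3 : q ^ 2 - 1 ∣ 3 * o := by
        have hA : q ^ 2 - 1 ∣ (q + 2) * ((q - 2) * o) := hd.mul_left _
        have hB : q ^ 2 - 1 ∣ (q ^ 2 - 1) * o := dvd_mul_right _ _
        have e : (q ^ 2 - 1) * o = (q + 2) * ((q - 2) * o) + 3 * o := by
          rw [← mul_assoc, ← add_mul, ← Nat.sq_sub_sq]
          congr 1
          have : 4 ≤ q ^ 2 := by have := Nat.mul_le_mul hq hq; rw [pow_two]; omega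
          omega
        rw [e] at hB
        exact (Nat.dvd_add_right hA).1 hB
      have := Nat.le_of_dvd (by omega) h3
      have : q * 5 ≤ q * q := Nat.mul_le_mul_left q h
      rw [pow_two] at *
      omega
  refine ⟨hbig _ (by
    rw [show orderOf w = orderOf (Units.mk0 w hw0) by rw [← orderOf_units, Units.val_mk0]]
    exact orderOf_pos _) (pow_orderOf_eq_one w), hw0, fun e => ?_⟩
  have := hbig (q - 1) (by omega) e
  omega

theorem moved : ∀ j < 2, ∃ a, P.wt a j ≠ 1 := by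
  obtain ⟨g, hg⟩ := exists_gen hF
  obtain ⟨-, -, -, -, -, hN, -⟩ := gen_facts hF hq hg
  obtain ⟨-, -, hne⟩ := P.short_facts hF hP hq hg
  intro j hj
  refine ⟨g, ?_⟩
  interval_cases j
  · show (g : F) * P.σ g ≠ 1
    rw [hP]; exact hN
  · exact fun e => hne (by rw [e, one_pow])

variable (p : ℕ) [Fact p.Prime] [CharP F p]

/-- Every pair of layers is separated or has commuting lifts. -/
theorem pairs {Γ : Type u} [Group Γ] {ρ : Γ →* G} (hs : Function.Surjective ρ) (hc : ρ.ker ≤ Subgroup.center Γ) :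
    ∀ j < 2, ∀ i < 2, j ≤ i →
      (∃ e, P.wt e j ≠ 0 ∧ ∀ k : ℕ, P.wt e i ^ p ^ k * P.wt e j ≠ 1) ∨ ∀ a b, LComm ρ (P.rt i a) (P.rt j b) := by
  obtain ⟨g, hg⟩ := exists_gen hF
  obtain ⟨ho, hw0, hne⟩ := P.short_facts hF hP hq hg
  intro j hj i hi hji
  interval_cases j <;> interval_cases i
  · exact Or.inr (P.lcomm_zero hs hc)
  · have h := sep_sub_right (p := p) (q := q) (u := P.wt g 1) (v := P.wt g 0)
      (by show ((g : F) * P.σ g) ^ (q - 1) = 1; rw [hP]; exact sub_pow_eq_one hF g.ne_zero)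
      (mul_ne_zero g.ne_zero ((map_ne_zero P.σ).2 g.ne_zero)) hne
    exact Or.inl ⟨g, h.1, h.2⟩
  · exact Or.inl ⟨g, (sep_self (p := p) hF hw0 ho).1, (sep_self (p := p) hF hw0 ho).2⟩

end Finite

end Trio

end Cfsg.Lib.UnitMult
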