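import Cfsg.Agent.Lib.UnitMult.Roots

/-!
The torus acting on the layers, and the lifts of long root elements.
-/

set_option autoImplicit false
set_option linter.unusedSectionVars false

namespace Cfsg.Lib.UnitMult

open Matrix Cfsg.Lib.Linear.SUDegree Cfsg.Lib.Chev.MultW
open scoped commutatorElement

universe u

variable {F : Type*} [Field F] {ε : ℕ} {G : Type u} [Group G]

namespace Four

variable (P : Four F ε G)

open scoped Classical in
/-- An element of the Levi subgroup. -/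
noncomputable def lv (C C' : Matrix (Fin 2) (Fin 2) F) (μ : F) : G :=
  if h : lMat (ε := ε) P.σ C C' μ ∈ modelSub P.σ 2 ε then P.Φ ⟨_, h⟩ else 1

theorem lv_eq {C C' : Matrix (Fin 2) (Fin 2) F} {μ : F} (h : lMat (ε := ε) P.σ C C' μ ∈ modelSub P.σ 2 ε) :
    P.lv C C' μ = P.Φ ⟨_, h⟩ := dif_pos h

theorem el_lv (c : F) : P.el c 0 0 = P.lv (lev c) (lev (-c)) 1 := by
  have h := lMat_mem (ε := ε) P.σσ (lev_neg c) (μ := 1) (by rw [map_one, mul_one]) (by simp [lev, Matrix.det_fin_two])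
  rw [P.el_eq P.rel_zero, P.lv_eq h]
  refine congrArg P.Φ (Subtype.ext ?_)
  show uni P.σ c 0 0 = _
  rw [uni, uMat_zero, one_mul]

theorem lv_mul_el {C C' : Matrix (Fin 2) (Fin 2) F} {μ : F} (hC : C * C' = 1) (hμ : P.σ μ * μ = 1)
    (hm : lMat (ε := ε) P.σ C C' μ ∈ modelSub P.σ 2 ε) {H : Matrix (Fin 2) (Fin 2) F}
    {X : Matrix (Fin 2) (Fin ε) F} (h : Rel P.σ H X) :
    P.lv C C' μ * P.el 0 H X = P.el 0 (C * H * st P.σ C) (P.σ μ • (C * X)) * P.lv C C' μ := by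
  rw [P.lv_eq hm, P.el_eq h, P.el_eq (h.conj P.σσ C hμ), ← map_mul, ← map_mul]
  refine congrArg P.Φ (Subtype.ext ?_)
  show lMat P.σ C C' μ * uni P.σ 0 H X = uni P.σ 0 _ _ * lMat P.σ C C' μ
  simp only [uni, lev_zero, neg_zero]
  rw [show lMat (ε := ε) P.σ (1 : Matrix (Fin 2) (Fin 2) F) 1 1 = 1 by simp [lMat, st_one, fromBlocks_one], mul_one,
    mul_one, lMat_mul_uMat' hC hμ P.σσ]

theorem el_split (c : F) {H : Matrix (Fin 2) (Fin 2) F} {X : Matrix (Fin 2) (Fin ε) F} (h : Rel P.σ H X) :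
    P.el c H X = P.el 0 H X * P.el c 0 0 := by
  rw [P.el_mul h P.rel_zero]
  simp [st_zero]

/-- The condition on a pair of units to give a torus element. -/
abbrev TIx : Type _ := {i : Fˣ × Fˣ // ε = 0 → P.σ ((i.1 : F) * i.2) = (i.1 : F) * i.2}

/-- The middle scalar. -/
def mu (i : P.TIx) : F := P.σ ((i.1.1 : F) * i.1.2) / ((i.1.1 : F) * i.1.2)

theorem mu_norm (i : P.TIx) : P.σ (P.mu i) * P.mu i = 1 := by
  have h0 : (i.1.1 : F) * i.1.2 ≠ 0 := mul_ne_zero i.1.1.ne_zero i.1.2.ne_zero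
  have h1 : P.σ ((i.1.1 : F) * i.1.2) ≠ 0 := (map_ne_zero P.σ).2 h0
  rw [mu, map_div₀, P.σσ, div_mul_div_comm, mul_comm, div_self (mul_ne_zero h1 h0)]

theorem dia_inv (i : P.TIx) :
    Matrix.diagonal ![(i.1.1 : F), i.1.2] * Matrix.diagonal ![(i.1.1 : F)⁻¹, (i.1.2 : F)⁻¹] = 1 := by
  rw [Matrix.diagonal_mul_diagonal, ← Matrix.diagonal_one]
  congr 1
  funext r
  fin_cases r <;> simp

theorem tor_mem (i : P.TIx) :
    lMat (ε := ε) P.σ (Matrix.diagonal ![(i.1.1 : F), i.1.2]) (Matrix.diagonal ![(i.1.1 : F)⁻¹, (i.1.2 : F)⁻¹])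
      (P.mu i) ∈ modelSub P.σ 2 ε := by
  refine lMat_mem P.σσ (P.dia_inv i) (P.mu_norm i) ?_
  have ha := i.1.1.ne_zero
  have hb := i.1.2.ne_zero
  have hσa : P.σ (i.1.1 : F) ≠ 0 := (map_ne_zero P.σ).2 ha
  have hσb : P.σ (i.1.2 : F) ≠ 0 := (map_ne_zero P.σ).2 hb
  rw [Matrix.det_diagonal, Matrix.det_diagonal]
  simp only [Fin.prod_univ_two, Matrix.cons_val_zero, Matrix.cons_val_one, map_mul, map_inv₀]
  rcases Nat.le_one_iff_eq_zero_or_eq_one.1 P.le with he | he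
  · have e := i.2 he
    rw [map_mul] at e
    simp only [he, pow_zero, mul_one]
    rw [← e, ← mul_inv, mul_inv_cancel₀ (mul_ne_zero hσa hσb)]
  · simp only [he, pow_one]
    rw [mu, map_mul]
    field_simp

/-- The torus. -/
noncomputable def tor (i : P.TIx) : G :=
  P.lv (Matrix.diagonal ![(i.1.1 : F), i.1.2]) (Matrix.diagonal ![(i.1.1 : F)⁻¹, (i.1.2 : F)⁻¹]) (P.mu i)

theorem tor_comm (i i' : P.TIx) : Commute (P.tor i) (P.tor i') := by
  show _ = _
  rw [tor, tor, P.lv_eq (P.tor_mem i), P.lv_eq (P.tor_mem i'), ← map_mul, ← map_mul]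
  refine congrArg P.Φ (Subtype.ext ?_)
  show lMat P.σ _ _ _ * lMat P.σ _ _ _ = lMat P.σ _ _ _ * lMat P.σ _ _ _
  rw [lMat_mul_lMat, lMat_mul_lMat]
  congr 1
  · simp [mul_comm]
  · simp [mul_comm]
  · exact mul_comm _ _

theorem tor_mul_el (i : P.TIx) (c : F) {H : Matrix (Fin 2) (Fin 2) F} {X : Matrix (Fin 2) (Fin ε) F}
    (h : Rel P.σ H X) :
    P.tor i * P.el c H X = P.el ((i.1.1 : F) * c / i.1.2)
      (Matrix.diagonal ![(i.1.1 : F), i.1.2] * H * st P.σ (Matrix.diagonal ![(i.1.1 : F), i.1.2]))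
      (P.σ (P.mu i) • (Matrix.diagonal ![(i.1.1 : F), i.1.2] * X)) * P.tor i := by
  have h' := h.conj P.σσ (Matrix.diagonal ![(i.1.1 : F), i.1.2]) (P.mu_norm i)
  rw [P.el_split c h, P.el_split _ h', ← mul_assoc]
  rw [tor, P.lv_mul_el (P.dia_inv i) (P.mu_norm i) (P.tor_mem i) h,
    mul_assoc (P.el 0 _ _) (P.lv _ _ _), mul_assoc (P.el 0 _ _) (P.el _ 0 0)]
  congr 1
  rw [P.lv_eq (P.tor_mem i), P.el_eq P.rel_zero, P.el_eq P.rel_zero, ← map_mul, ← map_mul]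
  refine congrArg P.Φ (Subtype.ext ?_)
  show lMat P.σ _ _ _ * uni P.σ c 0 0 = uni P.σ _ 0 0 * lMat P.σ _ _ _
  simp only [uni, uMat_zero, one_mul, lMat_mul_lMat, mul_one]
  have ha := i.1.1.ne_zero
  have hb := i.1.2.ne_zero
  congr 1
  · ext r s
    fin_cases r <;> fin_cases s <;> simp [lev, ha, hb]
  · ext r s
    fin_cases r <;> fin_cases s <;> simp [lev]
    field_simp

/-- The weights. -/
def wt (i : P.TIx) : ℕ → F
  | 0 => (i.1.1 : F) * P.σ i.1.1
  | 1 => (i.1.1 : F) * P.σ i.1.2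
  | 2 => P.σ (P.mu i) * i.1.1
  | 3 => (i.1.2 : F) * P.σ i.1.2
  | 4 => (i.1.1 : F) / i.1.2
  | 5 => P.σ (P.mu i) * i.1.2
  | _ => 1

theorem tor_conj [Finite G] (i : P.TIx) {j : ℕ} (hj : j < 6) (g : G) (hg : g ∈ P.coord.V (j + 1)) :
    P.tor i * g * (P.tor i)⁻¹ ∈ P.coord.V (j + 1) ∧ P.f j (P.tor i * g * (P.tor i)⁻¹) = P.wt i j * P.f j g := by
  obtain ⟨⟨c, H, X, h, rfl⟩, hz⟩ := hg
  have h' := h.conj P.σσ (Matrix.diagonal ![(i.1.1 : F), i.1.2]) (P.mu_norm i)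
  have e : P.tor i * P.el c H X * (P.tor i)⁻¹ = P.el ((i.1.1 : F) * c / i.1.2)
      (Matrix.diagonal ![(i.1.1 : F), i.1.2] * H * st P.σ (Matrix.diagonal ![(i.1.1 : F), i.1.2]))
      (P.σ (P.mu i) • (Matrix.diagonal ![(i.1.1 : F), i.1.2] * X)) :=
    mul_inv_eq_iff_eq_mul.2 (P.tor_mul_el i c h)
  have hco : ∀ k, k < 6 → co ((i.1.1 : F) * c / i.1.2)
      (Matrix.diagonal ![(i.1.1 : F), i.1.2] * H * st P.σ (Matrix.diagonal ![(i.1.1 : F), i.1.2]))
      (P.σ (P.mu i) • (Matrix.diagonal ![(i.1.1 : F), i.1.2] * X)) k = P.wt i k * co c H X k := by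
    intro k hk
    interval_cases k <;>
      simp [co, wt, xs, st, Matrix.diagonal_transpose, Matrix.diagonal_map, Matrix.mul_diagonal,
        Matrix.diagonal_mul, Finset.mul_sum, mul_assoc] <;> ring
  refine ⟨⟨by rw [e]; exact ⟨_, _, _, h', rfl⟩, fun k h1 h2 => ?_⟩, ?_⟩
  · show P.f k _ = 0
    rw [e, P.f_el h', hco k h2, ← P.f_el h, show P.f k (P.el c H X) = 0 from hz k h1 h2, mul_zero]
  · rw [e, P.f_el h', hco j hj, P.f_el h]

theorem phi_lam (i : P.TIx) {j : ℕ} (hj : j < 6) (a : F) : P.phi j (P.wt i j * a) = P.wt i j * P.phi j a := by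
  interval_cases j <;> simp [phi, wt, P.σσ] <;> ring

theorem phi_add {j : ℕ} (hj : j < 6) (a b : F) : P.phi j (a + b) = P.phi j a + P.phi j b := by
  interval_cases j <;> simp [phi] <;> ring

theorem rt_mem [Finite G] {j : ℕ} (hj : j < 6) (a : F) : P.rt j a ∈ P.coord.V (j + 1) := by
  refine ⟨⟨_, _, _, P.rel_param j a, rfl⟩, fun i h1 h2 => ?_⟩
  show P.f i _ = 0
  rw [rt, P.f_el (P.rel_param j a)]
  exact (P.co_param hj a).2 i h1 h2

theorem rt_f {j : ℕ} (hj : j < 6) (a : F) : P.f j (P.rt j a) = P.phi j a := by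
  rw [rt, P.f_el (P.rel_param j a)]
  exact (P.co_param hj a).1

/-- The cover of the layers. -/
noncomputable def layers [Finite G] (hmov : ∀ j < 6, ∃ i, P.wt i j ≠ 1) : Coord.Cover P.coord where
  X := P.rt
  φ := P.phi
  ι := P.TIx
  t := P.tor
  lam := P.wt
  φ_add := fun j hj => P.phi_add hj
  X_mem := fun j hj => P.rt_mem hj
  X_f := fun j hj => P.rt_f hj
  cover := fun j hj g hg => P.cover_phi hj g hg
  φ_lam := fun i j hj => P.phi_lam i hj
  comm := P.tor_comm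
  conj := fun i j hj g hg => P.tor_conj i hj g hg
  moved := hmov

variable {Γ : Type u} [Group Γ] {ρ : Γ →* G} (hs : Function.Surjective ρ) (hc : ρ.ker ≤ Subgroup.center Γ)
include hs hc

/-- A long root element is a commutator of elements commuting with the long root group. -/
theorem lcomm_long (C C' : Matrix (Fin 2) (Fin 2) F) (hC : C * C' = 1) (hdet : C.det * P.σ C'.det = 1)
    {K D D' : Matrix (Fin 2) (Fin 2) F} (hK : K + st P.σ K = 0) (hD : D + st P.σ D = 0) (hD' : D' + st P.σ D' = 0)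
    (hCD : C * D' * st P.σ C = D') (hCK : C * K * st P.σ C = D + K) :
    LComm ρ (P.el 0 D 0) (P.el 0 D' 0) := by
  have h1 : P.σ (1 : F) * 1 = 1 := by rw [map_one, mul_one]
  have hm : lMat (ε := ε) P.σ C C' 1 ∈ modelSub P.σ 2 ε :=
    lMat_mem P.σσ hC h1 (by rw [one_pow, mul_one, hdet])
  have hr : ∀ {A : Matrix (Fin 2) (Fin 2) F}, A + st P.σ A = 0 → Rel P.σ A (0 : Matrix (Fin 2) (Fin ε) F) :=
    fun {A} hA => by rw [Rel, hA]; simp
  have hcm : ∀ {A B : Matrix (Fin 2) (Fin 2) F}, A + st P.σ A = 0 → B + st P.σ B = 0 →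
      P.el 0 A 0 * P.el 0 B 0 = P.el 0 (A + B) 0 := fun {A B} hA hB => by
    rw [P.el_mul (hr hA) (hr hB)]
    simp [lev_zero, st_one, st_zero]
  have hsum : D + K + st P.σ (D + K) = 0 := by
    rw [st_add, show D + K + (st P.σ D + st P.σ K) = D + st P.σ D + (K + st P.σ K) by abel, hD, hK, add_zero]
  have hx : P.lv C C' 1 * P.el 0 D' 0 = P.el 0 D' 0 * P.lv C C' 1 := by
    rw [P.lv_mul_el hC h1 hm (hr hD'), hCD, Matrix.mul_zero, smul_zero]
  have hy : P.el 0 K 0 * P.el 0 D' 0 = P.el 0 D' 0 * P.el 0 K 0 := by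
    rw [hcm hK hD', hcm hD' hK, add_comm]
  have e : ⁅P.lv C C' 1, P.el 0 K 0⁆ = P.el 0 D 0 := by
    rw [commutatorElement_def, mul_inv_eq_iff_eq_mul, mul_inv_eq_iff_eq_mul, P.lv_mul_el hC h1 hm (hr hK), hCK,
      Matrix.mul_zero, smul_zero, hcm hD hK]
  rw [← e]
  exact lcomm_commutator hs hc hx hy

theorem lcomm_zero (a b : F) : LComm ρ (P.rt 0 a) (P.rt 0 b) := by
  have hd : ∀ x : F, P.δ * (x + P.σ x) + P.σ (P.δ * (x + P.σ x)) = 0 := fun x => by
    rw [map_mul, map_add, P.σσ]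
    linear_combination (x + P.σ x) * P.hδ
  have hsk : ∀ x : F, !![P.δ * (x + P.σ x), 0; 0, 0] + st P.σ !![P.δ * (x + P.σ x), 0; 0, 0] = 0 := fun x => by
    ext i j; fin_cases i <;> fin_cases j <;> simp [st]
    simpa using hd x
  set y := P.δ * (a + P.σ a)
  have hy : P.σ y = -y := by linear_combination hd a
  show LComm ρ (P.el 0 !![y, 0; 0, 0] 0) (P.el 0 !![P.δ * (b + P.σ b), 0; 0, 0] 0)
  refine P.lcomm_long hs hc (lev (-(P.τ * y))) (lev (P.τ * y)) (by rw [lev_mul, neg_add_cancel, lev_zero])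
    (by simp [lev, Matrix.det_fin_two]) (K := !![0, 1; -1, 0]) ?_ (hsk a) (hsk b) ?_ ?_
  · ext i j; fin_cases i <;> fin_cases j <;> simp [st]
  · ext i j; fin_cases i <;> fin_cases j <;> simp [lev, st, Matrix.mul_apply, Matrix.vecMul, dotProduct, Fin.sum_univ_two]
  · ext i j; fin_cases i <;> fin_cases j <;> simp [lev, st, Matrix.mul_apply, Matrix.vecMul, dotProduct, Fin.sum_univ_two]
    rw [hy]
    linear_combination y * P.hτ

theorem lcomm_three (a b : F) : LComm ρ (P.rt 3 a) (P.rt 3 b) := by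
  have hd : ∀ x : F, P.δ * (x + P.σ x) + P.σ (P.δ * (x + P.σ x)) = 0 := fun x => by
    rw [map_mul, map_add, P.σσ]
    linear_combination (x + P.σ x) * P.hδ
  have hsk : ∀ x : F, !![0, 0; 0, P.δ * (x + P.σ x)] + st P.σ !![0, 0; 0, P.δ * (x + P.σ x)] = 0 := fun x => by
    ext i j; fin_cases i <;> fin_cases j <;> simp [st]
    simpa using hd x
  set y := P.δ * (a + P.σ a)
  have hy : P.σ y = -y := by linear_combination hd a
  show LComm ρ (P.el 0 !![0, 0; 0, y] 0) (P.el 0 !![0, 0; 0, P.δ * (b + P.σ b)] 0)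
  refine P.lcomm_long hs hc !![1, 0; P.τ * y, 1] !![1, 0; -(P.τ * y), 1] ?_ (by simp [Matrix.det_fin_two])
    (K := !![0, 1; -1, 0]) ?_ (hsk a) (hsk b) ?_ ?_
  · ext i j; fin_cases i <;> fin_cases j <;> simp [Matrix.mul_apply, Fin.sum_univ_two]
  · ext i j; fin_cases i <;> fin_cases j <;> simp [st]
  · ext i j; fin_cases i <;> fin_cases j <;> simp [st, Matrix.mul_apply, Matrix.vecMul, dotProduct, Fin.sum_univ_two]
  · ext i j; fin_cases i <;> fin_cases j <;> simp [st, Matrix.mul_apply, Matrix.vecMul, dotProduct, Fin.sum_univ_two]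
    rw [hy]
    linear_combination y * P.hτ

omit hs in
theorem lcomm_col (hε : ε = 0) {j : ℕ} (hj : j = 2 ∨ j = 5) (g : G) (a : F) :
    LComm ρ g (P.rt j a) := by
  subst hε
  have e : P.rt j a = 1 := by
    rw [← P.el_zero]
    have hX : ∀ Y : Matrix (Fin 2) (Fin 0) F, Y = 0 := fun Y => Subsingleton.elim _ _
    rcases hj with rfl | rfl <;> simp only [rt, param] <;> rw [hX (col _ a)] <;> simp [st_zero]
  rw [e]
  exact fun A B _ eB => mem_center_comm hc (MonoidHom.mem_ker.2 eB) A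

end Four

end Cfsg.Lib.UnitMult
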