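import Cfsg.Agent.Lib.Schur.PcData

/-!
# Certificate data for the two-part in unitary dimension 5
-/

set_option autoImplicit false
set_option maxRecDepth 100000

namespace Cfsg.Lib.UnitMult.Data

open Cfsg.Lib.Schur.PcStem

/-- The letters. -/
def fiveTwoVecs : List (List ℕ) :=
  [[1, 1, 3, 1, 0], [1, 1, 1, 2, 0], [1, 1, 2, 3, 0], [1, 0, 1, 1, 2], [1, 0, 3, 3, 3], [1, 0, 2, 2, 1], [1, 0,
    2, 2, 3], [0, 1, 0, 0, 1], [0, 1, 2, 2, 2], [0, 1, 3, 3, 2], [0, 1, 3, 3, 1], [0, 1, 2, 2, 1], [0, 1, 2,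
    2, 3], [1, 3, 0, 3, 1], [1, 0, 3, 2, 3], [1, 2, 3, 1, 0], [1, 3, 1, 3, 0], [0, 0, 1, 0, 2], [1, 1, 2, 0,
    1], [1, 1, 1, 0, 3], [1, 1, 1, 0, 2], [0, 0, 1, 1, 0], [1, 1, 2, 2, 0], [1, 1, 3, 3, 0], [1, 1, 1, 1, 0],
    [1, 1, 0, 0, 0], [1, 0, 1, 0, 0], [0, 1, 0, 1, 0], [0, 0, 1, 3, 0], [0, 1, 0, 0, 2], [1, 3, 0, 0, 0], [0,
    1, 0, 0, 3], [1, 0, 0, 0, 3]]

/-- The generators as words. -/
def fiveTwoGens : List (List ℕ) :=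
  [[0, 1], [0, 2], [3, 4, 5, 6], [7, 8, 9, 10], [11, 12, 13, 14, 15, 16], [17, 18, 19, 20], [21], [22, 23], [22,
    24], [25]]

/-- The fusing elements as words. -/
def fiveTwoConj : List (List ℕ) :=
  [[26, 27], [28], [29, 30, 31, 32]]

/-- Part of the stages. -/
def fiveTwoStagesPart0 : List (List ℕ × List (List ℕ)) :=
  [([0, 0, 1, 1, 0], [[], [0], [1], [0, 1]])]

/-- Part of the stages. -/
def fiveTwoStagesPart1 : List (List ℕ × List (List ℕ)) :=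
  [([0, 0, 0, 0, 1], [[], [2], [3], [4], [5], [2, 3, 6], [2, 4, 7], [2, 5, 8], [3, 4, 7, 8], [3, 5, 7], [4, 5,
    9], [2, 3, 4, 6, 8], [2, 3, 5, 6, 7, 8], [2, 4, 5, 7, 8, 9], [3, 4, 5, 8, 9], [2, 3, 4, 5, 6, 7, 9]])]

/-- Part of the stages. -/
def fiveTwoStagesPart2 : List (List ℕ × List (List ℕ)) :=
  [([1, 0, 0, 0, 0], [[], [7, 8], [8], [9], [7], [7, 8, 9], [8, 9], [7, 9]])]

/-- Part of the stages. -/
def fiveTwoStagesPart3 : List (List ℕ × List (List ℕ)) :=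
  [([0, 0, 1, 0, 0], [[], [6]])]

/-- The stages. -/
def fiveTwoStages : List (List ℕ × List (List ℕ)) :=
  fiveTwoStagesPart0 ++ fiveTwoStagesPart1 ++ fiveTwoStagesPart2 ++ fiveTwoStagesPart3

/-- The rules. -/
def fiveTwoRules : List (List ℕ × List ℕ) :=
  [([0, 0], []), ([1, 0], [0, 1]), ([2, 0], [0, 2, 4, 8]), ([3, 0], [0, 3, 5, 8]), ([4, 0], [0, 4]), ([5, 0],
    [0, 5]), ([6, 0], [0, 6, 7, 9]), ([7, 0], [0, 7]), ([8, 0], [0, 8, 9]), ([9, 0], [0, 9]), ([1, 1], []),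
    ([2, 1], [1, 2, 5, 7, 8]), ([3, 1], [1, 3, 4, 5, 7, 8, 9]), ([4, 1], [1, 4]), ([5, 1], [1, 5]), ([6, 1],
    [1, 6, 8, 9]), ([7, 1], [1, 7, 9]), ([8, 1], [1, 8]), ([9, 1], [1, 9]), ([2, 2], [6]), ([3, 2], [2, 3,
    6]), ([4, 2], [2, 4, 7]), ([5, 2], [2, 5, 8]), ([6, 2], [2, 6]), ([7, 2], [2, 7]), ([8, 2], [2, 8]), ([9,
    2], [2, 9]), ([3, 3], [6]), ([4, 3], [3, 4, 7, 8]), ([5, 3], [3, 5, 7]), ([6, 3], [3, 6]), ([7, 3], [3,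
    7]), ([8, 3], [3, 8]), ([9, 3], [3, 9]), ([4, 4], [9]), ([5, 4], [4, 5, 9]), ([6, 4], [4, 6]), ([7, 4],
    [4, 7]), ([8, 4], [4, 8]), ([9, 4], [4, 9]), ([5, 5], [9]), ([6, 5], [5, 6]), ([7, 5], [5, 7]), ([8, 5],
    [5, 8]), ([9, 5], [5, 9]), ([6, 6], []), ([7, 6], [6, 7]), ([8, 6], [6, 8]), ([9, 6], [6, 9]), ([7, 7],
    []), ([8, 7], [7, 8]), ([9, 7], [7, 9]), ([8, 8], []), ([9, 8], [8, 9]), ([9, 9], [])]

/-- Part of the fusion data. -/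
def fiveTwoFusPart0 : List (Fus) :=
  [(55, [[2], [3], [4], [5], [6], [7], [8], [9]], [[4], [5], [2], [3], [9], [7], [7, 8], [6]])]

/-- Part of the fusion data. -/
def fiveTwoFusPart1 : List (Fus) :=
  [(63, [[0], [1], [4], [5], [7], [8], [9]], [[7], [8], [4], [5], [0], [1], [9]])]

/-- Part of the fusion data. -/
def fiveTwoFusPart2 : List (Fus) :=
  [(70, [[0], [1], [2], [3], [4], [5], [6], [7], [8], [9]], [[1], [0, 1], [2, 3, 6], [2], [4], [5], [6], [8],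
    [7, 8], [9]])]

/-- The fusion data. -/
def fiveTwoFus : List (Fus) :=
  fiveTwoFusPart0 ++ fiveTwoFusPart1 ++ fiveTwoFusPart2

/-- Part of the overlaps. -/
def fiveTwoAssocPart0 : List (List ℕ × Trace × Trace) :=
  [([2, 1, 0], [(0, 11), (4, 8), (3, 7), (2, 5), (1, 2), (0, 1), (4, 43), (5, 50), (6, 52)], [(1, 1), (0, 2),
    (3, 17), (2, 13), (1, 11), (5, 38), (4, 37), (3, 35), (5, 51), (6, 53), (7, 53), (6, 52)]), ([3, 1, 0],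
    [(0, 12), (6, 9), (5, 8), (4, 7), (3, 5), (2, 4), (1, 3), (0, 1), (4, 38), (3, 35), (5, 53), (6, 44), (5,
    43), (4, 40), (4, 53), (5, 54), (4, 50), (5, 52), (5, 54)], [(1, 1), (0, 3), (3, 17), (2, 14), (1, 12),
    (7, 44), (6, 43), (5, 42), (4, 40), (4, 51), (5, 53), (6, 54), (5, 52)]), ([6, 1, 0], [(0, 15), (3, 9),
    (2, 8), (1, 6), (0, 1), (4, 53), (5, 54)], [(1, 1), (0, 6), (3, 18), (2, 16), (1, 15), (4, 51), (3, 50),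
    (5, 54)]), ([7, 1, 0], [(0, 16), (2, 9), (1, 7), (0, 1)], [(1, 1), (0, 7), (1, 16)]), ([8, 1, 0], [(0,
    17), (1, 8), (0, 1)], [(1, 1), (0, 8), (2, 18), (1, 17)]), ([2, 2, 0], [(0, 19), (0, 6)], [(1, 2), (0, 2),
    (3, 25), (2, 21), (1, 19), (1, 36), (4, 38), (3, 37), (2, 36), (1, 34), (1, 48), (2, 51), (3, 53), (4,
    53), (3, 52)]), ([2, 0, 0], [(0, 2), (3, 8), (2, 4), (1, 2), (0, 0), (2, 38), (1, 34), (1, 53), (2, 53),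
    (1, 52), (1, 54)], [(1, 0)]), ([3, 2, 0], [(0, 20), (2, 6), (1, 3), (0, 2), (3, 32), (2, 28), (5, 52), (4,
    42), (6, 47), (5, 46), (7, 50), (6, 49)], [(1, 2), (0, 3), (3, 25), (2, 22), (1, 20), (3, 41), (5, 52),
    (4, 36), (3, 35), (5, 48), (6, 53)]), ([4, 2, 0], [(0, 21), (2, 7), (1, 4), (0, 2), (3, 38), (2, 34), (2,
    53), (3, 51), (2, 50)], [(1, 2), (0, 4), (1, 21), (3, 37), (2, 34), (2, 51), (3, 53)]), ([5, 2, 0], [(0,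
    22), (2, 8), (1, 5), (0, 2), (3, 43), (4, 52)], [(1, 2), (0, 5), (1, 22), (3, 38), (2, 35), (4, 53), (5,
    53), (4, 52)]), ([6, 2, 0], [(0, 23), (1, 6), (0, 2), (3, 47), (4, 50)], [(1, 2), (0, 6), (3, 26), (2,
    24), (1, 23), (4, 39), (3, 37), (2, 36), (5, 53)]), ([7, 2, 0], [(0, 24), (1, 7), (0, 2), (3, 50)], [(1,
    2), (0, 7), (1, 24), (2, 37)]), ([8, 2, 0], [(0, 25), (1, 8), (0, 2), (3, 52)], [(1, 2), (0, 8), (2, 26),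
    (1, 25), (3, 39), (2, 38), (4, 53), (3, 52)]), ([9, 2, 0], [(0, 26), (1, 9), (0, 2)], [(1, 2), (0, 9), (1,
    26), (2, 39), (3, 53)]), ([3, 3, 0], [(0, 27), (0, 6)], [(1, 3), (0, 3), (3, 32), (2, 29), (1, 27), (1,
    41), (4, 43), (3, 42), (2, 41), (1, 40), (1, 48), (2, 51), (3, 53), (4, 53), (3, 52)]), ([3, 0, 0], [(0,
    3), (3, 8), (2, 5), (1, 3), (0, 0), (2, 43), (1, 40), (1, 53), (2, 53), (1, 52), (1, 54)], [(1, 0)]), ([4,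
    3, 0], [(0, 28), (3, 8), (2, 7), (1, 4), (0, 3), (3, 38), (2, 35), (4, 53), (5, 51), (4, 50), (6, 53), (5,
    52), (5, 54)], [(1, 3), (0, 4), (1, 28), (4, 43), (3, 42), (5, 52)]), ([5, 3, 0], [(0, 29), (2, 7), (1,
    5), (0, 3), (3, 43), (2, 40), (2, 53), (3, 51), (2, 50)], [(1, 3), (0, 5), (1, 29), (3, 42), (2, 40), (2,
    51), (3, 53)]), ([6, 3, 0], [(0, 30), (1, 6), (0, 3), (3, 47), (4, 50)], [(1, 3), (0, 6), (3, 33), (2,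
    31), (1, 30), (4, 44), (3, 42), (2, 41), (5, 53)]), ([7, 3, 0], [(0, 31), (1, 7), (0, 3), (3, 50)], [(1,
    3), (0, 7), (1, 31), (2, 42)])]

/-- Part of the overlaps. -/
def fiveTwoAssocPart1 : List (List ℕ × Trace × Trace) :=
  [([8, 3, 0], [(0, 32), (1, 8), (0, 3), (3, 52)], [(1, 3), (0, 8), (2, 33), (1, 32), (3, 44), (2, 43), (4, 53),
    (3, 52)]), ([9, 3, 0], [(0, 33), (1, 9), (0, 3)], [(1, 3), (0, 9), (1, 33), (2, 44), (3, 53)]), ([6, 4,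
    0], [(0, 36), (1, 6), (0, 4)], [(1, 4), (0, 6), (3, 39), (2, 37), (1, 36)]), ([8, 4, 0], [(0, 38), (1, 8),
    (0, 4)], [(1, 4), (0, 8), (2, 39), (1, 38)]), ([6, 6, 0], [(0, 45)], [(1, 6), (0, 6), (3, 48), (2, 46),
    (1, 45), (2, 51), (1, 49), (1, 54)]), ([6, 0, 0], [(0, 6), (3, 9), (2, 7), (1, 6), (0, 0), (2, 51), (1,
    49), (1, 54)], [(1, 0)]), ([7, 6, 0], [(0, 46), (1, 7), (0, 6), (3, 51), (2, 49)], [(1, 6), (0, 7), (1,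
    46), (2, 49)]), ([8, 6, 0], [(0, 47), (1, 8), (0, 6), (3, 53), (4, 54)], [(1, 6), (0, 8), (2, 48), (1,
    47), (3, 51), (2, 50), (4, 54)]), ([8, 8, 0], [(0, 52)], [(1, 8), (0, 8), (2, 53), (1, 52), (1, 54)]),
    ([2, 2, 1], [(0, 19), (0, 15)], [(1, 11), (0, 11), (4, 25), (3, 24), (2, 22), (1, 19), (1, 41), (3, 50),
    (4, 52), (3, 42), (2, 41), (1, 40), (1, 48), (2, 51), (3, 51), (2, 49), (2, 53)]), ([2, 1, 1], [(0, 11),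
    (4, 17), (3, 16), (2, 14), (1, 11), (0, 10), (3, 43), (2, 42), (1, 40), (1, 51), (2, 53), (3, 51), (2,
    50), (1, 49), (2, 54), (1, 52)], [(1, 10)]), ([3, 2, 1], [(0, 20), (2, 15), (1, 12), (0, 11), (4, 32), (3,
    31), (2, 29), (4, 49), (4, 38), (3, 35), (5, 53), (6, 44), (5, 43), (4, 40), (4, 53), (5, 54), (4, 50),
    (5, 52), (5, 48), (4, 46), (6, 53), (7, 54)], [(1, 11), (0, 12), (6, 26), (5, 25), (4, 24), (3, 22), (2,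
    21), (1, 20), (3, 36), (5, 42), (4, 41), (7, 50), (6, 49), (6, 52), (6, 44), (5, 41), (4, 40), (4, 48),
    (5, 54)]), ([5, 2, 1], [(0, 22), (2, 17), (1, 14), (0, 11), (4, 43), (3, 42), (2, 40), (2, 51), (3, 53),
    (4, 53), (3, 52)], [(1, 11), (0, 14), (1, 22), (3, 43), (2, 40), (2, 53), (3, 51), (2, 50), (4, 53), (3,
    52)]), ([6, 2, 1], [(0, 23), (1, 15), (0, 11), (4, 47), (3, 46), (5, 52)], [(1, 11), (0, 15), (3, 26), (2,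
    25), (1, 23), (4, 44), (3, 43), (2, 41), (5, 51), (4, 50), (6, 53), (5, 52)]), ([3, 3, 1], [(0, 27), (0,
    15)], [(1, 12), (0, 12), (6, 33), (5, 32), (4, 31), (3, 29), (2, 28), (1, 27), (1, 36), (4, 43), (3, 42),
    (2, 41), (5, 50), (4, 49), (4, 50), (5, 52), (5, 39), (4, 37), (3, 36), (2, 35), (1, 34), (1, 44), (2,
    54), (4, 44), (3, 42), (2, 41), (1, 40), (1, 48), (2, 51), (3, 54), (2, 49)]), ([3, 1, 1], [(0, 12), (6,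
    18), (5, 17), (4, 16), (3, 14), (2, 13), (1, 12), (0, 10), (5, 39), (4, 38), (3, 37), (2, 35), (1, 34),
    (1, 44), (2, 54), (4, 44), (3, 43), (2, 42), (1, 40), (1, 51), (2, 53), (3, 54), (2, 50), (1, 49), (2,
    53), (1, 52), (1, 54)], [(1, 10)]), ([6, 3, 1], [(0, 30), (1, 15), (0, 12), (6, 48), (5, 47), (4, 46), (7,
    53), (6, 52), (6, 54)], [(1, 12), (0, 15), (3, 33), (2, 32), (1, 30), (4, 39), (3, 38), (2, 36), (5, 44),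
    (4, 43), (3, 41), (6, 51), (5, 50), (7, 53), (6, 52), (6, 54)]), ([6, 6, 1], [(0, 45)], [(1, 15), (0, 15),
    (3, 48), (2, 47), (1, 45), (2, 53), (1, 52), (1, 54)]), ([6, 1, 1], [(0, 15), (3, 18), (2, 17), (1, 15),
    (0, 10), (2, 53), (1, 52), (1, 54)], [(1, 10)]), ([2, 2, 2], [(0, 19), (0, 23)], [(1, 19)])]

/-- Part of the overlaps. -/
def fiveTwoAssocPart2 : List (List ℕ × Trace × Trace) :=
  [([3, 3, 2], [(0, 27), (0, 23)], [(1, 20), (0, 20), (2, 30), (1, 27), (1, 45)]), ([3, 3, 3], [(0, 27), (0,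
    30)], [(1, 27)])]

/-- The overlaps. -/
def fiveTwoAssoc : List (List ℕ × Trace × Trace) :=
  fiveTwoAssocPart0 ++ fiveTwoAssocPart1 ++ fiveTwoAssocPart2

/-- Part of the fusion equations. -/
def fiveTwoFeqPart0 : List (ℕ × (List ℕ × List ℕ) × (Trace × Trace) × (Trace × Trace)) :=
  [(0, ([0, 0], [4]), ([(0, 19)], []), ([(0, 34)], [])), (0, ([1, 0], [0, 1, 4]), ([(0, 20)], []), ([(0, 35)],
    [])), (0, ([2, 0], [0, 2, 5]), ([(0, 21)], []), ([], [(0, 21), (2, 49)])), (0, ([3, 0], [0, 3, 6]), ([(0,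
    22)], []), ([], [(0, 28), (3, 50), (2, 49), (2, 52)])), (0, ([1, 1], [4]), ([(0, 27)], []), ([(0, 40)],
    [])), (0, ([2, 2], [7]), ([(0, 34)], []), ([(0, 19)], [])), (1, ([0, 0], []), ([(0, 0)], []), ([(0, 49)],
    [])), (1, ([1, 0], [0, 1]), ([(0, 1)], []), ([(0, 50)], [])), (1, ([5, 0], [0, 5, 6]), ([(0, 8)], []),
    ([], [(0, 16), (2, 54)])), (1, ([1, 1], []), ([(0, 10)], []), ([(0, 52)], []))]

/-- Part of the fusion equations. -/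
def fiveTwoFeqPart1 : List (ℕ × (List ℕ × List ℕ) × (Trace × Trace) × (Trace × Trace)) :=
  [(2, ([2, 0], [0, 2, 4, 8]), ([(0, 2)], []), ([(2, 15), (1, 12), (0, 11), (4, 32), (3, 31), (2, 29), (4, 49),
    (4, 38), (3, 35), (5, 53), (6, 44), (5, 43), (4, 40), (4, 53), (5, 54), (4, 50), (5, 52), (5, 48), (4,
    46), (6, 53), (7, 54)], [(3, 36)])), (2, ([3, 0], [0, 3, 5, 8]), ([(0, 3)], []), ([(0, 11)], [])), (2,
    ([6, 0], [0, 6, 7, 9]), ([(0, 6)], []), ([(0, 15)], [])), (2, ([8, 0], [0, 8, 9]), ([(0, 8)], []), ([(1,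
    17), (0, 16), (2, 53)], [])), (2, ([2, 1], [1, 2, 5, 7, 8]), ([(0, 11)], []), ([(2, 6), (1, 3), (0, 2),
    (3, 32), (2, 28), (5, 52), (4, 42), (6, 47), (5, 46), (7, 50), (6, 49), (7, 18), (6, 17), (5, 15), (4,
    14), (3, 13), (2, 12), (1, 11), (5, 32), (4, 31), (3, 29), (5, 49), (5, 38), (4, 35), (6, 53), (7, 44),
    (6, 43), (5, 40), (5, 53), (6, 54), (5, 50), (6, 52), (6, 39), (5, 37), (4, 34), (4, 51), (5, 54), (4,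
    42), (5, 46), (8, 53), (7, 52), (7, 54)], [(4, 41), (6, 50), (7, 52)])), (2, ([3, 1], [1, 3, 4, 5, 7, 8,
    9]), ([(0, 12)], []), ([(0, 2), (3, 17), (2, 13), (1, 11), (5, 38), (4, 37), (3, 35), (5, 51), (6, 53),
    (7, 53), (6, 52)], [(5, 50), (6, 52)])), (2, ([6, 1], [1, 6, 8, 9]), ([(0, 15)], []), ([(0, 6), (3, 18),
    (2, 16), (1, 15), (4, 51), (3, 50), (5, 54)], [])), (2, ([2, 2], [6]), ([(0, 19)], []), ([(2, 23), (1,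
    20), (0, 19), (0, 30), (1, 45), (1, 30), (0, 27), (0, 45)], []))]

/-- The fusion equations. -/
def fiveTwoFeq : List (ℕ × (List ℕ × List ℕ) × (Trace × Trace) × (Trace × Trace)) :=
  fiveTwoFeqPart0 ++ fiveTwoFeqPart1

/-- Part of the rows. -/
def fiveTwoRowsPart0 : List (List ℕ) :=
  [[11, 8, 7, 5, 2, 1, 43, 50, 52, 1, 2, 17, 13, 11, 38, 37, 35, 51, 53, 53, 52], [12, 9, 8, 7, 5, 4, 3, 1, 38,
    35, 53, 44, 43, 40, 53, 54, 50, 52, 54, 1, 3, 17, 14, 12, 44, 43, 42, 40, 51, 53, 54, 52], [15, 9, 8, 6,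
    1, 53, 54, 1, 6, 18, 16, 15, 51, 50, 54], [16, 9, 7, 1, 1, 7, 16], [17, 8, 1, 1, 8, 18, 17], [19, 6, 2, 2,
    25, 21, 19, 36, 38, 37, 36, 34, 48, 51, 53, 53, 52], [2, 8, 4, 2, 0, 38, 34, 53, 53, 52, 54, 0], [20, 6,
    3, 2, 32, 28, 52, 42, 47, 46, 50, 49, 2, 3, 25, 22, 20, 41, 52, 36, 35, 48, 53], [21, 7, 4, 2, 38, 34, 53,
    51, 50, 2, 4, 21, 37, 34, 51, 53], [22, 8, 5, 2, 43, 52, 2, 5, 22, 38, 35, 53, 53, 52], [23, 6, 2, 47, 50,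
    2, 6, 26, 24, 23, 39, 37, 36, 53], [24, 7, 2, 50, 2, 7, 24, 37], [25, 8, 2, 52, 2, 8, 26, 25, 39, 38, 53,
    52], [26, 9, 2, 2, 9, 26, 39, 53], [27, 6, 3, 3, 32, 29, 27, 41, 43, 42, 41, 40, 48, 51, 53, 53, 52], [3,
    8, 5, 3, 0, 43, 40, 53, 53, 52, 54, 0], [28, 8, 7, 4, 3, 38, 35, 53, 51, 50, 53, 52, 54, 3, 4, 28, 43, 42,
    52], [29, 7, 5, 3, 43, 40, 53, 51, 50, 3, 5, 29, 42, 40, 51, 53], [30, 6, 3, 47, 50, 3, 6, 33, 31, 30, 44,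
    42, 41, 53], [31, 7, 3, 50, 3, 7, 31, 42]]

/-- Part of the rows. -/
def fiveTwoRowsPart1 : List (List ℕ) :=
  [[32, 8, 3, 52, 3, 8, 33, 32, 44, 43, 53, 52], [33, 9, 3, 3, 9, 33, 44, 53], [36, 6, 4, 4, 6, 39, 37, 36],
    [38, 8, 4, 4, 8, 39, 38], [45, 6, 6, 48, 46, 45, 51, 49, 54], [6, 9, 7, 6, 0, 51, 49, 54, 0], [46, 7, 6,
    51, 49, 6, 7, 46, 49], [47, 8, 6, 53, 54, 6, 8, 48, 47, 51, 50, 54], [52, 8, 8, 53, 52, 54], [19, 15, 11,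
    11, 25, 24, 22, 19, 41, 50, 52, 42, 41, 40, 48, 51, 51, 49, 53], [11, 17, 16, 14, 11, 10, 43, 42, 40, 51,
    53, 51, 50, 49, 54, 52, 10], [20, 15, 12, 11, 32, 31, 29, 49, 38, 35, 53, 44, 43, 40, 53, 54, 50, 52, 48,
    46, 53, 54, 11, 12, 26, 25, 24, 22, 21, 20, 36, 42, 41, 50, 49, 52, 44, 41, 40, 48, 54], [22, 17, 14, 11,
    43, 42, 40, 51, 53, 53, 52, 11, 14, 22, 43, 40, 53, 51, 50, 53, 52], [23, 15, 11, 47, 46, 52, 11, 15, 26,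
    25, 23, 44, 43, 41, 51, 50, 53, 52], [27, 15, 12, 12, 33, 32, 31, 29, 28, 27, 36, 43, 42, 41, 50, 49, 50,
    52, 39, 37, 36, 35, 34, 44, 54, 44, 42, 41, 40, 48, 51, 54, 49], [12, 18, 17, 16, 14, 13, 12, 10, 39, 38,
    37, 35, 34, 44, 54, 44, 43, 42, 40, 51, 53, 54, 50, 49, 53, 52, 54, 10], [30, 15, 12, 48, 47, 46, 53, 52,
    54, 12, 15, 33, 32, 30, 39, 38, 36, 44, 43, 41, 51, 50, 53, 52, 54], [45, 15, 15, 48, 47, 45, 53, 52, 54],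
    [15, 18, 17, 15, 10, 53, 52, 54, 10], [19, 23, 19]]

/-- Part of the rows. -/
def fiveTwoRowsPart2 : List (List ℕ) :=
  [[27, 23, 20, 20, 30, 27, 45], [27, 30, 27], [55, 55, 34, 19, 59], [56, 55, 35, 20, 55, 56, 59], [57, 55, 21,
    55, 57, 60, 21, 49], [58, 55, 22, 55, 58, 61, 28, 50, 49, 52], [56, 56, 40, 27, 59], [57, 57, 19, 34, 62],
    [63, 63, 49, 0], [64, 63, 50, 1, 63, 64], [68, 63, 8, 63, 68, 69, 16, 54], [64, 64, 52, 10], [72, 70, 15,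
    12, 11, 32, 31, 29, 49, 38, 35, 53, 44, 43, 40, 53, 54, 50, 52, 48, 46, 53, 54, 2, 70, 72, 74, 78, 36],
    [73, 70, 11, 3, 70, 73, 75, 78], [76, 70, 15, 6, 70, 76, 77, 79], [78, 70, 17, 16, 53, 8, 70, 78, 79],
    [72, 71, 6, 3, 2, 32, 28, 52, 42, 47, 46, 50, 49, 18, 17, 15, 14, 13, 12, 11, 32, 31, 29, 49, 38, 35, 53,
    44, 43, 40, 53, 54, 50, 52, 39, 37, 34, 51, 54, 42, 46, 53, 52, 54, 11, 71, 72, 75, 77, 78, 41, 50, 52],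
    [73, 71, 2, 17, 13, 11, 38, 37, 35, 51, 53, 53, 52, 12, 71, 73, 74, 75, 77, 78, 79, 50, 52], [76, 71, 6,
    18, 16, 15, 51, 50, 54, 15, 71, 76, 78, 79], [72, 72, 23, 20, 19, 30, 45, 30, 27, 45, 19, 76]]

/-- The rows. -/
def fiveTwoRows : List (List ℕ) :=
  fiveTwoRowsPart0 ++ fiveTwoRowsPart1 ++ fiveTwoRowsPart2

/-- The gauge. -/
def fiveTwoGauge : List (List ℕ) :=
  [[], [], [], [], [3, 6, 12], [2, 6, 12], [19], [6, 8], [2, 3, 6, 12], [8]]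

/-- The goals. -/
def fiveTwoGoals : List (List ℕ) :=
  [[0], [1], [2, 3, 6, 12, 2, 3, 6, 12], [3, 2, 6, 12, 2, 3, 6, 12], [4, 3, 6, 12, 3, 6, 12], [5, 2, 6, 12, 2,
    6, 12], [6, 19, 19, 6, 8, 8], [7, 6, 8, 6, 8], [8, 2, 3, 6, 12, 2, 3, 6, 12, 8], [9, 8, 8], [10], [11, 2,
    6, 12, 6, 8, 2, 3, 6, 12], [12, 3, 6, 12, 2, 6, 12, 6, 8, 2, 3, 6, 12, 8], [13, 3, 6, 12, 3, 6, 12], [14,
    2, 6, 12, 2, 6, 12], [15, 19, 19, 2, 3, 6, 12, 8], [16, 6, 8, 6, 8, 8], [17, 2, 3, 6, 12, 2, 3, 6, 12],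
    [18, 8, 8], [19, 19], [20, 19], [21, 3, 6, 12, 3, 6, 12, 6, 8], [22, 2, 6, 12, 2, 6, 12, 2, 3, 6, 12],
    [23, 19, 19], [24, 6, 8, 6, 8], [25, 2, 3, 6, 12, 2, 3, 6, 12], [26, 8, 8], [27, 19], [28, 3, 6, 12, 3, 6,
    12, 6, 8, 2, 3, 6, 12], [29, 2, 6, 12, 2, 6, 12, 6, 8], [30, 19, 19], [31, 6, 8, 6, 8], [32, 2, 3, 6, 12,
    2, 3, 6, 12], [33, 8, 8], [34, 3, 6, 12, 3, 6, 12, 8], [35, 2, 6, 12, 3, 6, 12, 3, 6, 12, 2, 6, 12, 8],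
    [36, 19, 3, 6, 12, 3, 6, 12, 19], [37, 6, 8, 3, 6, 12, 3, 6, 12, 6, 8], [38, 2, 3, 6, 12, 3, 6, 12, 3, 6,
    12, 2, 3, 6, 12], [39, 8, 3, 6, 12, 3, 6, 12, 8], [40, 2, 6, 12, 2, 6, 12, 8], [41, 19, 2, 6, 12, 2, 6,
    12, 19], [42, 6, 8, 2, 6, 12, 2, 6, 12, 6, 8], [43, 2, 3, 6, 12, 2, 6, 12, 2, 6, 12, 2, 3, 6, 12], [44, 8,
    2, 6, 12, 2, 6, 12, 8], [45, 19, 19], [46, 6, 8, 19, 19, 6, 8], [47, 2, 3, 6, 12, 19, 19, 2, 3, 6, 12],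
    [48, 8, 19, 19, 8], [49, 6, 8, 6, 8], [50, 2, 3, 6, 12, 6, 8, 6, 8, 2, 3, 6, 12], [51, 8, 6, 8, 6, 8, 8],
    [52, 2, 3, 6, 12, 2, 3, 6, 12], [53, 8, 2, 3, 6, 12, 2, 3, 6, 12, 8], [54, 8, 8]]

/-- Part of the combinations. -/
def fiveTwoCombsPart0 : List (List ℕ) :=
  [[3, 9, 16, 19, 25, 48], [11, 22, 23, 49], [], [], [1, 2, 3, 4, 11, 15, 16, 17, 22, 23, 25, 28, 30], [0, 1, 2,
    3, 4, 6, 8, 9, 11, 13, 15, 25, 26, 35, 38], [], [9, 13, 16, 19, 23, 26, 28], [], [3], [4, 19, 28, 32, 38,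
    51], [0, 1, 2, 3, 6, 7, 8, 9, 10, 11, 12, 13, 16, 17, 19, 23, 24, 25, 26, 27, 29, 30, 32, 34, 36, 37, 52,
    53, 54, 55, 57, 58], [], [1, 2, 3, 4, 6, 8, 9, 15, 16, 23, 25, 26, 28, 32, 35, 38], [0, 1, 3, 6, 8, 13,
    16, 19, 22, 23, 30, 32, 35, 38], [3, 4, 5, 7, 8, 9, 10, 12, 13, 14, 18, 19, 20, 21, 22, 23, 25, 27, 28,
    30, 31, 33, 37, 38, 52, 56, 57, 58], [2, 3, 4, 11, 13, 22, 26], [19, 32], [4], [], [1, 2, 3, 6, 11, 15,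
    19, 22, 23, 25, 26, 30, 32, 38, 42, 43], [0, 7, 8, 9, 10, 13, 15, 21, 22, 24, 27, 28, 30, 31, 34, 35, 36,
    37, 38], [1, 2, 4, 5, 6, 9, 10, 13, 15, 16, 21, 22, 24, 28, 31, 32, 34, 36, 37, 52, 56, 57, 58], [39], [1,
    2, 5, 6, 8, 10, 12, 14, 15, 18, 19, 20, 21, 22, 23, 26, 28, 29, 30, 31, 32, 33, 37, 38], [0, 1, 2, 3, 4,
    5, 6, 7, 8, 9, 10, 13, 16, 17, 21, 23, 24, 25, 28, 31, 34, 35, 36, 37, 38], [8, 9, 11, 12, 16, 19, 23, 26,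
    28], [0, 9, 11, 13, 15, 16, 19, 22, 23, 26, 28, 30, 35, 38, 42, 46], [0, 8, 9, 11, 13, 15, 20, 28, 32, 35,
    36, 38, 52, 56, 57, 58], [1, 2, 4, 6, 7, 10, 11, 12, 15, 16, 18, 21, 22, 24, 27, 28, 29, 30, 34, 37],
    [41], [0, 1, 2, 4, 5, 6, 7, 9, 10, 11, 12, 13, 16, 17, 18, 19, 20, 27, 28, 31, 33, 34, 35, 36, 37, 38],
    [0, 3, 7, 8, 9, 10, 12, 13, 14, 15, 16, 18, 19, 21, 22, 24, 25, 26, 29, 30, 34, 35, 37, 38], [9, 13, 16,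
    17, 20, 21, 23, 26, 28], [1, 2, 3, 6, 8, 9, 15, 17, 22, 23, 25, 26, 30, 32, 38], [8, 9, 11, 17, 19], [1,
    2, 4, 5, 6, 9, 11, 14, 15, 16, 18, 19, 20, 21, 26, 27, 29, 30, 31, 33], [22, 23], [8, 9, 11, 13, 16, 19,
    23, 26, 28], [23]]

/-- Part of the combinations. -/
def fiveTwoCombsPart1 : List (List ℕ) :=
  [[0, 1, 2, 3, 6, 8, 11, 13, 16, 17, 19, 25, 28, 32, 35], [0, 1, 2, 5, 6, 7, 10, 12, 13, 19, 22, 23, 31, 32,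
    33, 34, 35, 36], [11, 19, 22, 23], [9, 13, 16, 17, 23, 26, 28], [13, 21, 23], [39, 40, 41], [3, 9, 11, 16,
    19, 22, 23, 24, 25, 27, 28], [4, 11, 13, 19, 22, 26, 27, 32, 37, 38], [11, 13, 22, 26, 27], [3, 9, 16, 19,
    25], [11, 22, 23], [26], [4, 19, 28, 32, 38], [13, 23], [13, 23, 28]]

/-- The combinations. -/
def fiveTwoCombs : List (List ℕ) :=
  fiveTwoCombsPart0 ++ fiveTwoCombsPart1

/-- The presentation. -/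
def fiveTwo : PcData where
  p := 2
  n := 10
  rules := fiveTwoRules
  fus := fiveTwoFus

/-- The certificate. -/
def fiveTwoCert : PcCert where
  assoc := fiveTwoAssoc
  feq := fiveTwoFeq
  rows := fiveTwoRows
  F := fiveTwoGauge
  goals := fiveTwoGoals
  combs := fiveTwoCombs

end Cfsg.Lib.UnitMult.Data
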