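import Cfsg.Agent.Lib.UnitMult.TwoLetters
import Cfsg.Agent.Lib.UnitMult.TwoDataFiveTwo

/-!
# Kernel checks of the certificate for the two-part in unitary dimension 5
-/

set_option autoImplicit false
set_option maxRecDepth 100000

namespace Cfsg.Lib.UnitMult

open Cfsg.Lib.Schur.PcStem Cfsg.Lib.Concrete Data

theorem fiveTwo_check : fiveTwo.check fiveTwoCert (xorVec 80) = true := by decide +kernel

theorem fiveTwo_rels : (letsOk 5 fiveTwoVecs && relsT 5 fiveTwoVecs fiveTwoGens fiveTwoConj fiveTwo) = true := by decide +kernel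

theorem fiveTwo_card : (stagesOk 5 fiveTwoVecs fiveTwoGens fiveTwo.n fiveTwoStages [] &&
    Nat.beq (stagesSize fiveTwoStages) (2 ^ 10)) = true := by decide +kernel

end Cfsg.Lib.UnitMult
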