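import Cfsg.Prelude.Def_Classical
import Cfsg.Prelude.Def_KGroupFacts
import Cfsg.Agent.Lib.Schur.PcStem
import Mathlib

/-!
# Unitary groups over the field with four elements: transvection words evaluated on coded vectors
-/

set_option autoImplicit false

namespace Cfsg.Lib.UnitMult

open Cfsg Cfsg.Lib.Schur.ModSplit Cfsg.Lib.Schur.PcStem
open scoped Matrix

universe u

/-- A primitive cube root of unity in a field of characteristic two. -/
structure Code (F : Type u) [Field F] where
  ω : F
  two : (2 : F) = 0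
  sq : ω * ω = ω + 1

theorem exists_code {F : Type u} [Field F] [Fintype F] (hF : Fintype.card F = 4) : Nonempty (Code F) := by
  classical
  have : Fact (Nat.Prime 2) := ⟨Nat.prime_two⟩
  have : CharP F 2 := charP_of_card_eq_prime_pow (f := 2) (by simpa using hF)
  have h2 : (2 : F) = 0 := by exact_mod_cast CharP.cast_eq_zero F 2
  obtain ⟨x, hx⟩ : ∃ x : F, x ∉ ({0, 1} : Finset F) := by
    by_contra h
    push Not at h
    have := Finset.card_le_card (s := (Finset.univ : Finset F)) (t := {0, 1}) fun x _ => h x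
    rw [Finset.card_univ, hF] at this
    exact absurd (this.trans Finset.card_le_two) (by norm_num)
  simp only [Finset.mem_insert, Finset.mem_singleton, not_or] at hx
  have h3 : x ^ 3 = 1 := by simpa [hF] using FiniteField.pow_card_sub_one_eq_one x hx.1
  have : (x - 1) * (x * x + x + 1) = 0 := by linear_combination h3
  rcases mul_eq_zero.1 this with h | h
  · exact absurd (sub_eq_zero.1 h) hx.2
  · exact ⟨⟨x, h2, by linear_combination h - (x + 1) * h2⟩⟩

/-- Products of codes. -/
def mulT (a b : ℕ) : ℕ :=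
  Nat.land (Nat.shiftRight 2625168384 (Nat.mul 2 (Nat.add (Nat.mul 4 a) b))) 3

/-- Squares of codes. -/
def sqT (a : ℕ) : ℕ := Nat.land (Nat.shiftRight 180 (Nat.mul 2 a)) 3

/-- The coded form. -/
def dotT : List ℕ → List ℕ → ℕ
  | a :: u, b :: v => Nat.xor (mulT a (sqT b)) (dotT u v)
  | _, _ => 0

/-- Adding a multiple of a coded vector. -/
def addS (c : ℕ) : List ℕ → List ℕ → List ℕ
  | a :: u, b :: v => Nat.xor a (mulT c b) :: addS c u v
  | _, _ => []

/-- A coded transvection. -/
def appT (v u : List ℕ) : List ℕ := addS (dotT u v) u v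

/-- A coded word of transvections. -/
def evalT (vs : List (List ℕ)) : List ℕ → List ℕ → List ℕ
  | [], u => u
  | a :: W, u => appT (vs.getD a []) (evalT vs W u)

/-- A coded word of transvections, evaluated letter by letter. -/
def evalK {α : Type} (vs : List (List ℕ)) : List ℕ → List ℕ → (List ℕ → α) → α
  | [], u, κ => κ u
  | a :: W, u, κ => evalK vs W u fun r => ModData.strictL (appT (vs.getD a []) r) κ

theorem evalK_eq {α : Type} (vs : List (List ℕ)) : ∀ (W u : List ℕ) (κ : List ℕ → α),
    evalK vs W u κ = κ (evalT vs W u)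
  | [], _, _ => rfl
  | a :: W, u, κ => by rw [evalK, evalK_eq vs W, ModData.strictL_eq]; rfl

/-- The unit vectors. -/
def unitC (n j : ℕ) : List ℕ := (List.range n).map fun i => bif Nat.beq i j then 1 else 0

/-- A coded vector. -/
def vecOk (n : ℕ) (v : List ℕ) : Bool := Nat.beq v.length n && v.all fun a => Nat.blt a 4

/-- A coded isotropic vector. -/
def isoOk (n : ℕ) (v : List ℕ) : Bool := vecOk n v && Nat.beq (dotT v v) 0

/-- All letters are transvections. -/
def letsOk (n : ℕ) (vs : List (List ℕ)) : Bool := vs.all (isoOk n)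

/-- Valid letters only. -/
def inV (vs : List (List ℕ)) (W : List ℕ) : Bool := W.all fun a => Nat.blt a vs.length

/-- Two words agree on the unit vectors. -/
def sameT (n : ℕ) (vs : List (List ℕ)) (W W' : List ℕ) : Bool :=
  inV vs W && inV vs W' && (List.range n).all fun j =>
    evalK vs W (unitC n j) fun r => evalK vs W' (unitC n j) fun r' => r == r'

/-- The rules and conjugations hold. -/
def relsT (n : ℕ) (vs gw fw : List (List ℕ)) (d : PcData) : Bool :=
  (d.rules.all fun r => sameT n vs (PcData.expand gw r.1) (PcData.expand gw r.2)) &&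
  (List.range d.fus.length).all fun i => (List.range (d.fusAt i).2.1.length).all fun t =>
    sameT n vs (fw.getD i [] ++ PcData.expand gw ((d.fusAt i).2.1.getD t []))
      (PcData.expand gw ((d.fusAt i).2.2.getD t []) ++ fw.getD i [])

/-- Stages: each family fixes the earlier vectors and moves its own to distinct places. -/
def stagesOk (n : ℕ) (vs gw : List (List ℕ)) (m : ℕ) : List (List ℕ × List (List ℕ)) → List (List ℕ) → Bool
  | [], _ => true
  | (b, Ws) :: rest, fixd => vecOk n b && (Ws.all fun W => (W.all fun a => Nat.blt a m) &&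
      inV vs (PcData.expand gw W) && fixd.all fun u => evalK vs (PcData.expand gw W) u fun r => r == u) &&
      decide ((Ws.map fun W => evalK vs (PcData.expand gw W) b fun r => r).Nodup) &&
      stagesOk n vs gw m rest (b :: fixd)

/-- The number of products over the stages. -/
def stagesSize (st : List (List ℕ × List (List ℕ))) : ℕ := (st.map fun s => s.2.length).prod

section Field

variable {F : Type u} [Field F] (C : Code F) {n : ℕ}

include C in
theorem add_self_zero (x : F) : x + x = 0 := by linear_combination x * C.two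

/-- The scalar of a code. -/
def Code.φ : ℕ → F
  | 1 => 1
  | 2 => C.ω
  | 3 => C.ω + 1
  | _ => 0

theorem Code.φ_xor : ∀ {a b : ℕ}, a < 4 → b < 4 → C.φ (Nat.xor a b) = C.φ a + C.φ b := by
  intro a b ha hb
  have h := C.two
  interval_cases a <;> interval_cases b <;> norm_num [Code.φ] <;> grind

theorem Code.φ_mulT : ∀ {a b : ℕ}, a < 4 → b < 4 → C.φ (mulT a b) = C.φ a * C.φ b := by
  intro a b ha hb
  have h := C.two
  have h' := C.sq
  interval_cases a <;> interval_cases b <;> norm_num [Code.φ, mulT] <;> grind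

theorem Code.φ_sqT : ∀ {a : ℕ}, a < 4 → C.φ (sqT a) = C.φ a ^ 2 := by
  intro a ha
  have h := C.two
  have h' := C.sq
  interval_cases a <;> norm_num [Code.φ, sqT] <;> grind

theorem Code.ω_ne_zero : C.ω ≠ 0 := fun h => by simpa [h] using C.sq

theorem Code.ω_ne_one : C.ω ≠ 1 := fun h => by
  have := C.sq
  rw [h] at this
  exact one_ne_zero (show (1 : F) = 0 by linear_combination -this)

theorem Code.φ_inj : ∀ {a b : ℕ}, a < 4 → b < 4 → C.φ a = C.φ b → a = b := by
  intro a b ha hb h
  have h2 := C.two
  have h0 := C.ω_ne_zero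
  have h1 := C.ω_ne_one
  have h3 : (1 : F) ≠ 0 := one_ne_zero
  interval_cases a <;> interval_cases b <;> simp only [Code.φ] at h ⊢ <;> grind

theorem mulT_lt (a b : ℕ) : mulT a b < 4 := Nat.lt_succ_of_le Nat.and_le_right

theorem sqT_lt (a : ℕ) : sqT a < 4 := Nat.lt_succ_of_le Nat.and_le_right

theorem xor_lt {a b : ℕ} (ha : a < 4) (hb : b < 4) : Nat.xor a b < 4 := Nat.xor_lt_two_pow (n := 2) ha hb

theorem dotT_lt : ∀ u v : List ℕ, dotT u v < 4
  | [], _ => by simp [dotT]
  | _ :: _, [] => by simp [dotT]
  | a :: u, b :: v => xor_lt (mulT_lt _ _) (dotT_lt u v)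

/-- The vector of a coded vector. -/
def Code.toV (n : ℕ) (l : List ℕ) : Fin n → F := fun i => C.φ (l.getD i.val 0)

theorem toV_dot : ∀ {n : ℕ} {u v : List ℕ}, vecOk n u = true → vecOk n v = true →
    C.φ (dotT u v) = ∑ i, C.toV n u i * C.toV n v i ^ 2 := by
  intro n
  induction n with
  | zero =>
    intro u v hu hv
    simp only [vecOk, Bool.and_eq_true, Nat.beq_eq, List.length_eq_zero_iff] at hu hv
    simp [hu.1, hv.1, dotT, Code.φ]
  | succ n ih =>
    intro u v hu hv
    cases u with
    | nil => simp [vecOk] at hu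
    | cons a u =>
      cases v with
      | nil => simp [vecOk] at hv
      | cons b v =>
        simp only [vecOk, List.length_cons, List.all_cons, Bool.and_eq_true, Nat.beq_eq, Nat.blt_eq,
          Nat.add_right_cancel_iff] at hu hv
        obtain ⟨hul, ha, hu⟩ := hu
        obtain ⟨hvl, hb, hv⟩ := hv
        rw [dotT, C.φ_xor (mulT_lt _ _) (dotT_lt _ _), C.φ_mulT ha (sqT_lt _), C.φ_sqT hb,
          ih (by simp [vecOk, hul, hu]) (by simp [vecOk, hvl, hv]), Fin.sum_univ_succ]
        rfl

theorem addS_spec {c : ℕ} (hc : c < 4) : ∀ {n : ℕ} {u v : List ℕ}, vecOk n u = true → vecOk n v = true →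
    vecOk n (addS c u v) = true ∧ C.toV n (addS c u v) = fun i => C.toV n u i + C.φ c * C.toV n v i := by
  intro n
  induction n with
  | zero =>
    intro u v hu hv
    simp only [vecOk, Bool.and_eq_true, Nat.beq_eq, List.length_eq_zero_iff] at hu hv
    exact ⟨by simp [hu.1, hv.1, addS, vecOk], funext fun i => i.elim0⟩
  | succ n ih =>
    intro u v hu hv
    cases u with
    | nil => simp [vecOk] at hu
    | cons a u =>
      cases v with
      | nil => simp [vecOk] at hv
      | cons b v =>
        simp only [vecOk, List.length_cons, List.all_cons, Bool.and_eq_true, Nat.beq_eq, Nat.blt_eq,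
          Nat.add_right_cancel_iff] at hu hv
        obtain ⟨hul, ha, hu⟩ := hu
        obtain ⟨hvl, hb, hv⟩ := hv
        obtain ⟨h1, h2⟩ := ih (u := u) (v := v) (by simp [vecOk, hul, hu]) (by simp [vecOk, hvl, hv])
        refine ⟨?_, funext fun i => ?_⟩
        · simp only [vecOk, addS, List.length_cons, List.all_cons, Bool.and_eq_true, Nat.beq_eq, Nat.blt_eq,
            Nat.add_right_cancel_iff] at h1 ⊢
          exact ⟨h1.1, xor_lt ha (mulT_lt _ _), h1.2⟩
        · refine Fin.cases ?_ (fun j => ?_) i
          · simp only [Code.toV, addS, Fin.val_zero, List.getD_cons_zero]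
            rw [C.φ_xor ha (mulT_lt _ _), C.φ_mulT hc hb]
          · exact congrFun h2 j

theorem toV_inj {u v : List ℕ} (hu : vecOk n u = true) (hv : vecOk n v = true)
    (h : C.toV n u = C.toV n v) : u = v := by
  simp only [vecOk, Bool.and_eq_true, Nat.beq_eq, List.all_eq_true, Nat.blt_eq] at hu hv
  refine List.ext_getElem (by rw [hu.1, hv.1]) fun i h1 h2 => ?_
  have := congrFun h ⟨i, hu.1 ▸ h1⟩
  simp only [Code.toV] at this
  rw [List.getD_eq_getElem _ _ h1, List.getD_eq_getElem _ _ h2] at this
  exact C.φ_inj (hu.2 _ (List.getElem_mem h1)) (hv.2 _ (List.getElem_mem h2)) this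

theorem vecOk_unitC (j : ℕ) : vecOk n (unitC n j) = true := by
  simp only [vecOk, unitC, List.length_map, List.length_range, Bool.and_eq_true, Nat.beq_refl, List.all_eq_true,
    List.mem_map, Nat.blt_eq, true_and]
  rintro a ⟨i, -, rfl⟩
  cases Nat.beq i j <;> simp

theorem toV_unitC (j : Fin n) : C.toV n (unitC n j.val) = Pi.single j 1 := by
  funext i
  rw [Code.toV, List.getD_eq_getElem _ _ (by simp [unitC])]
  simp only [unitC, List.getElem_map, List.getElem_range]
  by_cases h : i = j
  · subst h; simp [Code.φ]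
  · have : Nat.beq i.val j.val = false := Bool.eq_false_iff.2 fun e => h (Fin.ext (Nat.eq_of_beq_eq_true e))
    simp [this, Code.φ, h]

/-- The matrix of a transvection. -/
def tMat (v : Fin n → F) : Matrix (Fin n) (Fin n) F :=
  1 + Matrix.replicateCol Unit v * Matrix.replicateRow Unit (fun j => v j ^ 2)

theorem tMat_mulVec (v u : Fin n → F) (i : Fin n) : (tMat v *ᵥ u) i = u i + (∑ j, u j * v j ^ 2) * v i := by
  rw [tMat, Matrix.add_mulVec, Matrix.one_mulVec, Pi.add_apply, add_right_inj]
  simp only [Matrix.mulVec, dotProduct, Matrix.mul_apply, Matrix.replicateCol_apply, Matrix.replicateRow_apply,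
    Finset.univ_unique, Finset.sum_singleton, Finset.sum_mul]
  exact Finset.sum_congr rfl fun j _ => by ring

theorem tMat_det (v : Fin n → F) (hv : hermForm n F 2 v v = 0) : (tMat v).det = 1 := by
  rw [tMat, Matrix.det_one_add_replicateCol_mul_replicateRow, add_eq_left, dotProduct, ← hv, hermForm]
  exact Finset.sum_congr rfl fun j _ => mul_comm _ _

include C in
theorem tMat_herm [Fintype F] (hF : Fintype.card F = 4) (v : Fin n → F) (hv : hermForm n F 2 v v = 0)
    (a b : Fin n → F) : hermForm n F 2 (tMat v *ᵥ a) (tMat v *ᵥ b) = hermForm n F 2 a b := by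
  simp only [hermForm] at hv ⊢
  simp only [tMat_mulVec]
  have hsq : ∀ x y : F, (x + y) ^ 2 = x ^ 2 + y ^ 2 := fun x y => by linear_combination x * y * C.two
  have h4 : ∀ x : F, (x ^ 2) ^ 2 = x := fun x => by rw [← pow_mul]; simpa [hF] using FiniteField.pow_card x
  set A := ∑ j, a j * v j ^ 2 with hA
  set B := ∑ j, b j * v j ^ 2 with hB
  have hB2 : B ^ 2 = ∑ j, v j * b j ^ 2 := by
    have : CharP F 2 := CharTwo.of_one_ne_zero_of_two_eq_zero one_ne_zero C.two
    rw [hB, CharTwo.sum_sq]
    exact Finset.sum_congr rfl fun j _ => by rw [mul_pow, h4]; ring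
  calc ∑ i, (a i + A * v i) * (b i + B * v i) ^ 2
      = ∑ i, (a i * b i ^ 2 + B ^ 2 * (a i * v i ^ 2) + A * (v i * b i ^ 2) + A * B ^ 2 * (v i * v i ^ 2)) :=
        Finset.sum_congr rfl fun i _ => by rw [hsq]; ring
    _ = ∑ i, a i * b i ^ 2 + B ^ 2 * A + A * B ^ 2 + A * B ^ 2 * ∑ i, v i * v i ^ 2 := by
        rw [Finset.sum_add_distrib, Finset.sum_add_distrib, Finset.sum_add_distrib, ← Finset.mul_sum,
          ← Finset.mul_sum, ← Finset.mul_sum, ← hA, ← hB2]
    _ = ∑ i, a i * b i ^ 2 := by rw [hv]; linear_combination A * B ^ 2 * C.two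

variable [Fintype F] (hF : Fintype.card F = 4)

include C hF in
theorem exists_transv (v : Fin n → F) (hv : hermForm n F 2 v v = 0) :
    ∃ g : ↥(SU n F 2), slToMat n F g.1 = tMat v :=
  ⟨⟨⟨tMat v, tMat_det v hv⟩, fun a b => tMat_herm C hF v hv a b⟩, rfl⟩

/-- The action on vectors. -/
def actV (g : ↥(SU n F 2)) (u : Fin n → F) : Fin n → F := slToMat n F g.1 *ᵥ u

omit [Fintype F] in
theorem actV_mul (g h : ↥(SU n F 2)) (u : Fin n → F) : actV (g * h) u = actV g (actV h u) := by
  rw [actV, actV, actV, Matrix.mulVec_mulVec, Subgroup.coe_mul, map_mul]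

omit [Fintype F] in
theorem actV_one (u : Fin n → F) : actV (1 : ↥(SU n F 2)) u = u := by
  rw [actV, Subgroup.coe_one, map_one, Matrix.one_mulVec]

omit [Fintype F] in
theorem ext_actV {g h : ↥(SU n F 2)} (e : ∀ j, actV g (Pi.single j 1) = actV h (Pi.single j 1)) : g = h := by
  refine Subtype.ext (Subtype.ext ?_)
  ext i j
  have := congrFun (e j) i
  simpa [actV, Matrix.mulVec_single_one] using this

/-- The transvection of a letter. -/
noncomputable def trv (vs : List (List ℕ)) (a : ℕ) : ↥(SU n F 2) :=
  open Classical in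
  if h : hermForm n F 2 (C.toV n (vs.getD a [])) (C.toV n (vs.getD a [])) = 0 then (exists_transv C hF _ h).choose
  else 1

/-- The element of a word. -/
noncomputable def elW (vs : List (List ℕ)) (W : List ℕ) : ↥(SU n F 2) := (W.map (trv C hF vs)).prod

theorem elW_append (vs : List (List ℕ)) (W W' : List ℕ) :
    (elW C hF vs (W ++ W') : ↥(SU n F 2)) = elW C hF vs W * elW C hF vs W' := by
  simp [elW]

theorem evalT_spec {vs : List (List ℕ)} (hl : letsOk n vs = true) :
    ∀ {W : List ℕ}, inV vs W = true → ∀ {u : List ℕ}, vecOk n u = true →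
      vecOk n (evalT vs W u) = true ∧ actV (elW C hF vs W) (C.toV n u) = C.toV n (evalT vs W u) := by
  intro W
  induction W with
  | nil => intro _ u hu; exact ⟨hu, by rw [elW, List.map_nil, List.prod_nil, actV_one]; rfl⟩
  | cons a W ih =>
    intro hW u hu
    simp only [inV, List.all_cons, Bool.and_eq_true, Nat.blt_eq] at hW
    obtain ⟨ha, hW⟩ := hW
    obtain ⟨h1, h2⟩ := ih (by simpa [inV] using hW) hu
    have hv : isoOk n (vs.getD a []) = true := by
      rw [List.getD_eq_getElem _ _ ha]; exact List.all_eq_true.1 hl _ (List.getElem_mem ha)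
    simp only [isoOk, Bool.and_eq_true, Nat.beq_eq] at hv
    have hiso : hermForm n F 2 (C.toV n (vs.getD a [])) (C.toV n (vs.getD a [])) = 0 := by
      rw [hermForm, ← toV_dot C hv.1 hv.1, hv.2]; rfl
    obtain ⟨k1, k2⟩ := addS_spec C (dotT_lt (evalT vs W u) (vs.getD a [])) h1 hv.1
    refine ⟨k1, ?_⟩
    rw [elW, List.map_cons, List.prod_cons, actV_mul, ← elW, h2, evalT, appT, k2, trv, dif_pos hiso, actV,
      (exists_transv C hF _ hiso).choose_spec]
    funext i
    rw [tMat_mulVec, toV_dot C h1 hv.1]

theorem eq_of_sameT {vs : List (List ℕ)} (hl : letsOk n vs = true) {W W' : List ℕ}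
    (h : sameT n vs W W' = true) : (elW C hF vs W : ↥(SU n F 2)) = elW C hF vs W' := by
  simp only [sameT, Bool.and_eq_true, List.all_eq_true, List.mem_range, evalK_eq, beq_iff_eq] at h
  obtain ⟨⟨h1, h2⟩, h3⟩ := h
  refine ext_actV fun j => ?_
  rw [← toV_unitC C j, (evalT_spec C hF hl h1 (vecOk_unitC _)).2, (evalT_spec C hF hl h2 (vecOk_unitC _)).2,
    h3 j.val j.isLt]

/-- The products over the stages. -/
def prods : List (List ℕ × List (List ℕ)) → List (List ℕ)
  | [] => [[]]
  | s :: rest => s.2.flatMap fun w => (prods rest).map fun x => w ++ x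

theorem length_prods : ∀ st, (prods st).length = stagesSize st
  | [] => rfl
  | s :: rest => by
    simp [prods, List.length_flatMap, length_prods rest, stagesSize]

theorem stages_spec {vs gw : List (List ℕ)} (hl : letsOk n vs = true) {m : ℕ} :
    ∀ (st : List (List ℕ × List (List ℕ))) (fixd : List (List ℕ)), (∀ u ∈ fixd, vecOk n u = true) →
      stagesOk n vs gw m st fixd = true →
      (∀ x ∈ prods st, (∀ a ∈ x, a < m) ∧ ∀ u ∈ fixd,
        actV (elW C hF vs (PcData.expand gw x)) (C.toV n u) = C.toV n u) ∧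
      ((prods st).map fun x => (elW C hF vs (PcData.expand gw x) : ↥(SU n F 2))).Nodup := by
  intro st
  induction st with
  | nil =>
    intro fixd _ _
    refine ⟨fun x hx => ?_, by simp [prods]⟩
    simp only [prods, List.mem_singleton] at hx
    subst hx
    exact ⟨by simp, fun u _ => by simp [PcData.expand, elW, actV_one]⟩
  | cons s rest ih =>
    intro fixd hfx h
    obtain ⟨b, Ws⟩ := s
    simp only [stagesOk, Bool.and_eq_true, List.all_eq_true, Nat.blt_eq, evalK_eq, beq_iff_eq,
      decide_eq_true_eq] at h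
    obtain ⟨⟨⟨hb, hW⟩, hnd⟩, hrest⟩ := h
    obtain ⟨i1, i2⟩ := ih (b :: fixd) (List.forall_mem_cons.2 ⟨hb, hfx⟩) hrest
    have hex : ∀ w x : List ℕ, (elW C hF vs (PcData.expand gw (w ++ x)) : ↥(SU n F 2)) =
        elW C hF vs (PcData.expand gw w) * elW C hF vs (PcData.expand gw x) := fun w x => by
      rw [PcData.expand, List.flatMap_append, elW_append]; rfl
    refine ⟨fun x hx => ?_, ?_⟩
    · simp only [prods, List.mem_flatMap, List.mem_map] at hx
      obtain ⟨w, hw, y, hy, rfl⟩ := hx
      obtain ⟨⟨hwm, hwv⟩, hwf⟩ := hW w hw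
      refine ⟨fun a ha => (List.mem_append.1 ha).elim (hwm a) ((i1 y hy).1 a), fun u hu => ?_⟩
      rw [hex, actV_mul, (i1 y hy).2 u (List.mem_cons_of_mem _ hu), (evalT_spec C hF hl hwv (hfx u hu)).2, hwf u hu]
    · rw [prods, List.map_flatMap, List.nodup_flatMap]
      refine ⟨fun w _ => ?_, ?_⟩
      · rw [List.map_map]
        have : ((fun x => (elW C hF vs (PcData.expand gw x) : ↥(SU n F 2))) ∘ fun x => w ++ x) =
            fun x => elW C hF vs (PcData.expand gw w) * elW C hF vs (PcData.expand gw x) := funext fun x => hex w x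
        rw [this]
        simpa [List.map_map, Function.comp_def] using
          i2.map (mul_right_injective (elW C hF vs (PcData.expand gw w) : ↥(SU n F 2)))
      · rw [List.Nodup, List.pairwise_map] at hnd
        refine hnd.imp_of_mem fun {w w'} hw hw' hne => ?_
        intro g hg hg'
        simp only [List.mem_map] at hg hg'
        obtain ⟨_, ⟨x, hx, rfl⟩, rfl⟩ := hg
        obtain ⟨_, ⟨x', hx', rfl⟩, e⟩ := hg'
        refine hne ?_
        have e' := congrArg (fun g => actV g (C.toV n b)) e
        simp only [hex, actV_mul, (i1 x hx).2 b (List.mem_cons_self ..),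
          (i1 x' hx').2 b (List.mem_cons_self ..)] at e'
        obtain ⟨⟨-, hwv⟩, -⟩ := hW w hw
        obtain ⟨⟨-, hwv'⟩, -⟩ := hW w' hw'
        obtain ⟨a1, a2⟩ := evalT_spec C hF hl hwv hb
        obtain ⟨b1, b2⟩ := evalT_spec C hF hl hwv' hb
        rw [a2, b2] at e'
        exact (toV_inj C b1 a1 e').symm

section Transfer

variable {G : Type} [Group G] (e : ↥(SU n F 2) ≃* G)

/-- The elements of a list of words, transported. -/
noncomputable def elG (vs gw : List (List ℕ)) (i : ℕ) : G := e (elW C hF vs (gw.getD i []))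

theorem wv_elG (vs gw : List (List ℕ)) (W : List ℕ) :
    wv (elG C hF e vs gw) W = e (elW C hF vs (PcData.expand gw W)) := by
  induction W with
  | nil => simp [PcData.expand, elW]
  | cons a W ih =>
    rw [wv_cons, ih, elG, ← map_mul, ← elW_append]; rfl

theorem setting_of_relsT {vs gw fw : List (List ℕ)} (hl : letsOk n vs = true) {d : PcData}
    (h : relsT n vs gw fw d = true) : Setting d (elG C hF e vs gw) (elG C hF e vs fw) := by
  simp only [relsT, Bool.and_eq_true, List.all_eq_true, List.mem_range] at h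
  refine ⟨fun r hr => ?_, fun i hi t ht => ?_⟩
  · rw [wv_elG, wv_elG]
    exact congrArg e (eq_of_sameT C hF hl (h.1 r hr))
  · rw [wv_elG, wv_elG, elG, ← map_mul, ← map_mul, ← elW_append, ← elW_append]
    exact congrArg e (eq_of_sameT C hF hl (h.2 i hi t ht))

theorem stagesSize_le [Finite G] {vs gw : List (List ℕ)} (hl : letsOk n vs = true) {d : PcData}
    {st : List (List ℕ × List (List ℕ))} (h : stagesOk n vs gw d.n st [] = true) :
    stagesSize st ≤ Nat.card (sub d (elG C hF e vs gw)) := by
  classical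
  obtain ⟨h1, h2⟩ := stages_spec C hF hl st [] (by simp) h
  have hnd : ((prods st).map fun x => wv (elG C hF e vs gw) x).Nodup := by
    simpa [List.map_map, Function.comp_def, wv_elG] using h2.map e.injective
  rw [← length_prods, ← List.length_map (fun x => wv (elG C hF e vs gw) x), ← List.toFinset_card_of_nodup hnd]
  refine le_of_eq_of_le (Nat.card_eq_finsetCard _).symm
    (Nat.card_le_card_of_injective
      (fun z : ↥((prods st).map fun x => wv (elG C hF e vs gw) x).toFinset =>
        (⟨z.1, ?_⟩ : ↥(sub d (elG C hF e vs gw)))) ?_)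
  · obtain ⟨x, hx, e1⟩ := List.mem_map.1 (List.mem_toFinset.1 z.2)
    rw [← e1]
    exact wv_mem (K := sub d (elG C hF e vs gw)) (n := d.n)
      (fun a ha => Subgroup.subset_closure (by exact ⟨a, ha, rfl⟩)) (h1 x hx).1
  · intro z z' hz
    exact Subtype.ext (congrArg Subtype.val hz :)

end Transfer

end Field

end Cfsg.Lib.UnitMult
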