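import Cfsg.Agent.Lib.UnitMult.Filt
import Cfsg.Agent.Lib.Linear.HermParabolic

/-!
Separation of torus weights for the unitary groups, and pairs of lifts that commute for group theoretical reasons.
-/

set_option autoImplicit false

namespace Cfsg.Lib.UnitMult

open Cfsg.Lib.Linear.Herm Cfsg.Lib.Chev.MultW
open scoped commutatorElement

universe u

section LComm

variable {G Γ : Type u} [Group G] [Group Γ] {σ : Γ →* G}

/-- A product of commutators of elements commuting with `d` has lifts commuting with those of `d`. -/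
theorem lcomm_of_commutator (hs : Function.Surjective σ) (hc : σ.ker ≤ Subgroup.center Γ) {d c : G}
    (h : c ∈ ⁅Subgroup.centralizer ({d} : Set G), Subgroup.centralizer ({d} : Set G)⁆) : LComm σ c d := by
  intro C D hC hD
  let H : Subgroup Γ := (Subgroup.centralizer ({d} : Set G)).comap σ
  have hker : ∀ x : H, ⁅(x : Γ), D⁆ ∈ σ.ker := fun x => by
    rw [MonoidHom.mem_ker, map_commutatorElement, hD, commutatorElement_eq_one_iff_mul_comm]
    exact Subgroup.mem_centralizer_singleton_iff.1 x.2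
  letI : CommGroup σ.ker := { (inferInstance : Group σ.ker) with
    mul_comm := fun x y => Subtype.ext (mem_center_comm hc y.2 x) }
  let ψ : H →* σ.ker := MonoidHom.mk' (fun x => ⟨⁅(x : Γ), D⁆, hker x⟩) fun x y => Subtype.ext (by
    show ⁅(x : Γ) * y, D⁆ = ⁅(x : Γ), D⁆ * ⁅(y : Γ), D⁆
    have e := mem_center_comm hc (hker y) (x : Γ)
    rw [show ⁅(x : Γ) * y, D⁆ = (x : Γ) * ⁅(y : Γ), D⁆ * (x : Γ)⁻¹ * ⁅(x : Γ), D⁆ by
      simp only [commutatorElement_def]; group, e, mul_inv_cancel_right]
    exact (mem_center_comm hc (hker y) ⁅(x : Γ), D⁆).symm)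
  have hle : commutator H ≤ ψ.ker := by
    rw [commutator_def, Subgroup.commutator_le]
    intro a _ b _
    rw [MonoidHom.mem_ker, map_commutatorElement, commutatorElement_eq_one_iff_mul_comm]
    exact mul_comm _ _
  obtain ⟨c', hc', e⟩ : c ∈ ⁅H, H⁆.map σ := by
    rwa [Subgroup.map_commutator, Subgroup.map_comap_eq_self_of_surjective hs]
  obtain ⟨x, hx, rfl⟩ : c' ∈ (commutator H).map H.subtype := by
    rwa [commutator_def, Subgroup.map_commutator, ← MonoidHom.range_eq_map, Subgroup.range_subtype]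
  have h1 : ⁅(x : Γ), D⁆ = 1 := congrArg Subtype.val (MonoidHom.mem_ker.1 (hle hx))
  have hz : (x : Γ)⁻¹ * C ∈ σ.ker := by
    rw [MonoidHom.mem_ker, map_mul, map_inv, hC, show σ (x : Γ) = c from e, inv_mul_cancel]
  rw [commutatorElement_eq_one_iff_mul_comm] at h1
  calc C * D = (x : Γ) * (((x : Γ)⁻¹ * C) * D) := by group
    _ = (x : Γ) * (D * ((x : Γ)⁻¹ * C)) := by rw [mem_center_comm hc hz D]
    _ = D * C := by rw [← mul_assoc, h1, mul_assoc, mul_inv_cancel_left]

/-- A commutator of two elements commuting with `d`. -/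
theorem lcomm_commutator (hs : Function.Surjective σ) (hc : σ.ker ≤ Subgroup.center Γ) {d x y : G}
    (hx : x * d = d * x) (hy : y * d = d * y) : LComm σ ⁅x, y⁆ d :=
  lcomm_of_commutator hs hc (Subgroup.commutator_mem_commutator (Subgroup.mem_centralizer_singleton_iff.2 hx)
    (Subgroup.mem_centralizer_singleton_iff.2 hy))

end LComm

section Sep

variable {F : Type*} [Field F] (p : ℕ)

/-- Two weights admit no pairing into a group of exponent `p`. -/
def Sep (u v : F) : Prop := v ≠ 0 ∧ ∀ k : ℕ, u ^ p ^ k * v ≠ 1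

variable {p} [Fact p.Prime] [CharP F p]

theorem eq_one_of_pow {u : F} {k : ℕ} (h : u ^ p ^ k = 1) : u = 1 :=
  (iterateFrobenius F p k).injective (by rw [map_one, iterateFrobenius_def, h])

theorem sep_one_left {u v : F} (hu : u = 1) (hv : v ≠ 1) (hv0 : v ≠ 0) : Sep p u v :=
  ⟨hv0, fun k => by rw [hu, one_pow, one_mul]; exact hv⟩

theorem sep_one_right {u v : F} (hv : v = 1) (hu : u ≠ 1) : Sep p u v :=
  ⟨by rw [hv]; exact one_ne_zero, fun k h => hu (eq_one_of_pow (by rwa [hv, mul_one] at h))⟩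

/-- One weight lies in the subfield of order `q`, the other does not. -/
theorem sep_sub_left {q : ℕ} {u v : F} (hu : u ^ (q - 1) = 1) (hv0 : v ≠ 0) (hv : v ^ (q - 1) ≠ 1) : Sep p u v :=
  ⟨hv0, fun k h => hv (by
    have e := congrArg (· ^ (q - 1)) h
    simp only [mul_pow, one_pow, ← pow_mul, mul_comm (p ^ k)] at e
    rwa [pow_mul, hu, one_pow, one_mul] at e)⟩

theorem sep_sub_right {q : ℕ} {u v : F} (hv : v ^ (q - 1) = 1) (hv0 : v ≠ 0) (hu : u ^ (q - 1) ≠ 1) : Sep p u v :=
  ⟨hv0, fun k h => hu (eq_one_of_pow (p := p) (k := k) (by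
    have e := congrArg (· ^ (q - 1)) h
    simp only [mul_pow, one_pow, hv, mul_one] at e
    rwa [← pow_mul, mul_comm, pow_mul] at e))⟩

/-- A weight of large order pairs with no power of itself. -/
theorem sep_self [Fintype F] {q : ℕ} (hF : Fintype.card F = q ^ 2) {w : F} (hw : w ≠ 0)
    (ho : q + 1 < orderOf w) : Sep p w w := by
  refine ⟨hw, ?_⟩
  obtain ⟨f, hf⟩ : ∃ f, q = p ^ f := by
    obtain ⟨m, -, hm⟩ := FiniteField.card F p
    rw [hF] at hm
    exact ⟨((Nat.dvd_prime_pow (Fact.out : p.Prime)).1 (hm ▸ dvd_pow_self q two_ne_zero)).choose,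
      ((Nat.dvd_prime_pow (Fact.out : p.Prime)).1 (hm ▸ dvd_pow_self q two_ne_zero)).choose_spec.2⟩
  have hp : 2 ≤ p := (Fact.out : p.Prime).two_le
  have hfull : w ^ p ^ (2 * f) = w := by
    rw [mul_comm, pow_mul p, ← hf, ← hF]; exact FiniteField.pow_card w
  have hsmall : ∀ k ≤ f, w ^ p ^ k * w ≠ 1 := fun k hk h => by
    rw [← pow_succ] at h
    have h1 := Nat.le_of_dvd (Nat.succ_pos _) (orderOf_dvd_of_pow_eq_one h)
    have h2 : p ^ k ≤ q := hf ▸ Nat.pow_le_pow_right (by omega) hk
    omega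
  have hper : ∀ k m, w ^ p ^ (m * (2 * f) + k) = w ^ p ^ k := by
    intro k m
    induction m with
    | zero => simp
    | succ m ih =>
      rw [show (m + 1) * (2 * f) + k = 2 * f + (m * (2 * f) + k) by ring, pow_add, pow_mul, hfull, ih]
  intro k h
  have hf0 : 0 < f := Nat.pos_of_ne_zero fun h0 => by
    rw [h0, pow_zero] at hf
    have := two_le_q hF
    omega
  rw [← Nat.div_add_mod k (2 * f), mul_comm (2 * f), hper] at h
  set j := k % (2 * f)
  have hj : j < 2 * f := Nat.mod_lt _ (by omega)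
  rcases le_or_gt j f with hjf | hjf
  · exact hsmall j hjf h
  · refine hsmall (2 * f - j) (by omega) ?_
    have e := congrArg (· ^ p ^ (2 * f - j)) h
    simp only [mul_pow, one_pow, ← pow_mul, ← pow_add, show j + (2 * f - j) = 2 * f by omega, hfull] at e
    rwa [mul_comm] at e

end Sep

section Gen

variable {F : Type*} [Field F] [Fintype F] {q : ℕ} (hF : Fintype.card F = q ^ 2)
include hF

/-- A generator of the multiplicative group. -/
theorem exists_gen : ∃ g : Fˣ, orderOf (g : F) = q ^ 2 - 1 := by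
  obtain ⟨g, hg⟩ := IsCyclic.exists_ofOrder_eq_natCard (α := Fˣ)
  refine ⟨g, ?_⟩
  rw [orderOf_units, hg, Nat.card_units, Nat.card_eq_fintype_card, hF]

theorem exists_trace_one : ∃ t : F, t + frob hF t = 1 := by
  obtain ⟨x, hx⟩ : ∃ x : F, x + frob hF x ≠ 0 := by
    by_contra h
    push Not at h
    refine frob_ne_id hF (RingHom.ext fun x => ?_)
    have h1 := h 1
    rw [map_one] at h1
    show frob hF x = x
    linear_combination h x - x * h1
  refine ⟨x / (x + frob hF x), ?_⟩
  rw [map_div₀, map_add, frob_frob, add_comm (frob hF x) x, ← add_div, div_self hx]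

/-- The range of the trace shifted into the trace zero line. -/
theorem card_trace_zero {δ : F} (hδ0 : δ ≠ 0) (hδ : δ + frob hF δ = 0) :
    Nat.card (Set.range fun a : F => δ * (a + frob hF a)) = q := by
  obtain ⟨τ, hτ⟩ := exists_trace_one hF
  have e : (Set.range fun a : F => δ * (a + frob hF a)) = (fun y => δ * y) '' {y : F | y ^ q = y} := by
    ext x
    constructor
    · rintro ⟨a, rfl⟩
      exact ⟨a + frob hF a, by rw [Set.mem_setOf_eq, ← frob_apply hF, map_add, frob_frob, add_comm], rfl⟩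
    · rintro ⟨y, hy, rfl⟩
      refine ⟨τ * y, ?_⟩
      show δ * (τ * y + frob hF (τ * y)) = δ * y
      rw [map_mul, frob_apply hF y, hy, ← add_mul, hτ, one_mul]
  rw [e, Nat.card_image_of_injective (mul_right_injective₀ hδ0)]
  have hq := two_le_q hF
  classical
  have h2 : Nat.card {y : F | y ^ q = y} = Nat.card {a : F // a ^ q = a} := rfl
  rw [h2]
  exact Cfsg.Lib.Linear.Herm.card_fixed hF

end Gen

end Cfsg.Lib.UnitMult
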